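import Cfsg.Agent.EqualOrder.Elementary
import Cfsg.Agent.FGSB.ConjP.Main
import Cfsg.Agent.Bender.Consumers
import Cfsg.Agent.Bender.StructureMain
import Cfsg.Agent.AbelianSolvCent.Simple
import Cfsg.Agent.AutPSL.Out
import Cfsg.Agent.AutPSL.Bridge
import Cfsg.Agent.AutPSL.ClassBasics
import Cfsg.Agent.InvChar.OneSixtyEight
import Cfsg.Agent.LocalB.StrongEmbedded
import Cfsg.Agent.CTwoAbelian.Cover
import Cfsg.Agent.GWApps.QuaternionNormal
import Cfsg.Agent.GWApps.Tools
import Cfsg.Agent.S0201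
import Cfsg.Agent.S0205
import Cfsg.Agent.S0228

/-!
# Groups in which subgroups of equal order are conjugate: the quotient by the odd core
-/

set_option autoImplicit false
set_option linter.unusedSectionVars false
set_option linter.style.haveILetI false

namespace CfsgLib.EqOrder

open Subgroup

universe u

/-- `L₂(2ⁿ)`. -/
abbrev L2 (n : ℕ) : Type :=
  Matrix.ProjectiveSpecialLinearGroup (Fin 2) (GaloisField 2 n)

theorem card_field {n : ℕ} (hn : n ≠ 0) : Nat.card (GaloisField 2 n) = 2 ^ n := GaloisField.card 2 n hn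

theorem card_L2 {n : ℕ} (hn : n ≠ 0) : Nat.card (L2 n) = ((2 ^ n) ^ 2 - 1) * 2 ^ n := by
  haveI : Fintype (GaloisField 2 n) := Fintype.ofFinite _
  have hF : Fintype.card (GaloisField 2 n) = 2 ^ n := by rw [← Nat.card_eq_fintype_card, card_field hn]
  have h2 : 2 ^ 1 ≤ 2 ^ n := Nat.pow_le_pow_right (by norm_num) (Nat.pos_of_ne_zero hn)
  have hg : Nat.gcd 2 (2 ^ n - 1) = 1 := Nat.coprime_two_left.2
    (Nat.Even.sub_odd (by omega) (Even.pow_of_ne_zero even_two hn) odd_one)
  have h := CfsgLib.Linear.Small.card_psl_two hF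
  rw [hg, one_mul, show (2 ^ n) ^ 2 - 2 ^ n = (2 ^ n - 1) * 2 ^ n by rw [sq, Nat.sub_mul, one_mul]] at h
  exact Nat.eq_of_mul_eq_mul_left (show 0 < 2 ^ n - 1 by omega) (h.trans (by ring))

theorem card_aut_L2 {n : ℕ} (hn : n ≠ 0) : Nat.card (MulAut (L2 n)) = n * Nat.card (L2 n) := by
  haveI : Fintype (GaloisField 2 n) := Fintype.ofFinite _
  have hF : Fintype.card (GaloisField 2 n) = 2 ^ n := by rw [← Nat.card_eq_fintype_card, card_field hn]
  obtain ⟨ea⟩ := CfsgLib.AutPSL.nonempty_ringAut_equiv (F := GaloisField 2 n) (p := 2)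
    (Nat.pos_of_ne_zero hn) hF
  obtain ⟨E⟩ := CfsgLib.AutPSL.nonempty_inndiag_equiv_PGL (n := 2) (F := GaloisField 2 n) le_rfl
  have hg : Nat.gcd 2 (2 ^ n - 1) = 1 := Nat.coprime_two_left.2
    (Nat.Even.sub_odd Nat.one_le_two_pow (Even.pow_of_ne_zero even_two hn) odd_one)
  have hpgl : Nat.card (Matrix.ProjGenLinGroup (Fin 2) (GaloisField 2 n)) = Nat.card (L2 n) := by
    rw [CfsgLib.Linear.card_PGL, ← CfsgLib.Linear.gcd_mul_card_PSL (ι := Fin 2), Fintype.card_fin,
      card_field hn, hg, one_mul]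
  rw [CfsgLib.AutPSL.card_eq_card_mul_ker _ CfsgLib.AutPSL.fieldData_surjective,
    CfsgLib.AutPSL.ker_fieldData, Nat.card_congr E.toEquiv, Nat.card_congr ea.toEquiv,
    Nat.card_congr Multiplicative.toAdd, Nat.card_zmod, hpgl]

/-- The semiaffine group over the field with 32 elements has an element of order five. -/
theorem five_dvd_semiaffine :
    5 ∣ Nat.card (Cfsg.semiaffineGroup (GaloisField 2 5)) := by
  haveI : Fintype (GaloisField 2 5) := Fintype.ofFinite _
  obtain ⟨ea⟩ := CfsgLib.AutPSL.nonempty_ringAut_equiv (F := GaloisField 2 5) (p := 2) (f := 5)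
    (by norm_num) (by rw [← Nat.card_eq_fintype_card, card_field (by norm_num)])
  let ι : RingAut (GaloisField 2 5) →* Cfsg.semiaffineGroup (GaloisField 2 5) :=
    (RingAut.toPerm (GaloisField 2 5)).codRestrict _ fun φ => ⟨1, 0, φ, fun x => by simp; rfl⟩
  have hι : Function.Injective ι := fun φ ψ h =>
    RingEquiv.ext fun x => Equiv.congr_fun (congrArg Subtype.val h) x
  refine dvd_trans ?_ (Subgroup.card_dvd_of_injective ι hι)
  rw [Nat.card_congr ea.toEquiv, Nat.card_congr Multiplicative.toAdd, Nat.card_zmod]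

variable {X : Type u} [Group X] [Finite X]

theorem isSolvable_of_normal_sylow (S : Sylow 2 X) [(S : Subgroup X).Normal] : Group.IsSolvable X := by
  haveI : Fact (Nat.Prime 2) := ⟨Nat.prime_two⟩
  haveI := S.2.isNilpotent
  haveI : Group.IsSolvable (X ⧸ (S : Subgroup X)) := Cfsg.Agent.S0205.result (by
    rw [← index_eq_card, Nat.odd_iff, ← Nat.two_dvd_ne_zero]
    exact S.not_dvd_index)
  exact Group.isSolvable_of_ker_le_range (S : Subgroup X).subtype (QuotientGroup.mk' (S : Subgroup X))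
    (by rw [QuotientGroup.ker_mk', range_subtype])

/-- A Sylow subgroup of order four that is normal: the group is `A₄`. -/
theorem normal_two (h : AllConj X) (hO : Cfsg.oddCore X = ⊥) (S : Sylow 2 X)
    (hS : ∀ x ∈ (S : Subgroup X), x * x = 1) (h4 : Nat.card (S : Subgroup X) = 4)
    [(S : Subgroup X).Normal] : Nonempty (X ≃* alternatingGroup (Fin 4)) := by
  haveI : Fact (Nat.Prime 2) := ⟨Nat.prime_two⟩
  classical
  set I := {s : (S : Subgroup X) // s ≠ 1}
  have hI : Nat.card I = 3 := by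
    haveI := Fintype.ofFinite (S : Subgroup X)
    rw [Nat.card_eq_fintype_card, Fintype.card_subtype_compl, Fintype.card_subtype_eq,
      ← Nat.card_eq_fintype_card, h4]
  let act : MulAction X I :=
    { smul := fun g s => ⟨MulAut.conjNormal g s.1, fun e => s.2 ((MulAut.conjNormal g).map_eq_one_iff.1 e)⟩
      one_smul := fun s => Subtype.ext (show MulAut.conjNormal (1 : X) s.1 = s.1 by rw [map_one]; rfl)
      mul_smul := fun a b s => Subtype.ext (show MulAut.conjNormal (a * b) s.1 = _ by rw [map_mul]; rfl) }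
  letI := act
  have hker : (MulAction.toPermHom X I).ker = (S : Subgroup X) := by
    rw [← centralizer_eq_of_normal S hS hO]
    ext g
    rw [MonoidHom.mem_ker, mem_centralizer_iff]
    constructor
    · intro hg s hs
      by_cases h1 : s = 1
      · simp [h1]
      have h2 := congrArg (fun σ : Equiv.Perm I => ((σ ⟨⟨s, hs⟩, fun e => h1 (congrArg Subtype.val e)⟩).1 : X)) hg
      change g * s * g⁻¹ = s at h2
      exact (mul_inv_eq_iff_eq_mul.1 h2).symm
    · intro hg
      refine Equiv.ext fun s => Subtype.ext (Subtype.ext ?_)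
      show g * ((s.1 : (S : Subgroup X)) : X) * g⁻¹ = _
      rw [← hg _ s.1.2, mul_inv_cancel_right]
      rfl
  have h6 : (S : Subgroup X).index ∣ 6 := by
    rw [← hker, index_ker]
    refine dvd_trans (card_subgroup_dvd_card _) (dvd_of_eq ?_)
    rw [Nat.card_perm, hI]
    rfl
  have hodd := S.not_dvd_index
  have hne1 : (S : Subgroup X).index ≠ 1 := by
    intro h1
    have htop : (S : Subgroup X) = ⊤ := index_eq_one.1 h1
    obtain ⟨a, ha⟩ : ∃ s : (S : Subgroup X), s ≠ 1 := by
      have : Nonempty I := (Nat.card_pos_iff.1 (by rw [hI]; norm_num)).1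
      exact ⟨_, this.some.2⟩
    obtain ⟨b, hb, hba⟩ : ∃ b : (S : Subgroup X), b ≠ 1 ∧ b ≠ a := by
      by_contra hcon
      push Not at hcon
      haveI : Subsingleton I := ⟨fun s t => Subtype.ext ((hcon _ s.2).trans (hcon _ t.2).symm)⟩
      have := Finite.card_le_one_iff_subsingleton.2 ‹Subsingleton I›
      omega
    have ho : ∀ c : (S : Subgroup X), c ≠ 1 → orderOf (c : X) = 2 := fun c hc =>
      orderOf_eq_prime (by rw [sq]; exact hS _ c.2) fun e => hc (Subtype.ext e)
    obtain ⟨g, hg⟩ := h (zpowers (a : X)) (zpowers (b : X))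
      (by rw [Nat.card_zpowers, Nat.card_zpowers, ho a ha, ho b hb])
    have hga : g * (a : X) * g⁻¹ = a := by
      have hgS : g ∈ (S : Subgroup X) := htop ▸ mem_top g
      rw [(sylow_comm S hS hgS a.2).eq, mul_inv_cancel_right]
    rw [MonoidHom.map_zpowers] at hg
    change zpowers (b : X) = zpowers (g * a * g⁻¹) at hg
    rw [hga] at hg
    refine hba (Subtype.ext ?_)
    obtain ⟨i, hi⟩ := mem_zpowers_iff.1 (hg ▸ mem_zpowers (b : X))
    rw [← zpow_mod_orderOf, ho a ha] at hi
    rcases Int.emod_two_eq_zero_or_one i with h' | h' <;> push_cast at hi <;> rw [h'] at hi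
    · exact absurd (Subtype.ext (hi.symm.trans (zpow_zero _))) hb
    · exact hi.symm.trans (zpow_one _)
  have h12 : Nat.card X = 12 := by
    have hle := Nat.le_of_dvd (by norm_num) h6
    rw [← (S : Subgroup X).card_mul_index, h4]
    interval_cases (S : Subgroup X).index <;> omega
  refine Cfsg.Agent.S0228.result h12 fun z hz hzc => hne1 ?_
  have hzS : z ∈ (S : Subgroup X) := by
    rw [← S.is_maximal' ((IsPGroup.of_card (n := 1) (by rw [Nat.card_zpowers, hz, pow_one]) :
      IsPGroup 2 (zpowers z)).to_sup_of_normal_right S.2) le_sup_right]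
    exact mem_sup_left (mem_zpowers z)
  refine index_eq_one.2 ((eq_top_iff' _).2 fun g => ?_)
  rw [← centralizer_eq_of_normal S hS hO, mem_centralizer_iff]
  intro s hs
  by_cases h1 : s = 1
  · simp [h1]
  have hso : orderOf s = 2 := orderOf_eq_prime (by rw [sq]; exact hS s hs) h1
  obtain ⟨c, hc⟩ := h (zpowers z) (zpowers s) (by rw [Nat.card_zpowers, Nat.card_zpowers, hz, hso])
  rw [MonoidHom.map_zpowers] at hc
  change zpowers s = zpowers (c * z * c⁻¹) at hc
  rw [mem_center_iff.1 hzc c, mul_inv_cancel_right] at hc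
  exact ((mem_center_iff.1 ((zpowers_le.2 hzc) (hc ▸ mem_zpowers s))) g).symm

/-- An elementary abelian normal Sylow subgroup of order at least eight. -/
theorem normal_big (h : AllConj X) (hO : Cfsg.oddCore X = ⊥) (S : Sylow 2 X)
    (hS : ∀ x ∈ (S : Subgroup X), x * x = 1) {n : ℕ} (hn : 3 ≤ n)
    (hc : Nat.card (S : Subgroup X) = 2 ^ n) [(S : Subgroup X).Normal] :
    Nonempty (X ≃* Cfsg.affineGroup (GaloisField 2 3)) ∨
      Nonempty (X ≃* Cfsg.semiaffineGroup (GaloisField 2 3)) ∨
      Nonempty (X ≃* Cfsg.semiaffineGroup (GaloisField 2 5)) := by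
  haveI : Fact (Nat.Prime 2) := ⟨Nat.prime_two⟩
  haveI := isSolvable_of_normal_sylow S
  have hel : Cfsg.IsElementaryAbelian 2 (S : Subgroup X) :=
    ⟨⟨⟨fun a b => Subtype.ext (sylow_comm S hS a.2 b.2)⟩⟩, fun a ha => by rw [sq]; exact hS a ha⟩
  let e : X ⧸ Cfsg.pPrimeCore 2 X ≃* X :=
    (QuotientGroup.quotientMulEquivOfEq hO).trans QuotientGroup.quotientBot
  rcases CfsgLib.ConjP.normal_case (S : Subgroup X) S.card_coprime_index hel hn hc inferInstance
    (fun A B _ _ hAB => h A B hAB) with ⟨-, -, hcases⟩ | ⟨-, -, ⟨f⟩⟩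
  · rcases hcases rfl with ⟨⟨f⟩⟩ | ⟨⟨f⟩⟩
    · exact Or.inr (Or.inl ⟨e.symm.trans f⟩)
    · exact Or.inl ⟨e.symm.trans f⟩
  · exact Or.inr (Or.inr ⟨e.symm.trans f⟩)

/-- The normal `L₂(2ⁿ)`. -/
theorem exists_L2 (h : AllConj X) (hO : Cfsg.oddCore X = ⊥) (S : Sylow 2 X)
    (hS : ∀ x ∈ (S : Subgroup X), x * x = 1) {n : ℕ} (hn : 2 ≤ n)
    (hc : Nat.card (S : Subgroup X) = 2 ^ n) (hne : normalizer ((S : Subgroup X) : Set X) ≠ ⊤) :
    ∃ (P : Subgroup X) (_ : P.Normal) (_ : ↥P ≃* L2 n),
      P.index ∣ n ∧ Odd P.index ∧ Function.Injective (MulAut.conjNormal : X →* MulAut ↥P) := by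
  haveI : Fact (Nat.Prime 2) := ⟨Nat.prime_two⟩
  have h2 : 2 ∣ Nat.card (S : Subgroup X) := hc ▸ dvd_pow_self 2 (by omega)
  have hse := h.strongly_embedded S hS h2 hne
  have hpr : CfsgLib.Bender.PairRank X := by
    classical
    obtain ⟨a, ha⟩ := exists_prime_orderOf_dvd_card' 2 h2
    obtain ⟨b, hb⟩ : ∃ b : (S : Subgroup X), b ∉ zpowers a := by
      by_contra hcon
      push Not at hcon
      have h1 := Nat.card_le_card_of_surjective (fun z : zpowers a => (z : (S : Subgroup X)))
        fun b => ⟨⟨b, hcon b⟩, rfl⟩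
      rw [Nat.card_zpowers, ha, hc] at h1
      have h3 : 2 ^ 2 ≤ 2 ^ n := Nat.pow_le_pow_right (by norm_num) hn
      omega
    refine ⟨a, b, by rw [Subgroup.orderOf_coe, ha], ?_, fun e => hb (Subtype.ext e ▸ mem_zpowers a),
      sylow_comm S hS a.2 b.2⟩
    exact orderOf_eq_prime (by rw [sq]; exact hS _ b.2) fun e => hb ((Subtype.ext e : b = 1) ▸ one_mem _)
  let e : X ⧸ Cfsg.oddCore X ≃* X :=
    (QuotientGroup.quotientMulEquivOfEq hO).trans QuotientGroup.quotientBot
  set P₀ := Cfsg.pElementClosure 2 (⊤ : Subgroup (X ⧸ Cfsg.oddCore X))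
  set P := P₀.map e.toMonoidHom
  haveI hP₀n : P₀.Normal := CfsgLib.LocalB.pElementClosure_normal
  haveI hPn : P.Normal := hP₀n.map _ e.surjective
  have hT : CfsgLib.Bender.Consumers.Three ↥P :=
    (CfsgLib.Bender.Consumers.closure_three CfsgLib.Bender.Consumers.structure_all hse hpr).congr
      (P₀.equivMapOfInjective e.toMonoidHom e.injective).symm
  have hSP : (S : Subgroup X) ≤ P := by
    intro x hx
    refine ⟨e.symm x, ?_, e.apply_symm_apply x⟩
    obtain ⟨k, hk⟩ := IsPGroup.iff_orderOf.1 S.2 ⟨x, hx⟩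
    exact subset_closure ⟨mem_top _, k, by rw [e.symm.orderOf_eq, ← hk, Subgroup.orderOf_mk]⟩
  set T : Sylow 2 ↥P := S.subtype hSP
  have hTe : ((S : Subgroup X).subgroupOf P) = (T : Subgroup ↥P) := rfl
  haveI hTc : IsMulCommutative (T : Subgroup ↥P) := ⟨⟨fun a b =>
    Subtype.ext (Subtype.ext (sylow_comm S hS (show ((a : ↥P) : X) ∈ _ from a.2) b.2))⟩⟩
  have hTcard : Nat.card (T : Subgroup ↥P) = 2 ^ n := by
    rw [← hTe, Nat.card_congr (subgroupOfEquivOfLe hSP).toEquiv, hc]
  haveI hsimp : IsSimpleGroup ↥P := hT.isSimpleGroup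
  rcases hT with ⟨F, i1, i2, ⟨m, hm, hF⟩, ⟨f⟩⟩ | ⟨F, i1, i2, m, hm, hF, ⟨f⟩⟩ | ⟨F, i1, i2, m, hm, hF, ⟨f⟩⟩
  rotate_left
  · exact absurd hTc (CfsgLib.AbelianSolvCent.not_comm_of_suzuki hm hF f T)
  · exact absurd hTc (CfsgLib.AbelianSolvCent.not_comm_of_unitary hm hF f T)
  haveI : Fintype (GaloisField 2 m) := Fintype.ofFinite _
  obtain ⟨g⟩ := CfsgLib.InvChar.psl_congr (FiniteField.ringEquivOfCardEq (K := F) (K' := GaloisField 2 m)
    (by rw [hF, ← Nat.card_eq_fintype_card, card_field (by omega)]))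
  have hcP : Nat.card ↥P = ((2 ^ m) ^ 2 - 1) * 2 ^ m := by
    rw [Nat.card_congr (f.trans g).toEquiv]; exact card_L2 (by omega)
  have hoddm : ¬ 2 ∣ (2 ^ m) ^ 2 - 1 := by
    have h1 : 2 ∣ (2 ^ m) ^ 2 := dvd_pow (dvd_pow_self 2 (by omega)) two_ne_zero
    have h3 : 1 ≤ (2 ^ m) ^ 2 := Nat.one_le_pow _ _ (Nat.two_pow_pos m)
    omega
  obtain rfl : m = n := by
    have hA := (T : Subgroup ↥P).card_mul_index
    rw [hTcard, hcP] at hA
    refine Nat.pow_right_injective le_rfl (Nat.dvd_antisymm ?_ ?_)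
    · exact (Nat.Coprime.pow_left m ((Nat.Prime.coprime_iff_not_dvd Nat.prime_two).2 T.not_dvd_index)).dvd_of_dvd_mul_right
        (hA ▸ dvd_mul_left _ _)
    · exact (Nat.Coprime.pow_left n ((Nat.Prime.coprime_iff_not_dvd Nat.prime_two).2 hoddm)).dvd_of_dvd_mul_left
        (hA ▸ dvd_mul_right _ _)
  have hnc : ¬ ∀ a b : ↥P, a * b = b * a := by
    intro hcomm
    haveI : IsMulCommutative ↥P := ⟨⟨hcomm⟩⟩
    letI : CommGroup ↥P := { (inferInstance : Group ↥P) with mul_comm := hcomm }
    have hp := IsSimpleGroup.prime_card (α := ↥P)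
    rw [hcP] at hp
    have h3 : 2 ≤ 2 ^ m := Nat.le_self_pow (by omega) 2
    have h4 : 2 ≤ (2 ^ m) ^ 2 - 1 := by
      have := Nat.pow_le_pow_left h3 2
      omega
    exact Nat.not_prime_mul (by omega) (by omega) hp
  have hinvP : ∀ v : X, orderOf v = 2 → v ∈ P := by
    intro v hv
    obtain ⟨⟨a, haS⟩, ha⟩ := exists_prime_orderOf_dvd_card' 2 h2
    obtain ⟨c, hc'⟩ := h (zpowers a) (zpowers v) (by
      rw [Nat.card_zpowers, Nat.card_zpowers, hv, ← ha, Subgroup.orderOf_mk])
    have hv' : v ∈ (zpowers a).map (MulAut.conj c).toMonoidHom := hc' ▸ mem_zpowers v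
    obtain ⟨w, hw, rfl⟩ := hv'
    exact hPn.conj_mem w ((zpowers_le.2 (hSP haS)) hw) c
  have hinj : Function.Injective (MulAut.conjNormal : X →* MulAut ↥P) := by
    rw [← MonoidHom.ker_eq_bot_iff]
    set C := (MulAut.conjNormal : X →* MulAut ↥P).ker
    refine le_bot_iff.1 (le_trans (CfsgLib.DGroup.le_oddCore (inferInstance : C.Normal) ?_) hO.le)
    rw [← Nat.not_even_iff_odd]
    intro hev
    obtain ⟨⟨v, hvC⟩, hv⟩ := exists_prime_orderOf_dvd_card' 2 (even_iff_two_dvd.1 hev)
    rw [Subgroup.orderOf_mk] at hv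
    have hvZ : (⟨v, hinvP v hv⟩ : ↥P) ∈ center ↥P := mem_center_iff.2 fun y => by
      have h1 := congrArg Subtype.val (DFunLike.congr_fun (MonoidHom.mem_ker.1 hvC) y)
      rw [MulAut.conjNormal_apply] at h1
      exact Subtype.ext (mul_inv_eq_iff_eq_mul.1 h1).symm
    rcases (inferInstance : (center ↥P).Normal).eq_bot_or_eq_top with hb | hb
    · rw [hb, mem_bot] at hvZ
      have hv1 : v = 1 := congrArg Subtype.val hvZ
      rw [hv1, orderOf_one] at hv; omega
    · exact hnc fun a b => (mem_center_iff.1 (hb ▸ mem_top a) b).symm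
  refine ⟨P, hPn, f.trans g, ?_, ?_, hinj⟩
  · refine Nat.dvd_of_mul_dvd_mul_left (Nat.card_pos (α := ↥P)) ?_
    rw [P.card_mul_index, mul_comm (Nat.card ↥P), Nat.card_congr (f.trans g).toEquiv,
      ← card_aut_L2 (by omega)]
    exact Subgroup.card_dvd_of_injective ((MulAut.congr (f.trans g)).toMonoidHom.comp MulAut.conjNormal)
      ((MulAut.congr (f.trans g)).injective.comp hinj)
  · rw [← Nat.not_even_iff_odd, even_iff_two_dvd]
    exact fun hd => S.not_dvd_index (hd.trans (index_dvd_of_le hSP))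

/-- The Sylow subgroup is not normal. -/
theorem not_normal (h : AllConj X) (hO : Cfsg.oddCore X = ⊥) (S : Sylow 2 X)
    (hS : ∀ x ∈ (S : Subgroup X), x * x = 1) {n : ℕ} (hn : 2 ≤ n)
    (hc : Nat.card (S : Subgroup X) = 2 ^ n) (hne : normalizer ((S : Subgroup X) : Set X) ≠ ⊤) :
    (n = 2 ∧ Nonempty (X ≃* alternatingGroup (Fin 5))) ∨
    (n = 3 ∧ Nonempty (X ≃* Matrix.ProjectiveSpecialLinearGroup (Fin 2) (GaloisField 2 3))) ∨
    (n = 5 ∧ Nonempty (X ≃* MulAut (Matrix.ProjectiveSpecialLinearGroup (Fin 2) (GaloisField 2 5)))) := by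
  haveI : Fact (Nat.Prime 2) := ⟨Nat.prime_two⟩
  obtain ⟨P, hPn, e, hdvd, hodd, hinj⟩ := exists_L2 h hO S hS hn hc hne
  have hone : P.index = 1 → Nonempty (X ≃* L2 n) := fun h1 =>
    ⟨(Subgroup.topEquiv.symm.trans (MulEquiv.subgroupCongr (index_eq_one.1 h1).symm)).trans e⟩
  rcases eq_or_lt_of_le hn with rfl | hn3
  · have h1 : P.index = 1 := by
      rcases (Nat.dvd_prime Nat.prime_two).1 hdvd with h1 | h1
      · exact h1
      · rw [h1] at hodd; exact absurd hodd (by decide)
    obtain ⟨f⟩ := hone h1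
    haveI : Fintype (GaloisField 2 2) := Fintype.ofFinite _
    obtain ⟨g⟩ := CfsgLib.CTwoAbelian.nonempty_psl_two_four_alt (F := GaloisField 2 2)
      (by rw [← Nat.card_eq_fintype_card, card_field (by norm_num)]; rfl)
    exact Or.inl ⟨rfl, ⟨f.trans g⟩⟩
  -- the normalizer of the Sylow subgroup
  set N := normalizer ((S : Subgroup X) : Set X)
  have hle : (S : Subgroup X) ≤ N := le_normalizer
  set Q := S.subtype hle
  haveI : (Q : Subgroup N).Normal := (normal_subgroupOf_iff_le_normalizer hle).2 le_rfl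
  haveI := isSolvable_of_normal_sylow Q
  have hel : Cfsg.IsElementaryAbelian 2 (Q : Subgroup N) :=
    ⟨⟨⟨fun a b => Subtype.ext (Subtype.ext (sylow_comm S hS
      (show ((a : N) : X) ∈ _ from a.2) b.2))⟩⟩,
      fun a ha => Subtype.ext (by rw [SubmonoidClass.coe_pow, sq]; exact hS _ ha)⟩
  have hQc : Nat.card (Q : Subgroup N) = 2 ^ n := (Nat.card_congr (subgroupOfEquivOfLe hle).toEquiv).trans hc
  have hfus : ∀ H K : Subgroup N, H ≤ (Q : Subgroup N) → K ≤ (Q : Subgroup N) → Nat.card H = Nat.card K →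
      ∃ x : N, K = H.map (MulAut.conj x).toMonoidHom := by
    intro H K hH hK hHK
    have hH' : H.map N.subtype ≤ (S : Subgroup X) := by rintro _ ⟨x, hx, rfl⟩; exact hH hx
    have hK' : K.map N.subtype ≤ (S : Subgroup X) := by rintro _ ⟨x, hx, rfl⟩; exact hK hx
    obtain ⟨g, hg⟩ := h (H.map N.subtype) (K.map N.subtype)
      (by rw [card_map_of_injective N.subtype_injective, card_map_of_injective N.subtype_injective, hHK])
    obtain ⟨m, hm, hm'⟩ := CfsgLib.ConjP.fused_in_normalizer S
      ⟨⟨fun a b => Subtype.ext (sylow_comm S hS a.2 b.2)⟩⟩ hH' hK' hg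
    refine ⟨⟨m, hm⟩, map_injective N.subtype_injective ?_⟩
    rw [hm', Subgroup.map_map, Subgroup.map_map]
    rfl
  rcases CfsgLib.ConjP.normal_case (Q : Subgroup N) Q.card_coprime_index hel hn3 hQc inferInstance hfus
    with ⟨rfl, -, -⟩ | ⟨rfl, -, ⟨q⟩⟩
  · refine Or.inr (Or.inl ⟨rfl, hone ?_⟩)
    rcases (Nat.dvd_prime Nat.prime_three).1 hdvd with h1 | h3
    · exact h1
    exfalso
    haveI : Fact (Nat.Prime 3) := ⟨Nat.prime_three⟩
    let ψ : X →* MulAut (L2 3) := (MulAut.congr e).toMonoidHom.comp MulAut.conjNormal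
    have hψi : Function.Injective ψ := (MulAut.congr e).injective.comp hinj
    have hψP : ∀ p : ↥P, ψ (p : X) = MulAut.conj (e p) := by
      intro p
      refine MulEquiv.ext fun z => ?_
      show e (MulAut.conjNormal (p : X) (e.symm z)) = e p * z * (e p)⁻¹
      rw [show MulAut.conjNormal (p : X) (e.symm z) = p * e.symm z * p⁻¹ from Subtype.ext rfl,
        map_mul, map_mul, map_inv, e.apply_symm_apply]
    haveI : Finite (MulAut (L2 3)) := Nat.finite_of_card_ne_zero (by
      rw [card_aut_L2 (by norm_num), card_L2 (by norm_num)]; norm_num)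
    have hψb := hψi.bijective_of_nat_card_le (by
      rw [card_aut_L2 (by norm_num), ← P.card_mul_index, h3, Nat.card_congr e.toEquiv, mul_comm])
    haveI : Fintype (GaloisField 2 3) := Fintype.ofFinite _
    obtain ⟨ea⟩ := CfsgLib.AutPSL.nonempty_ringAut_equiv (F := GaloisField 2 3) (p := 2) (f := 3)
      (by norm_num) (by rw [← Nat.card_eq_fintype_card, card_field (by norm_num)])
    haveI : Finite (RingAut (GaloisField 2 3)) := Finite.of_equiv _ ea.symm.toEquiv
    obtain ⟨σ, hσ⟩ := exists_prime_orderOf_dvd_card' (G := RingAut (GaloisField 2 3)) 3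
      (by rw [Nat.card_congr ea.toEquiv, Nat.card_congr Multiplicative.toAdd, Nat.card_zmod])
    obtain ⟨x, hx⟩ := hψb.2 (CfsgLib.AutPSL.semiAut 1 σ)
    have hxo : orderOf x = 3 := by
      rw [← orderOf_injective ψ hψi x, hx, CfsgLib.AutPSL.orderOf_semiAut_one le_rfl, hσ]
    obtain ⟨y, hy⟩ := exists_prime_orderOf_dvd_card' (G := ↥P) 3
      (by rw [Nat.card_congr e.toEquiv, card_L2 (by norm_num)]; norm_num)
    obtain ⟨c, hc'⟩ := h (zpowers (y : X)) (zpowers x)
      (by rw [Nat.card_zpowers, Nat.card_zpowers, Subgroup.orderOf_coe, hy, hxo])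
    have hxP : x ∈ P := by
      have hx' : x ∈ (zpowers (y : X)).map (MulAut.conj c).toMonoidHom := hc' ▸ mem_zpowers x
      obtain ⟨w, hw, hwx⟩ := hx'
      rw [← hwx]
      exact hPn.conj_mem w ((zpowers_le.2 y.2) hw) c
    have h4 := (hψP ⟨x, hxP⟩).symm.trans hx
    obtain ⟨k, hk⟩ := QuotientGroup.mk_surjective (e ⟨x, hxP⟩)
    rw [← hk, ← CfsgLib.AutPSL.semiAut_toGL] at h4
    have hσ1 : σ = 1 := (CfsgLib.AutPSL.semiAut_eq_semiAut le_rfl h4).1.symm
    rw [hσ1, orderOf_one] at hσ
    omega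
  · refine Or.inr (Or.inr ⟨rfl, ?_⟩)
    have h5 : P.index = 5 := by
      rcases (Nat.dvd_prime Nat.prime_five).1 hdvd with h1 | h1
      · exfalso
        have h6 : 5 ∣ Nat.card X := by
          refine five_dvd_semiaffine.trans ?_
          rw [← Nat.card_congr q.toEquiv]
          exact (card_quotient_dvd_card _).trans (card_subgroup_dvd_card N)
        rw [← P.card_mul_index, h1, mul_one, Nat.card_congr e.toEquiv, card_L2 (by norm_num)] at h6
        norm_num at h6
      · exact h1
    haveI : Finite (MulAut (L2 5)) := Nat.finite_of_card_ne_zero (by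
      rw [card_aut_L2 (by norm_num), card_L2 (by norm_num)]; norm_num)
    exact ⟨MulEquiv.ofBijective ((MulAut.congr e).toMonoidHom.comp MulAut.conjNormal)
      (Function.Injective.bijective_of_nat_card_le ((MulAut.congr e).injective.comp hinj) (by
        rw [card_aut_L2 (by norm_num), ← P.card_mul_index, h5, Nat.card_congr e.toEquiv, mul_comm]))⟩

/-- Elementary abelian Sylow 2-subgroups. -/
theorem elementary_cases (h : AllConj X) (hO : Cfsg.oddCore X = ⊥) (S : Sylow 2 X)
    (hS : ∀ x ∈ (S : Subgroup X), x * x = 1) {n : ℕ} (hn : 2 ≤ n)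
    (hc : Nat.card (S : Subgroup X) = 2 ^ n) :
    (n = 2 ∧ (Nonempty (X ≃* alternatingGroup (Fin 4)) ∨ Nonempty (X ≃* alternatingGroup (Fin 5)))) ∨
    (3 ≤ n ∧ (Nonempty (X ≃* Cfsg.affineGroup (GaloisField 2 3)) ∨
      Nonempty (X ≃* Cfsg.semiaffineGroup (GaloisField 2 3)) ∨
      Nonempty (X ≃* Cfsg.semiaffineGroup (GaloisField 2 5)) ∨
      Nonempty (X ≃* Matrix.ProjectiveSpecialLinearGroup (Fin 2) (GaloisField 2 3)) ∨
      Nonempty (X ≃* MulAut (Matrix.ProjectiveSpecialLinearGroup (Fin 2) (GaloisField 2 5))))) := by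
  by_cases hne : normalizer ((S : Subgroup X) : Set X) = ⊤
  · haveI : (S : Subgroup X).Normal := normalizer_eq_top_iff.1 hne
    rcases eq_or_lt_of_le hn with rfl | hn3
    · exact Or.inl ⟨rfl, Or.inl (normal_two h hO S hS hc)⟩
    · refine Or.inr ⟨hn3, ?_⟩
      rcases normal_big h hO S hS hn3 hc with h' | h' | h'
      · exact Or.inl h'
      · exact Or.inr (Or.inl h')
      · exact Or.inr (Or.inr (Or.inl h'))
  · rcases not_normal h hO S hS hn hc hne with ⟨rfl, h'⟩ | ⟨rfl, h'⟩ | ⟨rfl, h'⟩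
    · exact Or.inl ⟨rfl, Or.inr h'⟩
    · exact Or.inr ⟨le_rfl, Or.inr (Or.inr (Or.inr (Or.inl h')))⟩
    · exact Or.inr ⟨by norm_num, Or.inr (Or.inr (Or.inr (Or.inr h')))⟩

theorem quaternion_squares : ∀ p q : QuaternionGroup 2,
    p ≠ 1 → p * p = 1 → (q * q = 1 ∨ q * q = p) := by
  decide

theorem quaternion_generated : ∀ q : QuaternionGroup 2, q * q = 1 → q = 1 ∨ q = QuaternionGroup.a 1 * QuaternionGroup.a 1 := by
  decide

/-- Quaternion Sylow 2-subgroups. -/
theorem quaternion_case (h : AllConj X) (hO : Cfsg.oddCore X = ⊥) (S : Sylow 2 X)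
    (e : (S : Subgroup X) ≃* QuaternionGroup 2) :
    Nonempty (X ≃* Matrix.SpecialLinearGroup (Fin 2) (ZMod 3)) ∨
    Nonempty (X ≃* Matrix.SpecialLinearGroup (Fin 2) (ZMod 5)) := by
  haveI : Fact (Nat.Prime 2) := ⟨Nat.prime_two⟩
  have hZ : Nat.card (center X) = 2 := Cfsg.Agent.S0201.result S 0 e fun N hN hodd =>
    le_bot_iff.1 ((CfsgLib.DGroup.le_oddCore hN hodd).trans hO.le)
  have hZp : IsPGroup 2 (center X) := IsPGroup.of_card (n := 1) (by rw [hZ, pow_one])
  have hZS : center X ≤ (S : Subgroup X) := by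
    rw [← S.is_maximal' (hZp.to_sup_of_normal_left S.2) le_sup_right]
    exact le_sup_left
  have hS8 : Nat.card (S : Subgroup X) = 8 := by
    rw [Nat.card_congr e.toEquiv, Nat.card_eq_fintype_card, QuaternionGroup.card]
  -- no subgroup of index two
  have h2 : ∀ M : Subgroup X, M.index ≠ 2 := by
    intro M hM
    haveI : M.Normal := normal_of_index_eq_two hM
    set a : X := ((e.symm (QuaternionGroup.a 1) : (S : Subgroup X)) : X)
    have ha : orderOf a = 4 := by
      rw [Subgroup.orderOf_coe, e.symm.orderOf_eq, QuaternionGroup.orderOf_a_one]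
    have hM4 : ∃ x ∈ M, orderOf x = 4 := by
      have hcard : 4 ∣ Nat.card ↥(M ⊓ (S : Subgroup X)) := by
        have hrel : M.relIndex (S : Subgroup X) ∣ 2 := (relIndex_dvd_index_of_normal M _).trans (dvd_of_eq hM)
        have hmul := ((M.subgroupOf (S : Subgroup X))).card_mul_index
        rw [hS8] at hmul
        rw [← Nat.card_congr (subgroupOfEquivOfLe (inf_le_right : M ⊓ (S : Subgroup X) ≤ _)).toEquiv,
          inf_subgroupOf_right]
        rcases (Nat.dvd_prime Nat.prime_two).1 hrel with h1 | h1 <;> unfold relIndex at h1 <;>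
          rw [h1] at hmul <;> omega
      by_contra hcon
      push Not at hcon
      -- all elements of the intersection square to one
      have hsq : ∀ z : ↥(M ⊓ (S : Subgroup X)), (z : X) ∈ ({1, a * a} : Set X) := by
        rintro ⟨z, hzM, hzS⟩
        obtain ⟨k, hk⟩ := IsPGroup.iff_orderOf.1 S.2 ⟨z, hzS⟩
        rw [Subgroup.orderOf_mk] at hk
        have hk1 : k ≤ 1 := by
          by_contra hlt
          refine hcon (z ^ 2 ^ (k - 2)) (pow_mem hzM _) ?_
          rw [orderOf_pow' z (by positivity), hk, Nat.gcd_eq_right (pow_dvd_pow 2 (Nat.sub_le k 2)),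
            Nat.pow_div (Nat.sub_le k 2) two_pos, show k - (k - 2) = 2 by omega]
          rfl
        have hz2 : z * z = 1 := by
          rw [← sq, ← orderOf_dvd_iff_pow_eq_one, hk]; exact pow_dvd_pow 2 hk1
        rcases quaternion_generated (e ⟨z, hzS⟩) (by rw [← map_mul, ← map_one e]; exact congrArg e (Subtype.ext hz2))
          with h1 | h1
        · exact Or.inl (congrArg Subtype.val (e.map_eq_one_iff.1 h1))
        · refine Or.inr ?_
          have h3 := congrArg e.symm h1
          rw [e.symm_apply_apply, map_mul] at h3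
          exact congrArg Subtype.val h3
      have hle : Nat.card ↥(M ⊓ (S : Subgroup X)) ≤ Nat.card ({1, a * a} : Set X) :=
        Nat.card_le_card_of_injective (fun z => ⟨z, hsq z⟩) fun z w hzw =>
          Subtype.ext (congrArg (fun t : ({1, a * a} : Set X) => (t : X)) hzw)
      have h22 : Nat.card ({1, a * a} : Set X) ≤ 2 := by
        rw [Nat.card_coe_set_eq]
        exact (Set.ncard_insert_le _ _).trans (by rw [Set.ncard_singleton])
      have := Nat.le_of_dvd Nat.card_pos hcard
      omega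
    obtain ⟨x, hxM, hx⟩ := hM4
    have hall : ∀ y : X, orderOf y = 4 → y ∈ M := by
      intro y hy
      obtain ⟨g, hg⟩ := h (zpowers x) (zpowers y) (by rw [Nat.card_zpowers, Nat.card_zpowers, hx, hy])
      obtain ⟨w, hw, hwy⟩ : y ∈ (zpowers x).map (MulAut.conj g).toMonoidHom := hg ▸ mem_zpowers y
      rw [← hwy]
      exact (inferInstance : M.Normal).conj_mem w ((zpowers_le.2 hxM) hw) g
    have hSM : (S : Subgroup X) ≤ M := by
      intro z hz
      by_cases hz4 : orderOf z = 4
      · exact hall z hz4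
      · have hcases : ∀ q : QuaternionGroup 2, q ^ 2 = 1 ∨ (q ^ 2 ≠ 1 ∧ q ^ 4 = 1) := by decide
        rcases hcases (e ⟨z, hz⟩) with h1 | ⟨h1, h4⟩
        · rcases quaternion_generated (e ⟨z, hz⟩) (by rwa [← sq]) with h3 | h3
          · have : z = 1 := congrArg Subtype.val (e.map_eq_one_iff.1 h3)
            rw [this]; exact one_mem M
          · have h5 := congrArg e.symm h3
            rw [e.symm_apply_apply, map_mul] at h5
            rw [show z = a * a from congrArg Subtype.val h5]
            exact mul_mem (hall a ha) (hall a ha)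
        · exfalso
          apply hz4
          have ho : orderOf (e ⟨z, hz⟩) = 2 ^ (1 + 1) := orderOf_eq_prime_pow (by simpa using h1) (by simpa using h4)
          rw [e.orderOf_eq, Subgroup.orderOf_mk] at ho
          exact ho
    exact S.not_dvd_index ((dvd_of_eq hM.symm).trans (index_dvd_of_le hSM))
  -- the quotient by the centre
  haveI : (center X).Normal := inferInstance
  set π := QuotientGroup.mk' (center X)
  have hπ : Function.Surjective π := QuotientGroup.mk'_surjective _
  set T := S.mapSurjective (f := π) hπ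
  have hTS : ∀ y ∈ (T : Subgroup (X ⧸ center X)), y * y = 1 := by
    rintro _ ⟨x, hx, rfl⟩
    rw [← map_mul]
    refine (QuotientGroup.eq_one_iff _).2 ?_
    haveI : Nontrivial (center X) := by
      rw [← Finite.one_lt_card_iff_nontrivial, hZ]; norm_num
    obtain ⟨z, hz⟩ := exists_ne (1 : center X)
    have hzz : (z : X) * z = 1 := by
      have := orderOf_dvd_natCard z
      rw [hZ, orderOf_dvd_iff_pow_eq_one, sq] at this
      exact congrArg Subtype.val this
    rcases quaternion_squares (e ⟨z, hZS z.2⟩) (e ⟨x, hx⟩)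
      (fun h1 => hz (Subtype.ext (show (z : X) = 1 from congrArg Subtype.val (e.map_eq_one_iff.1 h1))))
      (by rw [← map_mul, ← map_one e]; exact congrArg e (Subtype.ext hzz)) with h1 | h1
    · rw [← map_mul, e.map_eq_one_iff] at h1
      rw [show x * x = 1 from congrArg Subtype.val h1]
      exact one_mem _
    · rw [← map_mul] at h1
      rw [show x * x = z from congrArg Subtype.val (e.injective h1)]
      exact z.2
  have hTc : Nat.card (T : Subgroup (X ⧸ center X)) = 2 ^ 2 := by
    have hk : Nat.card ↥((center X).subgroupOf (S : Subgroup X)) = 2 := by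
      rw [Nat.card_congr (subgroupOfEquivOfLe hZS).toEquiv, hZ]
    have hrange : (π.comp (S : Subgroup X).subtype).range = (T : Subgroup (X ⧸ center X)) := by
      rw [MonoidHom.range_comp, range_subtype]; rfl
    have hker : (π.comp (S : Subgroup X).subtype).ker = (center X).subgroupOf (S : Subgroup X) := by
      rw [← MonoidHom.comap_ker, QuotientGroup.ker_mk']; rfl
    have h1 := ((center X).subgroupOf (S : Subgroup X)).card_mul_index
    rw [← hker, index_ker, hrange, hker, hk, hS8] at h1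
    norm_num
    omega
  rcases elementary_cases (h.quotient _) (CfsgLib.GWApps.oddCore_quotient_central hZ hO) T hTS le_rfl hTc with
    ⟨-, ⟨⟨f⟩⟩ | ⟨⟨f⟩⟩⟩ | ⟨h3, -⟩
  · -- `SL₂(3)`
    left
    haveI : Group.IsSolvable X := CfsgLib.Char.isSolvable_of_card_eq 2 3 3 1 Nat.prime_two Nat.prime_three (by
      rw [card_eq_card_quotient_mul_card_subgroup (center X), hZ, Nat.card_congr f.toEquiv,
        nat_card_alternatingGroup, Nat.card_fin]
      rfl)
    haveI : Group.IsSolvable (⊤ : Subgroup X) := inferInstance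
    refine (CfsgLib.GWApps.QNormal.solvable_case (H := X) (K := ⊤) ?_ ?_ ?_).map fun g =>
      Subgroup.topEquiv.symm.trans g
    · intro P
      refine ⟨1, le_rfl, ⟨?_⟩⟩
      have e1 : (P : Subgroup (⊤ : Subgroup X)) ≃* ((S.subtype (le_top : (S : Subgroup X) ≤ ⊤)) : Subgroup (⊤ : Subgroup X)) :=
        P.equiv _
      exact e1.trans ((subgroupOfEquivOfLe (le_top : (S : Subgroup X) ≤ ⊤)).trans e)
    · refine le_bot_iff.1 fun x hx => ?_
      have hn : ((Cfsg.oddCore (⊤ : Subgroup X)).map (⊤ : Subgroup X).subtype).Normal :=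
        (inferInstance : (Cfsg.oddCore (⊤ : Subgroup X)).Normal).map _
          fun y => ⟨⟨y, mem_top y⟩, rfl⟩
      have hle := CfsgLib.DGroup.le_oddCore hn (by
        rw [card_map_of_injective (⊤ : Subgroup X).subtype_injective]
        exact CfsgLib.DGroup.odd_oddCore _)
      have := hle ⟨x, hx, rfl⟩
      rw [hO, mem_bot] at this
      exact mem_bot.2 (Subtype.ext this)
    · intro M hM
      refine h2 (M.map (⊤ : Subgroup X).subtype) ?_
      rw [index_map_subtype, hM, index_top, mul_one]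
  · -- `SL₂(5)`
    right
    haveI : IsSimpleGroup (X ⧸ center X) :=
      f.isSimpleGroup
    have hperf : commutator X = ⊤ := by
      set D := commutator X
      have hA : commutator (X ⧸ center X) = ⊤ := by
        rcases (inferInstance : (commutator (X ⧸ center X)).Normal).eq_bot_or_eq_top with hb | hb
        · exfalso
          have hcomm : ∀ a b : X ⧸ center X, a * b = b * a := fun a b =>
            commutatorElement_eq_one_iff_mul_comm.1 ((mem_bot).1 (hb ▸
              commutator_mem_commutator (mem_top a) (mem_top b)))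
          letI : CommGroup (X ⧸ center X) :=
            { (inferInstance : Group (X ⧸ center X)) with mul_comm := hcomm }
          have hp := IsSimpleGroup.prime_card (α := X ⧸ center X)
          rw [Nat.card_congr f.toEquiv, nat_card_alternatingGroup, Nat.card_fin] at hp
          norm_num [Nat.factorial] at hp
        · exact hb
      have hDmap : D.map π = ⊤ := by
        show (commutator X).map π = ⊤
        rw [← hA, _root_.commutator_def, _root_.commutator_def, map_commutator,
          Subgroup.map_top_of_surjective π hπ]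
      have htop : D ⊔ center X = ⊤ := by
        have := Subgroup.comap_map_eq π D
        rw [hDmap, comap_top, QuotientGroup.ker_mk'] at this
        exact this.symm
      by_contra hne
      apply h2 D
      have h5 : D.index ∣ 2 := by
        have := relIndex_sup_right (H := center X) (K := D)
        rw [sup_comm, htop, relIndex_top_right] at this
        rw [this, ← hZ]
        exact relIndex_dvd_card _ _
      rcases (Nat.dvd_prime Nat.prime_two).1 h5 with h6 | h6
      · exact absurd (index_eq_one.1 h6) hne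
      · exact h6
    have hq : Cfsg.IsQuasisimple X := ⟨⟨hperf⟩, inferInstance⟩
    rcases CfsgLib.CTwoAbelian.center_cases hq hZp f with hb | hg
    · rw [hb, card_bot] at hZ; omega
    · exact hg
  · omega

/-- The classification of the quotient by the odd core. -/
theorem classify (h : AllConj X) (hO : Cfsg.oddCore X = ⊥) :
    (IsCyclic X ∧ IsPGroup 2 X) ∨
    Nonempty (X ≃* Cfsg.affineGroup (GaloisField 2 3)) ∨
    Nonempty (X ≃* Cfsg.semiaffineGroup (GaloisField 2 3)) ∨
    Nonempty (X ≃* Cfsg.semiaffineGroup (GaloisField 2 5)) ∨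
    Nonempty (X ≃* Matrix.ProjectiveSpecialLinearGroup (Fin 2) (GaloisField 2 3)) ∨
    Nonempty (X ≃* MulAut (Matrix.ProjectiveSpecialLinearGroup (Fin 2) (GaloisField 2 5))) ∨
    Nonempty (X ≃* alternatingGroup (Fin 4)) ∨
    Nonempty (X ≃* alternatingGroup (Fin 5)) ∨
    Nonempty (X ≃* Matrix.SpecialLinearGroup (Fin 2) (ZMod 3)) ∨
    Nonempty (X ≃* Matrix.SpecialLinearGroup (Fin 2) (ZMod 5)) := by
  haveI : Fact (Nat.Prime 2) := ⟨Nat.prime_two⟩
  obtain ⟨S⟩ : Nonempty (Sylow 2 X) := inferInstance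
  have hcyc : IsCyclic (S : Subgroup X) → IsCyclic X ∧ IsPGroup 2 X := by
    intro hS
    haveI := hS
    have htop : (S : Subgroup X) = ⊤ := by
      by_cases h2 : 2 ∣ Nat.card X
      · obtain ⟨R, hRn, hRo, hall⟩ := CfsgLib.DGroup.exists_compl_of_burnside S
          (IsCyclic.normalizer_le_centralizer (P := S) ((Nat.minFac_eq_two_iff _).2 h2) hS)
        have hR : R = ⊥ := le_bot_iff.1 ((CfsgLib.DGroup.le_oddCore hRn hRo).trans hO.le)
        refine (S.is_maximal' (Q := ⊤) ?_ le_top).symm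
        intro a
        obtain ⟨k, m, hm, hk⟩ := Nat.exists_eq_two_pow_mul_odd (orderOf_pos (a : X)).ne'
        refine ⟨k, Subtype.ext ?_⟩
        have hmem : (a : X) ^ 2 ^ k ∈ R := hall _ (by
          rw [orderOf_pow' _ (by positivity), hk, Nat.gcd_eq_right (dvd_mul_right _ m),
            Nat.mul_div_cancel_left _ (by positivity)]
          exact hm)
        rw [hR, mem_bot] at hmem
        simpa using hmem
      · have hodd : Odd (Nat.card (⊤ : Subgroup X)) := by
          rw [card_top, Nat.odd_iff, ← Nat.two_dvd_ne_zero]; exact h2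
        have h1 := CfsgLib.DGroup.le_oddCore (inferInstance : (⊤ : Subgroup X).Normal) hodd
        rw [hO] at h1
        exact le_antisymm le_top (h1.trans bot_le)
    refine ⟨?_, ?_⟩
    · exact isCyclic_of_surjective (S : Subgroup X).subtype fun x => ⟨⟨x, htop ▸ mem_top x⟩, rfl⟩
    · exact S.2.of_surjective (S : Subgroup X).subtype fun x => ⟨⟨x, htop ▸ mem_top x⟩, rfl⟩
  rcases h.sylow_cases S with hS | ⟨⟨e⟩⟩ | hS
  · exact Or.inl (hcyc hS)
  · rcases quaternion_case h hO S e with hg | hg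
    · exact Or.inr (Or.inr (Or.inr (Or.inr (Or.inr (Or.inr (Or.inr (Or.inr (Or.inl hg))))))))
    · exact Or.inr (Or.inr (Or.inr (Or.inr (Or.inr (Or.inr (Or.inr (Or.inr (Or.inr hg))))))))
  · obtain ⟨n, hn⟩ := IsPGroup.iff_card.1 S.2
    rcases Nat.lt_or_ge n 2 with hn2 | hn2
    · refine Or.inl (hcyc ?_)
      rcases Nat.eq_zero_or_pos n with rfl | hpos
      · haveI : Subsingleton (S : Subgroup X) :=
          (Nat.card_eq_one_iff_unique.1 (by rw [hn, pow_zero])).1
        exact isCyclic_of_subsingleton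
      · exact isCyclic_of_prime_card (p := 2) (by rw [hn, show n = 1 by omega, pow_one])
    rcases elementary_cases h hO S hS hn2 hn with ⟨-, hg | hg⟩ | ⟨-, hg | hg | hg | hg | hg⟩
    · exact Or.inr (Or.inr (Or.inr (Or.inr (Or.inr (Or.inr (Or.inl hg))))))
    · exact Or.inr (Or.inr (Or.inr (Or.inr (Or.inr (Or.inr (Or.inr (Or.inl hg)))))))
    · exact Or.inr (Or.inl hg)
    · exact Or.inr (Or.inr (Or.inl hg))
    · exact Or.inr (Or.inr (Or.inr (Or.inl hg)))
    · exact Or.inr (Or.inr (Or.inr (Or.inr (Or.inl hg))))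
    · exact Or.inr (Or.inr (Or.inr (Or.inr (Or.inr (Or.inl hg)))))

end CfsgLib.EqOrder
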