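import Cfsg.Agent.EqualOrder.Thin
import Cfsg.Agent.DGroup.Fusion
import Cfsg.Agent.Invol.StrongEmbedded
import Cfsg.Prelude.Def_Involutions

/-!
# Groups in which subgroups of equal order are conjugate: the Sylow 2-subgroups
-/

set_option autoImplicit false
set_option linter.unusedSectionVars false
set_option linter.style.haveILetI false

namespace CfsgLib.EqOrder

open Subgroup

universe u

variable {G : Type u} [Group G] [Finite G]

/-- The property passes to quotients. -/
theorem AllConj.quotient (h : AllConj G) (N : Subgroup G) [N.Normal] : AllConj (G ⧸ N) := by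
  intro A B hAB
  set π := QuotientGroup.mk' N
  have hs : Function.Surjective π := QuotientGroup.mk'_surjective N
  have hc : ∀ A : Subgroup (G ⧸ N), Nat.card ↥(A.comap π) = Nat.card N * Nat.card A := by
    intro A
    have h1 := (A.comap π).card_mul_index
    rw [index_comap_of_surjective A hs, Subgroup.card_eq_card_quotient_mul_card_subgroup N,
      ← A.card_mul_index] at h1
    exact Nat.eq_of_mul_eq_mul_right (Nat.pos_of_ne_zero index_ne_zero_of_finite) (h1.trans (by ring))
  obtain ⟨g, hg⟩ := h (A.comap π) (B.comap π) (by rw [hc, hc, hAB])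
  refine ⟨π g, ?_⟩
  conv_lhs => rw [← map_comap_eq_self_of_surjective hs B, hg]
  conv_rhs => rw [← map_comap_eq_self_of_surjective hs A]
  rw [Subgroup.map_map, Subgroup.map_map]
  exact congrArg (fun f => Subgroup.map f (A.comap π)) (MonoidHom.ext fun x => by simp)

/-- A subgroup of the order of a cyclic subgroup is cyclic. -/
theorem AllConj.exists_gen (h : AllConj G) {A : Subgroup G} {x : G}
    (hc : Nat.card A = orderOf x) : ∃ y : G, orderOf y = orderOf x ∧ A = zpowers y := by
  obtain ⟨g, hg⟩ := h (zpowers x) A (by rw [Nat.card_zpowers, hc])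
  refine ⟨g * x * g⁻¹, ?_, by rw [hg, MonoidHom.map_zpowers]; rfl⟩
  exact orderOf_injective (MulAut.conj g).toMonoidHom (MulAut.conj g).injective x

/-- Two commuting involutions span a four group. -/
theorem card_four {a b : G} (ha : orderOf a = 2) (hb : orderOf b = 2) (hab : Commute a b) (hne : a ≠ b) :
    Nat.card ↥(zpowers a ⊔ zpowers b) = 4 := by
  have hn : zpowers a ≤ normalizer (zpowers b : Set G) := by
    refine le_trans (zpowers_le.2 (mem_centralizer_iff.2 fun y hy => ?_)) (centralizer_le_normalizer _)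
    obtain ⟨i, rfl⟩ := mem_zpowers_iff.1 hy
    exact (hab.zpow_right i).symm.eq
  rw [CfsgLib.Solvable.card_sup_of_disjoint hn, Nat.card_zpowers, Nat.card_zpowers, ha, hb]
  rw [eq_bot_iff]
  rintro y ⟨hy, hy'⟩
  rw [mem_bot]
  haveI : Fact (Nat.Prime 2) := ⟨Nat.prime_two⟩
  by_contra hy1
  have key : ∀ c : G, orderOf c = 2 → y ∈ zpowers c → y = c := by
    intro c hc hy
    obtain ⟨i, rfl⟩ := mem_zpowers_iff.1 hy
    rw [← zpow_mod_orderOf, hc] at hy1 ⊢
    rcases Int.emod_two_eq_zero_or_one i with h | h <;> push_cast at * <;> rw [h] at hy1 ⊢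
    · exact absurd (zpow_zero c) hy1
    · exact zpow_one c
  exact hne ((key a ha hy).symm.trans (key b hb hy'))

/-- The Sylow 2-subgroups. -/
theorem AllConj.sylow_cases (h : AllConj G) (S : Sylow 2 G) :
    IsCyclic (S : Subgroup G) ∨ Nonempty ((S : Subgroup G) ≃* QuaternionGroup 2) ∨
      ∀ x ∈ (S : Subgroup G), x * x = 1 := by
  haveI : Fact (Nat.Prime 2) := ⟨Nat.prime_two⟩
  by_cases hexp : ∀ x ∈ (S : Subgroup G), x * x = 1
  · exact Or.inr (Or.inr hexp)
  push Not at hexp
  obtain ⟨w, hw, hw2⟩ := hexp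
  obtain ⟨k, hk⟩ := IsPGroup.iff_orderOf.1 S.2 ⟨w, hw⟩
  rw [Subgroup.orderOf_mk] at hk
  have hk2 : 2 ≤ k := by
    by_contra hlt
    apply hw2
    rw [← sq, ← orderOf_dvd_iff_pow_eq_one, hk]
    exact pow_dvd_pow 2 (show k ≤ 1 by omega)
  obtain ⟨x, hxS, hx4⟩ : ∃ x ∈ (S : Subgroup G), orderOf x = 4 := by
    refine ⟨w ^ 2 ^ (k - 2), pow_mem hw _, ?_⟩
    rw [orderOf_pow' w (by positivity), hk, Nat.gcd_eq_right (pow_dvd_pow 2 (Nat.sub_le k 2)),
      Nat.pow_div (Nat.sub_le k 2) two_pos, show k - (k - 2) = 2 by omega]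
    rfl
  -- one involution
  have huniq : ∀ a b : G, orderOf a = 2 → orderOf b = 2 → Commute a b → a = b := by
    intro a b ha hb hab
    by_contra hne
    obtain ⟨y, hy, hV⟩ := h.exists_gen (x := x) ((card_four ha hb hab hne).trans hx4.symm)
    have hin : ∀ c : G, orderOf c = 2 → c ∈ zpowers y → c = y * y := by
      intro c hc hmem
      obtain ⟨i, rfl⟩ := mem_zpowers_iff.1 hmem
      have hy4 : orderOf y = 4 := hy.trans hx4
      rw [← zpow_mod_orderOf, hy4] at hc ⊢
      rcases (show i % 4 = 0 ∨ i % 4 = 1 ∨ i % 4 = 2 ∨ i % 4 = 3 by omega) with h' | h' | h' | h' <;>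
        push_cast at * <;> rw [h'] at hc ⊢
      · simp at hc
      · rw [zpow_one, hy4] at hc; omega
      · rw [show (2 : ℤ) = (2 : ℕ) from rfl, zpow_natCast, sq]
      · rw [show (3 : ℤ) = (3 : ℕ) from rfl, zpow_natCast, orderOf_pow' y (by norm_num), hy4] at hc
        norm_num at hc
    exact hne ((hin a ha (hV ▸ mem_sup_left (mem_zpowers a))).trans
      (hin b hb (hV ▸ mem_sup_right (mem_zpowers b))).symm)
  have hS1 : ∀ a b : (S : Subgroup G), orderOf a = 2 → orderOf b = 2 → b ∈ zpowers a := by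
    intro a b ha hb
    obtain ⟨z, -, hz, hzc⟩ := exists_central_order 2 S.2 a.2 (by rw [Subgroup.orderOf_coe]; exact ha)
    have key : ∀ c : (S : Subgroup G), orderOf c = 2 → (c : G) = z := fun c hc =>
      huniq c z (by rw [Subgroup.orderOf_coe]; exact hc) hz (hzc c c.2).symm
    rw [show b = a from Subtype.ext ((key b hb).trans (key a ha).symm)]
    exact mem_zpowers a
  rcases CfsgLib.UniqueInvol.cyclic_or_quaternion S.2 hS1 with hc | ⟨-, n, hn, ⟨e⟩⟩
  · exact Or.inl hc
  refine Or.inr (Or.inl ?_)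
  rcases eq_or_lt_of_le hn with rfl | hn2
  · exact ⟨e⟩
  exfalso
  haveI : NeZero (2 ^ n) := ⟨by positivity⟩
  -- an element of order eight and an element of order four outside the cyclic subgroup
  set a1 : QuaternionGroup (2 ^ n) := QuaternionGroup.a 1
  have hu : orderOf ((e.symm (a1 ^ 2 ^ (n - 2)) : (S : Subgroup G)) : G) = 8 := by
    rw [Subgroup.orderOf_coe, e.symm.orderOf_eq, orderOf_pow' _ (by positivity),
      QuaternionGroup.orderOf_a_one, ← pow_succ',
      Nat.gcd_eq_right (pow_dvd_pow 2 (show n - 2 ≤ n + 1 by omega)),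
      Nat.pow_div (show n - 2 ≤ n + 1 by omega) two_pos, show n + 1 - (n - 2) = 3 by omega]
    rfl
  set c : (S : Subgroup G) := e.symm (QuaternionGroup.xa 0)
  have hc4 : orderOf c = 4 := by rw [e.symm.orderOf_eq, QuaternionGroup.orderOf_xa]
  have h8 : 2 ^ 3 ∣ Nat.card (S : Subgroup G) := by
    rw [Nat.card_congr e.toEquiv, Nat.card_eq_fintype_card, QuaternionGroup.card,
      show 4 * 2 ^ n = 2 ^ (n + 2) by ring]
    exact pow_dvd_pow 2 (by omega)
  obtain ⟨K, hK, hcK⟩ := Sylow.exists_subgroup_card_pow_prime_le 2 h8 (zpowers c) (n := 2)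
    (by rw [Nat.card_zpowers, hc4]; rfl) (by norm_num)
  obtain ⟨y, hy, hKy⟩ := h.exists_gen (A := K.map (S : Subgroup G).subtype)
    (x := ((e.symm (a1 ^ 2 ^ (n - 2)) : (S : Subgroup G)) : G))
    (by rw [card_map_of_injective (S : Subgroup G).subtype_injective, hK, hu]; rfl)
  obtain ⟨v, hvK, rfl⟩ : y ∈ K.map (S : Subgroup G).subtype := hKy ▸ mem_zpowers y
  have hcv : c ∈ zpowers v := by
    have h1 : (c : G) ∈ zpowers (v : G) := by
      have h2 : (c : G) ∈ K.map (S : Subgroup G).subtype := ⟨c, hcK (mem_zpowers c), rfl⟩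
      rw [hKy] at h2
      exact h2
    obtain ⟨i, hi⟩ := mem_zpowers_iff.1 h1
    exact mem_zpowers_iff.2 ⟨i, Subtype.ext (by simpa using hi)⟩
  have hv8 : orderOf (e v) = 8 := by
    rw [e.orderOf_eq, ← Subgroup.orderOf_coe]
    exact hy.trans hu
  obtain ⟨i, hi⟩ := mem_zpowers_iff.1 hcv
  have hi' : e v ^ i = QuaternionGroup.xa 0 := by
    rw [← map_zpow, hi]; exact e.apply_symm_apply _
  match hev : e v with
  | QuaternionGroup.xa j => rw [hev, QuaternionGroup.orderOf_xa] at hv8; omega
  | QuaternionGroup.a j =>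
    have hmem : QuaternionGroup.a j ∈ zpowers a1 := by
      refine mem_zpowers_iff.2 ⟨(j.val : ℤ), ?_⟩
      rw [zpow_natCast, QuaternionGroup.a_one_pow, ZMod.natCast_zmod_val]
    rw [hev] at hi'
    have := zpow_mem hmem i
    rw [hi'] at this
    obtain ⟨l, hl⟩ := mem_powers_iff_mem_zpowers.2 this
    change a1 ^ l = _ at hl
    rw [QuaternionGroup.a_one_pow] at hl
    cases hl

/-- No involution inverts an element of order `p` when some element of order `p` commutes with
an involution. -/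
theorem AllConj.no_inverted (h : AllConj G) {p : ℕ} (hp : p.Prime) (hp2 : p ≠ 2) {t x u y : G}
    (ht : orderOf t = 2) (hx : orderOf x = p) (htx : Commute t x) (hu : orderOf u = 2)
    (hy : orderOf y = p) : u * y * u⁻¹ ≠ y⁻¹ := by
  intro hinv
  haveI : Fact p.Prime := ⟨hp⟩
  have hcop : Nat.Coprime 2 p := (Nat.coprime_primes Nat.prime_two hp).2 (Ne.symm hp2)
  have hn : zpowers u ≤ normalizer (zpowers y : Set G) := by
    refine zpowers_le.2 (mem_normalizer_iff_map_conj_eq.2 ?_)
    rw [MonoidHom.map_zpowers]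
    show zpowers (u * y * u⁻¹) = _
    rw [hinv, zpowers_inv]
  have hc : Nat.card ↥(zpowers u ⊔ zpowers y) = orderOf (t * x) := by
    rw [htx.orderOf_mul_eq_mul_orderOf_of_coprime (by rw [ht, hx]; exact hcop), ht, hx,
      CfsgLib.Solvable.card_sup_of_disjoint hn, Nat.card_zpowers, Nat.card_zpowers, hu, hy]
    exact disjoint_iff.1 (disjoint_of_coprime_natCard (by rw [Nat.card_zpowers, Nat.card_zpowers, hu, hy]; exact hcop))
  obtain ⟨z, -, hz⟩ := h.exists_gen hc
  obtain ⟨i, hi⟩ := mem_zpowers_iff.1 (hz ▸ (mem_sup_left (mem_zpowers u) : u ∈ zpowers u ⊔ zpowers y))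
  obtain ⟨j, hj⟩ := mem_zpowers_iff.1 (hz ▸ (mem_sup_right (mem_zpowers y) : y ∈ zpowers u ⊔ zpowers y))
  have hcomm : u * y = y * u := by rw [← hi, ← hj, ← zpow_add, ← zpow_add, add_comm]
  rw [hcomm, mul_inv_cancel_right] at hinv
  have h2 : y ^ 2 = 1 := by rw [sq]; exact mul_eq_one_iff_eq_inv.2 hinv
  have := orderOf_dvd_of_pow_eq_one h2
  rw [hy] at this
  exact hp2 ((Nat.prime_dvd_prime_iff_eq hp Nat.prime_two).1 this)

variable (S : Sylow 2 G) (hS : ∀ x ∈ (S : Subgroup G), x * x = 1)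

include hS in
theorem sq_of_two_power {x : G} (hx : ∃ k, orderOf x = 2 ^ k) : x * x = 1 := by
  haveI : Fact (Nat.Prime 2) := ⟨Nat.prime_two⟩
  obtain ⟨k, hk⟩ := hx
  obtain ⟨P, hP⟩ := (IsPGroup.of_card (p := 2) (n := k) (by rw [Nat.card_zpowers, hk]) :
    IsPGroup 2 (zpowers x)).exists_le_sylow
  obtain ⟨g, hg⟩ := MulAction.exists_smul_eq G P S
  have hmem : g * x * g⁻¹ ∈ (S : Subgroup G) := by
    rw [← hg, Sylow.coe_subgroup_smul]
    exact ⟨x, hP (mem_zpowers x), rfl⟩
  have h1 := hS _ hmem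
  rwa [show g * x * g⁻¹ * (g * x * g⁻¹) = g * (x * x) * g⁻¹ by group, conj_eq_one_iff] at h1

include hS in
theorem sylow_comm {a b : G} (ha : a ∈ (S : Subgroup G)) (hb : b ∈ (S : Subgroup G)) : Commute a b := by
  show a * b = b * a
  have h1 := hS _ (mul_mem ha hb)
  calc a * b = a * (a * b * (a * b)) * b := by rw [h1, mul_one]
    _ = (a * a) * b * a * (b * b) := by group
    _ = b * a := by rw [hS a ha, hS b hb, one_mul, mul_one]

include hS in
/-- Involutions of an involution centralizer commute. -/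
theorem AllConj.invol_commute (h : AllConj G) {t a b : G} (ht : orderOf t = 2) (ha : orderOf a = 2)
    (hb : orderOf b = 2) (hta : Commute t a) (htb : Commute t b) : Commute a b := by
  haveI : Fact (Nat.Prime 2) := ⟨Nat.prime_two⟩
  have ha1 : a * a = 1 := by rw [← sq, ← ha]; exact pow_orderOf_eq_one a
  have hb1 : b * b = 1 := by rw [← sq, ← hb]; exact pow_orderOf_eq_one b
  have hai : a⁻¹ = a := inv_eq_of_mul_eq_one_right ha1
  have hbi : b⁻¹ = b := inv_eq_of_mul_eq_one_right hb1
  have hinv : a * (a * b) * a⁻¹ = (a * b)⁻¹ := by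
    rw [← mul_assoc, ha1, one_mul, mul_inv_rev, hai, hbi]
  have hk : ∃ k, orderOf (a * b) = 2 ^ k := by
    refine ⟨_, Nat.eq_prime_pow_of_unique_prime_dvd (orderOf_pos _).ne' ?_⟩
    intro p hp hpd
    by_contra hp2
    have ho : orderOf ((a * b) ^ (orderOf (a * b) / p)) = p :=
      orderOf_pow_orderOf_div (orderOf_pos _).ne' hpd
    refine h.no_inverted hp hp2 ht ho ((hta.mul_right htb).pow_right _) ha ho ?_
    rw [← conj_pow, hinv, inv_pow]
  have := sq_of_two_power S hS hk
  show a * b = b * a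
  rw [← inv_eq_of_mul_eq_one_right this, mul_inv_rev, hai, hbi]

include hS in
/-- An involution commuting with an involution of the Sylow subgroup lies in it. -/
theorem AllConj.mem_sylow (h : AllConj G) {t v : G} (htS : t ∈ (S : Subgroup G)) (ht : orderOf t = 2)
    (hv : v * v = 1) (htv : Commute t v) : v ∈ (S : Subgroup G) := by
  haveI : Fact (Nat.Prime 2) := ⟨Nat.prime_two⟩
  have hcomm : ∀ a b : G, a * a = 1 → Commute t a → b * b = 1 → Commute t b → Commute a b := by
    intro a b ha hta hb htb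
    by_cases ha1 : a = 1
    · rw [ha1]; exact Commute.one_left b
    by_cases hb1 : b = 1
    · rw [hb1]; exact Commute.one_right a
    exact h.invol_commute S hS ht (orderOf_eq_prime (by rw [sq, ha]) ha1)
      (orderOf_eq_prime (by rw [sq, hb]) hb1) hta htb
  let E : Subgroup G :=
    { carrier := {a | a * a = 1 ∧ Commute t a}
      one_mem' := ⟨one_mul 1, Commute.one_right t⟩
      mul_mem' := fun {a b} ha hb => ⟨by
        calc a * b * (a * b) = a * (b * a) * b := by group
          _ = (a * a) * (b * b) := by rw [← (hcomm a b ha.1 ha.2 hb.1 hb.2).eq]; group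
          _ = 1 := by rw [ha.1, hb.1, one_mul], ha.2.mul_right hb.2⟩
      inv_mem' := fun {a} ha => ⟨by rw [← mul_inv_rev, ha.1, inv_one], ha.2.inv_right⟩ }
  have hle : (S : Subgroup G) ≤ E := fun a ha => ⟨hS a ha, sylow_comm S hS htS ha⟩
  have hE : IsPGroup 2 E := fun a => ⟨1, Subtype.ext (by rw [pow_one]; exact (sq (a : G)).trans a.2.1)⟩
  rw [← S.is_maximal' hE hle]
  exact ⟨hv, htv⟩

include hS in
/-- The normalizer of the Sylow subgroup is strongly embedded unless it is the whole group. -/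
theorem AllConj.strongly_embedded (h : AllConj G) (h2 : 2 ∣ Nat.card (S : Subgroup G))
    (hne : normalizer ((S : Subgroup G) : Set G) ≠ ⊤) :
    Cfsg.IsStronglyEmbedded (normalizer ((S : Subgroup G) : Set G)) := by
  haveI : Fact (Nat.Prime 2) := ⟨Nat.prime_two⟩
  refine ⟨hne, even_iff_two_dvd.2 (h2.trans (card_dvd_of_le Subgroup.le_normalizer)), fun g hg => ?_⟩
  rw [← Nat.not_even_iff_odd]
  intro hev
  obtain ⟨⟨u, hu⟩, huo⟩ := exists_prime_orderOf_dvd_card' 2 (even_iff_two_dvd.1 hev)
  rw [Subgroup.orderOf_mk] at huo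
  obtain ⟨w, hw, hwu⟩ := hu.2
  have hwo : orderOf w = 2 := by
    rw [← huo, ← hwu]
    exact (orderOf_injective (MulAut.conj g).toMonoidHom (MulAut.conj g).injective w).symm
  -- an involution of the normalizer lies in the Sylow subgroup
  have hmemS : ∀ a ∈ normalizer ((S : Subgroup G) : Set G), orderOf a = 2 → a ∈ (S : Subgroup G) := by
    intro a ha hao
    have hA : IsPGroup 2 (zpowers a) := IsPGroup.of_card (n := 1) (by rw [Nat.card_zpowers, hao, pow_one])
    have hp := hA.to_sup_of_normal_right' S.2 (zpowers_le.2 ha)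
    rw [← S.is_maximal' hp le_sup_right]
    exact mem_sup_left (mem_zpowers a)
  have huS := hmemS u hu.1 huo
  have hwS := hmemS w hw hwo
  refine hg (mem_normalizer_iff_map_conj_eq.2 ?_)
  refine eq_of_le_of_card_ge ?_ (le_of_eq (card_map_of_injective (MulAut.conj g).injective).symm)
  rintro _ ⟨a, ha, rfl⟩
  refine h.mem_sylow S hS huS huo ?_ ?_
  · show g * a * g⁻¹ * (g * a * g⁻¹) = 1
    rw [show g * a * g⁻¹ * (g * a * g⁻¹) = g * (a * a) * g⁻¹ by group, hS a ha, mul_one, mul_inv_cancel]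
  · rw [← hwu]
    exact (sylow_comm S hS hwS ha).map (MulAut.conj g).toMonoidHom

include hS in
/-- The Sylow subgroup is self-centralizing without an odd core when it is normal. -/
theorem centralizer_eq_of_normal (hO : Cfsg.oddCore G = ⊥) [(S : Subgroup G).Normal] :
    centralizer ((S : Subgroup G) : Set G) = (S : Subgroup G) := by
  haveI : Fact (Nat.Prime 2) := ⟨Nat.prime_two⟩
  set C := centralizer ((S : Subgroup G) : Set G)
  have hSC : (S : Subgroup G) ≤ C := fun a ha => mem_centralizer_iff.2 fun b hb =>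
    (sylow_comm S hS hb ha).eq
  obtain ⟨R, hRn, hRo, hall⟩ := CfsgLib.DGroup.exists_compl_of_burnside (S.subtype hSC) (fun a _ =>
    mem_centralizer_iff.2 fun b hb => Subtype.ext
      (mem_centralizer_iff.1 a.2 (b : G) hb))
  haveI := hRn
  have hRC : (R.map C.subtype).Normal := by
    refine ⟨fun z hz g => ?_⟩
    obtain ⟨r, hr, rfl⟩ := hz
    have hgC : g * (r : G) * g⁻¹ ∈ C := (inferInstance : C.Normal).conj_mem _ r.2 g
    refine ⟨⟨_, hgC⟩, hall _ ?_, rfl⟩
    rw [← Subgroup.orderOf_coe]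
    show Odd (orderOf (g * (r : G) * g⁻¹))
    rw [show orderOf (g * (r : G) * g⁻¹) = orderOf (r : G) from
      orderOf_injective (MulAut.conj g).toMonoidHom (MulAut.conj g).injective _, Subgroup.orderOf_coe]
    exact hRo.of_dvd_nat (Subgroup.orderOf_dvd_natCard R hr)
  have hR : R = ⊥ := by
    have := CfsgLib.DGroup.le_oddCore hRC (by rwa [card_map_of_injective C.subtype_injective])
    rwa [hO, le_bot_iff, Subgroup.map_eq_bot_iff_of_injective _ C.subtype_injective] at this
  refine le_antisymm (fun a ha => ?_) hSC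
  obtain ⟨k, m, hm, hk⟩ := Nat.exists_eq_two_pow_mul_odd (orderOf_pos a).ne'
  have h1 : a ^ 2 ^ k = 1 := by
    have ho : orderOf (⟨a, ha⟩ ^ 2 ^ k : C) = m := by
      rw [orderOf_pow' _ (by positivity), Subgroup.orderOf_mk, hk,
        Nat.gcd_eq_right (dvd_mul_right _ m), Nat.mul_div_cancel_left _ (by positivity)]
    have hmem := hall _ (ho ▸ hm)
    rw [hR, mem_bot] at hmem
    exact congrArg Subtype.val hmem
  have hA : IsPGroup 2 (zpowers a) := by
    obtain ⟨j, -, hj⟩ := (Nat.dvd_prime_pow Nat.prime_two).1 (orderOf_dvd_of_pow_eq_one h1)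
    exact IsPGroup.of_card (n := j) (by rw [Nat.card_zpowers, hj])
  have hp := hA.to_sup_of_normal_right S.2
  rw [← S.is_maximal' hp le_sup_right]
  exact mem_sup_left (mem_zpowers a)

end CfsgLib.EqOrder
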