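import Mathlib
import Cfsg.Agent.Solvable.Fitting
import Cfsg.Agent.Solvable.Glauberman
import Cfsg.Agent.InvChar.UniqueInvolution

/-!
# Finite solvable groups in which abelian subgroups of equal order are conjugate: Sylow subgroups
-/

set_option autoImplicit false
set_option linter.unusedSectionVars false
set_option linter.style.haveILetI false

namespace CfsgLib.EqOrder

open Subgroup
open scoped Pointwise

/-- Abelian subgroups of equal order are conjugate. -/
def AbConj (G : Type*) [Group G] : Prop :=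
  ∀ A B : Subgroup G, IsMulCommutative ↥A → IsMulCommutative ↥B → Nat.card ↥A = Nat.card ↥B →
    ∃ g : G, B = A.map (MulAut.conj g).toMonoidHom

/-- Every `p`-subgroup has at most one subgroup of order `p`. -/
def RankOneAt (p : ℕ) (G : Type*) [Group G] : Prop :=
  ∀ P : Subgroup G, IsPGroup p P → ∀ x ∈ P, ∀ y ∈ P, orderOf x = p → orderOf y = p → y ∈ zpowers x

variable {G : Type*} [Group G]

theorem mem_map_conj {A : Subgroup G} {g x : G} :
    x ∈ A.map (MulAut.conj g).toMonoidHom ↔ g⁻¹ * x * g ∈ A := by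
  constructor
  · rintro ⟨a, ha, rfl⟩
    simpa [mul_assoc] using ha
  · intro h
    refine ⟨_, h, ?_⟩
    simp [mul_assoc]

theorem card_map_conj (A : Subgroup G) (g : G) :
    Nat.card (A.map (MulAut.conj g).toMonoidHom) = Nat.card A :=
  card_map_of_injective (MulAut.conj g).injective

theorem comm_of_forall {A : Subgroup G} (h : ∀ a ∈ A, ∀ b ∈ A, a * b = b * a) :
    IsMulCommutative ↥A :=
  ⟨⟨fun a b => Subtype.ext (h a a.2 b b.2)⟩⟩

theorem comm_apply {A : Subgroup G} (h : IsMulCommutative ↥A) {a b : G} (ha : a ∈ A) (hb : b ∈ A) :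
    a * b = b * a := congrArg Subtype.val (h.1.comm (⟨a, ha⟩ : A) ⟨b, hb⟩)

theorem RankOneAt.of_injective {H : Type*} [Group H] {p : ℕ} (h : RankOneAt p G) (f : H →* G)
    (hf : Function.Injective f) : RankOneAt p H := by
  intro P hP x hx y hy hxo hyo
  have := h (P.map f) (hP.map f) (f x) (mem_map_of_mem f hx) (f y) (mem_map_of_mem f hy)
    (by rw [orderOf_injective f hf, hxo]) (by rw [orderOf_injective f hf, hyo])
  rw [mem_zpowers_iff] at this
  obtain ⟨k, hk⟩ := this
  exact ⟨k, hf (by simpa using hk)⟩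

theorem mem_zpowers_of_card_eq {x y : G} [Finite G] (hy : y ∈ zpowers x)
    (h : orderOf y = orderOf x) : zpowers y = zpowers x :=
  CfsgLib.Solvable.eq_of_le_of_card_le (zpowers_le.2 hy) (by rw [Nat.card_zpowers, Nat.card_zpowers, h])

variable [Finite G]

/-- Elements of equal order generate conjugate cyclic subgroups; so a normal subgroup containing
one contains the other. -/
theorem AbConj.mem_of_orderOf_eq (hB : AbConj G) {N : Subgroup G} [N.Normal] {x y : G}
    (h : orderOf x = orderOf y) (hx : x ∈ N) : y ∈ N := by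
  obtain ⟨g, hg⟩ := hB (zpowers x) (zpowers y) inferInstance inferInstance
    (by rw [Nat.card_zpowers, Nat.card_zpowers, h])
  have hy : y ∈ zpowers y := mem_zpowers y
  rw [hg, mem_map_conj] at hy
  have := Normal.conj_mem (H := N) inferInstance _ ((zpowers_le.2 hx) hy) g
  simpa [mul_assoc] using this

theorem AbConj.exists_conj (hB : AbConj G) {x y : G} (h : orderOf x = orderOf y) :
    ∃ g : G, ∃ k : ℤ, g * x * g⁻¹ = y ^ k := by
  obtain ⟨g, hg⟩ := hB (zpowers x) (zpowers y) inferInstance inferInstance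
    (by rw [Nat.card_zpowers, Nat.card_zpowers, h])
  have h1 : g * x * g⁻¹ ∈ zpowers y := by
    rw [hg, mem_map_conj]
    simp [mul_assoc]
  obtain ⟨k, hk⟩ := h1
  exact ⟨g, k, hk.symm⟩

theorem exists_central_order (p : ℕ) [Fact p.Prime] {P : Subgroup G} (hP : IsPGroup p P) {x : G}
    (hx : x ∈ P) (hxo : orderOf x = p) :
    ∃ z ∈ P, orderOf z = p ∧ ∀ y ∈ P, Commute z y := by
  haveI : Nontrivial P := ⟨⟨⟨x, hx⟩, 1, fun h => by
    have : x = 1 := congrArg Subtype.val h
    rw [this, orderOf_one] at hxo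
    exact (Fact.out : p.Prime).ne_one hxo.symm⟩⟩
  haveI := hP.center_nontrivial
  obtain ⟨k, hk0, hk⟩ := (hP.to_subgroup (center P)).nontrivial_iff_card.1 inferInstance
  obtain ⟨z, hz⟩ := exists_prime_orderOf_dvd_card' (G := center P) p (hk ▸ dvd_pow_self p hk0.ne')
  refine ⟨((z : P) : G), (z : P).2, by rw [Subgroup.orderOf_coe, Subgroup.orderOf_coe, hz], fun y hy => ?_⟩
  exact (congrArg Subtype.val (mem_center_iff.1 z.2 ⟨y, hy⟩)).symm

theorem exists_pow_order {p : ℕ} [hp : Fact p.Prime] {x : G} {j : ℕ} (hx : orderOf x = p ^ j)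
    {i : ℕ} (hi : i ≤ j) : orderOf (x ^ p ^ (j - i)) = p ^ i := by
  rw [orderOf_pow_of_dvd (pow_ne_zero _ hp.out.ne_zero) (hx ▸ pow_dvd_pow p (Nat.sub_le j i)), hx,
    Nat.pow_div (Nat.sub_le j i) hp.out.pos, Nat.sub_sub_self hi]

/-- Without the rank one property at `p`, all `p`-elements have order dividing `p`. -/
theorem AbConj.pow_eq_one (hB : AbConj G) {p : ℕ} [hp : Fact p.Prime] (h : ¬ RankOneAt p G) {u : G}
    {k : ℕ} (hu : orderOf u = p ^ k) : u ^ p = 1 := by
  by_contra hne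
  have hk : 2 ≤ k := by
    by_contra hlt
    apply hne
    rw [← orderOf_dvd_iff_pow_eq_one, hu]
    interval_cases k <;> simp
  unfold RankOneAt at h
  push Not at h
  obtain ⟨P, hP, x, hx, y, hy, hxo, hyo, hxy⟩ := h
  obtain ⟨z, hz, hzo, hzc⟩ := exists_central_order p hP hx hxo
  obtain ⟨w, hw, hwo, hwz⟩ : ∃ w ∈ P, orderOf w = p ∧ w ∉ zpowers z := by
    by_cases hxz : x ∈ zpowers z
    · exact ⟨y, hy, hyo, fun hyz =>
        hxy (mem_zpowers_of_card_eq hxz (hxo.trans hzo.symm) ▸ hyz)⟩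
    · exact ⟨x, hx, hxo, hxz⟩
  have hcl : IsMulCommutative ↥(Subgroup.closure ({z, w} : Set G)) :=
    isMulCommutative_closure (by
      rintro a (rfl | rfl) b (rfl | rfl)
      · rfl
      · exact (hzc _ hw).eq
      · exact (hzc _ hw).eq.symm
      · rfl)
  have hdisj : zpowers z ⊓ zpowers w = ⊥ := by
    rw [eq_bot_iff]
    intro a ha
    by_contra hne1
    rw [mem_bot] at hne1
    have hao : orderOf a = p := by
      rcases (Nat.dvd_prime hp.out).1 (hwo ▸ orderOf_dvd_of_mem_zpowers ha.2) with h1 | h1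
      · exact absurd (orderOf_eq_one_iff.1 h1) hne1
      · exact h1
    have e := mem_zpowers_of_card_eq ha.2 (hao.trans hwo.symm)
    exact hwz ((zpowers_le.2 ha.1 : zpowers a ≤ zpowers z) (e ▸ mem_zpowers w))
  have hnorm : zpowers z ≤ normalizer (zpowers w : Set G) := by
    rw [zpowers_le, mem_normalizer_iff]
    intro a
    constructor <;> intro ha
    · obtain ⟨i, rfl⟩ := ha
      have : z * w ^ i * z⁻¹ = w ^ i := by rw [((hzc _ hw).zpow_right i).eq, mul_inv_cancel_right]
      rw [this]; exact zpow_mem_zpowers w i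
    · obtain ⟨i, hi⟩ := ha
      have : a = w ^ i := by
        have e : a = z⁻¹ * (z * a * z⁻¹) * z := by group
        rw [e, ← hi, mul_assoc, ← ((hzc _ hw).zpow_right i).eq, inv_mul_cancel_left]
      rw [this]; exact zpow_mem_zpowers w i
  set E := zpowers z ⊔ zpowers w with hEdef
  have hEle : E ≤ Subgroup.closure ({z, w} : Set G) :=
    sup_le (zpowers_le.2 (subset_closure (by simp))) (zpowers_le.2 (subset_closure (by simp)))
  have hE : IsMulCommutative ↥E := comm_of_forall fun a ha b hb => comm_apply hcl (hEle ha) (hEle hb)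
  have hEc : Nat.card E = p ^ 2 := by
    rw [CfsgLib.Solvable.card_sup_of_disjoint hnorm hdisj, Nat.card_zpowers, Nat.card_zpowers, hzo,
      hwo, sq]
  have hv : orderOf (u ^ p ^ (k - 2)) = p ^ 2 := exists_pow_order hu hk
  generalize u ^ p ^ (k - 2) = v at hv
  obtain ⟨g, hg⟩ := hB E (zpowers v) hE inferInstance (by rw [hEc, Nat.card_zpowers, hv])
  have key : ∀ a ∈ E, g * a * g⁻¹ ∈ zpowers v := fun a ha => by
    rw [hg, mem_map_conj]
    simpa [mul_assoc] using ha
  have hord : ∀ a ∈ E, orderOf a = p → g * a * g⁻¹ ∈ zpowers (v ^ p) := by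
    intro a ha hao
    obtain ⟨i, hi⟩ := key a ha
    change v ^ i = g * a * g⁻¹ at hi
    have hp1 : (g * a * g⁻¹) ^ p = 1 := by
      rw [conj_pow, ← hao, pow_orderOf_eq_one, mul_one, mul_inv_cancel]
    rw [← hi, ← zpow_natCast, ← zpow_mul, ← orderOf_dvd_iff_zpow_eq_one, hv] at hp1
    have : (p : ℤ) ∣ i := by
      have h2 : (p : ℤ) * p ∣ i * p := by simpa [sq] using hp1
      exact (mul_dvd_mul_iff_right (Nat.cast_ne_zero.2 hp.out.ne_zero)).1 h2
    obtain ⟨l, rfl⟩ := this
    rw [← hi, zpow_mul, zpow_natCast]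
    exact zpow_mem_zpowers _ _
  have hvp : orderOf (v ^ p) = p := by
    have := exists_pow_order (p := p) hv (show 1 ≤ 2 by norm_num)
    simpa using this
  have ez := hord z (mem_sup_left (mem_zpowers z)) hzo
  have ew := hord w (mem_sup_right (mem_zpowers w)) hwo
  have e1 := mem_zpowers_of_card_eq ez (by
    rw [hvp, show g * z * g⁻¹ = (MulAut.conj g) z from rfl]
    exact ((MulAut.conj g).orderOf_eq z).trans hzo)
  rw [← e1] at ew
  obtain ⟨i, hi⟩ := ew
  refine hwz ⟨i, ?_⟩
  have h2 : g * z ^ i * g⁻¹ = g * w * g⁻¹ := by rw [← conj_zpow]; exact hi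
  exact mul_left_cancel (mul_right_cancel h2)

/-- Without the rank one property at `p`, a nontrivial normal `p`-subgroup is the Sylow subgroup. -/
theorem AbConj.mem_of_not_rankOne (hB : AbConj G) {p : ℕ} [hp : Fact p.Prime] (h : ¬ RankOneAt p G)
    {M : Subgroup G} [M.Normal] (hM : IsPGroup p M) (hM1 : M ≠ ⊥) {u : G} {k : ℕ}
    (hu : orderOf u = p ^ k) : u ∈ M := by
  obtain ⟨j, hj0, hj⟩ := (hM.nontrivial_iff_card).1 ((nontrivial_iff_ne_bot M).2 hM1)
  obtain ⟨x, hx⟩ := exists_prime_orderOf_dvd_card' (G := M) p (hj ▸ dvd_pow_self p hj0.ne')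
  have h1 := hB.pow_eq_one h hu
  rcases (Nat.dvd_prime hp.out).1 (orderOf_dvd_of_pow_eq_one h1) with h2 | h2
  · rw [orderOf_eq_one_iff.1 h2]; exact one_mem M
  · exact hB.mem_of_orderOf_eq (N := M) (x := (x : G)) (by rw [Subgroup.orderOf_coe, hx, h2]) x.2

theorem AbConj.le_of_not_rankOne (hB : AbConj G) {p : ℕ} [hp : Fact p.Prime] (h : ¬ RankOneAt p G)
    {M : Subgroup G} [M.Normal] (hM : IsPGroup p M) (hM1 : M ≠ ⊥) {P : Subgroup G}
    (hP : IsPGroup p P) : P ≤ M := by
  intro u hu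
  obtain ⟨k, hk⟩ := IsPGroup.iff_orderOf.1 hP ⟨u, hu⟩
  exact hB.mem_of_not_rankOne h hM hM1 (k := k) (by rw [← hk, ← Subgroup.orderOf_coe])

/-- Without the rank one property, a nontrivial normal `p`-subgroup has order prime to its index. -/
theorem AbConj.coprime_of_not_rankOne (hB : AbConj G) {p : ℕ} [hp : Fact p.Prime] (h : ¬ RankOneAt p G)
    {M : Subgroup G} [M.Normal] (hM : IsPGroup p M) (hM1 : M ≠ ⊥) :
    (Nat.card M).Coprime M.index := by
  obtain ⟨P, hMP⟩ := hM.exists_le_sylow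
  have hPM : (P : Subgroup G) = M := le_antisymm (hB.le_of_not_rankOne h hM hM1 P.2) hMP
  rw [← hPM]
  exact P.card_coprime_index

omit [Finite G] in
/-- A subgroup of prime order `p` is the set of powers of any of its nontrivial elements. -/
theorem eq_zpowers_of_card_prime {M : Subgroup G} {p : ℕ} (hp : p.Prime) (hM : Nat.card M = p) {y : G}
    (hy : y ∈ M) (hy1 : y ≠ 1) : M = zpowers y ∧ orderOf y = p := by
  haveI : Finite M := Nat.finite_of_card_ne_zero (hM ▸ hp.ne_zero)
  have ho : orderOf y = p := by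
    rcases (Nat.dvd_prime hp).1 (hM ▸ Subgroup.orderOf_dvd_natCard M hy) with h1 | h1
    · exact absurd (orderOf_eq_one_iff.1 h1) hy1
    · exact h1
  refine ⟨?_, ho⟩
  symm
  apply SetLike.coe_injective
  refine Set.eq_of_subset_of_ncard_le (zpowers_le.2 hy) ?_ (Set.toFinite _)
  rw [← Nat.card_coe_set_eq, ← Nat.card_coe_set_eq]
  exact le_of_eq (hM.trans (ho.symm.trans (Nat.card_zpowers y).symm))

/-- With the rank one property, a minimal normal `p`-subgroup has order `p` and lies in every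
`p`-subgroup-with-an-element-of-order-`p`. -/
theorem card_minimal_of_rankOne {p : ℕ} [hp : Fact p.Prime] (h : RankOneAt p G) {M : Subgroup G}
    (hM : IsPGroup p M) (hM1 : M ≠ ⊥) (hexp : ∀ x ∈ M, x ^ p = 1) : Nat.card M = p := by
  obtain ⟨x, hx, hx1⟩ : ∃ x ∈ M, x ≠ (1 : G) := by
    haveI := (nontrivial_iff_ne_bot M).2 hM1
    obtain ⟨⟨x, hx⟩, hne⟩ := exists_ne (1 : M)
    exact ⟨x, hx, fun e => hne (Subtype.ext e)⟩
  have ho : ∀ y ∈ M, y ≠ 1 → orderOf y = p := fun y hy hy1 =>
    orderOf_eq_prime (hexp y hy) hy1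
  have : M = zpowers x := le_antisymm (fun y hy => by
    rcases eq_or_ne y 1 with rfl | hy1
    · exact one_mem _
    · exact h M hM x hx y hy (ho x hx hx1) (ho y hy hy1)) (zpowers_le.2 hx)
  rw [this, Nat.card_zpowers, ho x hx hx1]

theorem le_of_card_prime_of_dvd {p : ℕ} [hp : Fact p.Prime] (h : RankOneAt p G) {M : Subgroup G}
    [M.Normal] (hM : Nat.card M = p) {A : Subgroup G} (hA : p ∣ Nat.card A) : M ≤ A := by
  obtain ⟨a, ha⟩ := exists_prime_orderOf_dvd_card' (G := A) p hA
  have hao : orderOf (a : G) = p := by rw [Subgroup.orderOf_coe, ha]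
  have hMp : IsPGroup p M := IsPGroup.of_card (n := 1) (by rw [hM, pow_one])
  have hap : IsPGroup p (zpowers (a : G)) := IsPGroup.of_card (n := 1) (by
    rw [Nat.card_zpowers, hao, pow_one])
  intro y hy
  rcases eq_or_ne y 1 with rfl | hy1
  · exact one_mem A
  exact (zpowers_le.2 a.2) (h _ (hap.to_sup_of_normal_right hMp) a
    (mem_sup_left (mem_zpowers _)) y (mem_sup_right hy) hao
    (eq_zpowers_of_card_prime hp.out hM hy hy1).2)

theorem RankOneAt.structure {p : ℕ} [hp : Fact p.Prime] (h : RankOneAt p G) {P : Subgroup G}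
    (hP : IsPGroup p P) :
    IsCyclic P ∨ (p = 2 ∧ ∃ (a : P) (n : ℕ), 2 ≤ n ∧ orderOf a = 2 ^ n ∧ (zpowers a).index = 2 ∧
      ∀ g : P, g ∉ zpowers a → g * a * g⁻¹ = a⁻¹ ∧ g ^ 2 = a ^ 2 ^ (n - 1)) := by
  refine CfsgLib.UniqueInvol.structure_thm hP fun x y hx hy => ?_
  obtain ⟨k, hk⟩ := h P hP x x.2 y y.2 (by rw [Subgroup.orderOf_coe, hx]) (by rw [Subgroup.orderOf_coe, hy])
  exact ⟨k, Subtype.ext (by simpa using hk)⟩

theorem RankOneAt.isCyclic_of_odd {p : ℕ} [hp : Fact p.Prime] (h : RankOneAt p G) (h2 : p ≠ 2)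
    {P : Subgroup G} (hP : IsPGroup p P) : IsCyclic P :=
  (h.structure hP).resolve_right fun h' => h2 h'.1

/-- Powers of `a ∈ P` outside a cyclic index two subgroup: everything is determined. -/
theorem sub_index_two_mem {H : Type*} [Group H] {a g : H} (hidx : (zpowers a).index = 2)
    (hg : g ∉ zpowers a) (x : H) : x ∈ zpowers a ∨ x * g⁻¹ ∈ zpowers a := by
  by_cases hx : x ∈ zpowers a
  · exact Or.inl hx
  · exact Or.inr ((mul_mem_iff_of_index_two hidx).2 (iff_of_false hx fun h => hg (inv_mem_iff.1 h)))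

/-- A noncyclic `2`-subgroup has order eight, if `2`-subgroups have one involution. -/
theorem AbConj.card_two_subgroup (hs : Group.IsSolvable G) (hB : AbConj G) (h : RankOneAt 2 G)
    {P : Subgroup G} (hP : IsPGroup 2 P) : IsCyclic P ∨ Nat.card P = 8 := by
  haveI := hs
  haveI : Fact (Nat.Prime 2) := ⟨Nat.prime_two⟩
  obtain ⟨S, hPS⟩ := hP.exists_le_sylow
  rcases h.structure hP with hc | ⟨-, a', n', hn', ha', hidx', hout'⟩
  · exact Or.inl hc
  right
  have hPcard : Nat.card P = 2 ^ n' * 2 := by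
    rw [← Subgroup.card_mul_index (zpowers a'), hidx', Nat.card_zpowers, ha']
  have h8 : 8 ≤ Nat.card P := by
    rw [hPcard]
    have : 2 ^ 2 ≤ 2 ^ n' := Nat.pow_le_pow_right two_pos hn'
    omega
  rcases h.structure S.2 with hc | ⟨-, a, n, hn, ha, hidx, hout⟩
  · exfalso
    haveI := hc
    haveI : IsCyclic P := Subgroup.isCyclic_of_le hPS
    obtain ⟨b, hb⟩ : ∃ b : P, b ∉ zpowers a' := by
      by_contra h'
      push Not at h'
      rw [(eq_top_iff' _).2 h', index_top] at hidx'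
      omega
    have h1 := (hout' b hb).1
    rw [(IsCyclic.commGroup (α := P)).mul_comm b a', mul_inv_cancel_right] at h1
    have h2 : orderOf a' ∣ 2 := orderOf_dvd_of_pow_eq_one (by rw [sq]; exact eq_inv_iff_mul_eq_one.1 h1)
    rw [ha'] at h2
    have h4 : 2 ^ 2 ≤ 2 ^ n' := Nat.pow_le_pow_right two_pos hn'
    have := Nat.le_of_dvd two_pos h2
    omega
  have hScard : Nat.card S = 2 ^ n * 2 := by
    rw [← Subgroup.card_mul_index (zpowers a), hidx, Nat.card_zpowers, ha]
  suffices hn2 : n = 2 by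
    have h1 := Subgroup.card_le_of_le hPS
    rw [show Nat.card (S : Subgroup G) = Nat.card S from rfl, hScard, hn2] at h1
    norm_num at h1
    omega
  by_contra hn2
  have hn3 : 3 ≤ n := by omega
  set O := Cfsg.pPrimeCore 2 G with hO
  set f := QuotientGroup.mk' O with hf
  have hfs : Function.Surjective f := QuotientGroup.mk'_surjective O
  have hinj : Function.Injective (f.comp (S : Subgroup G).subtype) := by
    rw [injective_iff_map_eq_one]
    intro x hx
    have h1 : (x : G) ∈ O := (QuotientGroup.eq_one_iff _).1 hx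
    have h3 : (S : Subgroup G) ⊓ O = ⊥ := by
      refine inf_eq_bot_of_coprime ?_
      obtain ⟨j, hj⟩ := IsPGroup.iff_card.1 S.2
      rw [hj]
      exact (CfsgLib.Solvable.coprime_card_pPrimeCore (G := G) 2).symm.pow_left j
    exact Subtype.ext (mem_bot.1 (h3 ▸ mem_inf.2 ⟨x.2, h1⟩))
  set R := Cfsg.pCore 2 (G ⧸ O) with hR
  have hCR : centralizer (R : Set (G ⧸ O)) ≤ R :=
    CfsgLib.Fitting.centralizer_pCore_le (CfsgLib.Fitting.pPrimeCore_quotient_eq_bot 2)
  have hRn : R.Normal := (CfsgLib.Solvable.pCore_spec (G := G ⧸ O) 2).1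
  set ι : (S : Subgroup G) →* G ⧸ O := f.comp (S : Subgroup G).subtype with hι
  have hRS : ∀ r ∈ R, ∃ x, ι x = r := by
    intro r hr
    obtain ⟨s, hs', rfl⟩ := CfsgLib.Fitting.pCore_le_sylow (S.mapSurjective hfs) hr
    exact ⟨⟨s, hs'⟩, rfl⟩
  -- conjugacy of the cyclic subgroups of order four
  have hfour : ∀ x y : (S : Subgroup G), orderOf x = 4 → orderOf y = 4 →
      ∀ N : Subgroup (G ⧸ O), N.Normal → ι x ∈ N → ι y ∈ N := by
    intro x y hx hy N hN hxN
    haveI := hN.comap f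
    exact hB.mem_of_orderOf_eq (N := N.comap f) (x := (x : G)) (y := (y : G))
      (by rw [Subgroup.orderOf_coe, Subgroup.orderOf_coe, hx, hy]) hxN
  have haz : orderOf (a ^ 2 ^ (n - 1)) = 2 := by
    have := exists_pow_order (p := 2) ha (show 1 ≤ n by omega)
    simpa using this
  have hout4 : ∀ g, g ∉ zpowers a → orderOf g = 4 := by
    intro g hg
    refine orderOf_eq_prime_pow (p := 2) (n := 1) ?_ ?_
    · rw [pow_one, (hout g hg).2]
      intro h1
      rw [h1, orderOf_one] at haz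
      norm_num at haz
    · rw [pow_succ (2:ℕ) 1, pow_one, pow_mul, (hout g hg).2, ← orderOf_dvd_iff_pow_eq_one, haz]
  set b := a ^ 2 ^ (n - 2) with hbdef
  have hb : orderOf b = 4 := by
    have := exists_pow_order (p := 2) ha (show 2 ≤ n by omega)
    simpa using this
  obtain ⟨g₀, hg₀⟩ : ∃ g, g ∉ zpowers a := by
    by_contra h'
    push Not at h'
    rw [(eq_top_iff' _).2 h', index_top] at hidx
    omega
  have hz2 : ∀ x : (S : Subgroup G), x ^ 2 = 1 → x ≠ 1 → x = a ^ 2 ^ (n - 1) := by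
    intro x hx2 hx1
    have hxo : orderOf x = 2 := orderOf_eq_prime hx2 hx1
    have hxz : x ∈ zpowers (a ^ 2 ^ (n - 1)) := by
      obtain ⟨k, hk⟩ := h _ S.2 _ (a ^ 2 ^ (n - 1)).2 x x.2
        (by rw [Subgroup.orderOf_coe, haz]) (by rw [Subgroup.orderOf_coe, hxo])
      exact ⟨k, Subtype.ext (by simpa using hk)⟩
    rw [← mem_powers_iff_mem_zpowers] at hxz
    obtain ⟨k, hk⟩ := hxz
    change (a ^ 2 ^ (n - 1)) ^ k = x at hk
    rw [← pow_mod_orderOf, haz] at hk
    rcases Nat.mod_two_eq_zero_or_one k with e | e <;> rw [e] at hk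
    · exact absurd (by simpa using hk.symm) hx1
    · simpa using hk.symm
  -- some element of order four lands in `R`
  obtain ⟨x, hx, hxR⟩ : ∃ x, orderOf x = 4 ∧ ι x ∈ R := by
    by_contra hno
    push Not at hno
    have hsub : ∀ x, ι x ∈ R → x ^ 2 = 1 := by
      intro x hx
      by_contra hx2
      by_cases hxa : x ∈ zpowers a
      · obtain ⟨j, hj⟩ := IsPGroup.iff_orderOf.1 S.2 x
        have hj2 : 2 ≤ j := by
          by_contra hlt
          apply hx2
          rw [← orderOf_dvd_iff_pow_eq_one, hj]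
          interval_cases j <;> simp
        exact hno (x ^ 2 ^ (j - 2)) (by simpa using exists_pow_order (p := 2) hj hj2)
          (by rw [map_pow]; exact pow_mem hx _)
      · exact hno x (hout4 x hxa) hx
    have hcen : ∀ x, ι x ∈ R → ∀ y, x * y = y * x := by
      intro x hx y
      rcases eq_or_ne x 1 with rfl | hx1
      · simp
      rw [hz2 x (hsub x hx) hx1]
      rcases sub_index_two_mem hidx hg₀ y with hy | hy
      · obtain ⟨i, rfl⟩ := hy
        exact (((Commute.refl a).pow_left _).zpow_right i).eq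
      · obtain ⟨i, hi⟩ := hy
        have hcg : Commute (a ^ 2 ^ (n - 1)) g₀ := by
          rw [← (hout g₀ hg₀).2]; exact (Commute.refl g₀).pow_left 2
        have hy' : y = a ^ i * g₀ := by rw [show a ^ i = y * g₀⁻¹ from hi]; group
        rw [hy']
        exact ((((Commute.refl a).pow_left _).zpow_right i).mul_right hcg).eq
    refine hno b hb (hCR (mem_centralizer_iff.2 fun r hr => ?_))
    obtain ⟨s, rfl⟩ := hRS r hr
    rw [← map_mul, ← map_mul, hcen s hr b]
  have houtR : ∀ g, g ∉ zpowers a → ι g ∈ R := fun g hg => hfour x g hx (hout4 g hg) R hRn hxR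
  have hall : ∀ y, ι y ∈ R := by
    intro y
    by_cases hy : y ∈ zpowers a
    · have := mul_mem (houtR _ (fun h' => hg₀ ((mul_mem_cancel_left hy).1 h') : y * g₀ ∉ zpowers a))
        (inv_mem (houtR g₀ hg₀))
      rwa [← map_inv, ← map_mul, mul_inv_cancel_right] at this
    · exact houtR y hy
  have hAn : ((zpowers a).map ι).Normal := by
    refine ⟨fun t ht q => ?_⟩
    obtain ⟨_, ⟨i, rfl⟩, rfl⟩ := ht
    obtain ⟨w, hw⟩ := hRS _ (hRn.conj_mem _ (hall a) q)
    have hwo : orderOf w = 2 ^ n := by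
      rw [← orderOf_injective ι hinj, hw, show q * ι a * q⁻¹ = (MulAut.conj q) (ι a) from rfl,
        MulEquiv.orderOf_eq, orderOf_injective ι hinj, ha]
    have hwa : w ∈ zpowers a := by
      by_contra hwa
      have := (hout4 w hwa).symm.trans hwo
      have h4 : 2 ^ 3 ≤ 2 ^ n := Nat.pow_le_pow_right two_pos hn3
      omega
    refine ⟨w ^ i, zpow_mem hwa i, ?_⟩
    rw [map_zpow, hw, conj_zpow]
    simp
  have hBn : ((zpowers b).map ι).Normal := by
    refine ⟨fun t ht q => ?_⟩
    obtain ⟨_, ⟨i, rfl⟩, rfl⟩ := ht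
    obtain ⟨_, ⟨j, rfl⟩, hj⟩ := hAn.conj_mem (ι a) (mem_map_of_mem ι (mem_zpowers a)) q
    refine ⟨b ^ (j * i), zpow_mem_zpowers b _, ?_⟩
    simp only [map_zpow, hbdef, map_pow] at hj ⊢
    rw [← conj_zpow, ← conj_pow, ← hj, ← zpow_natCast (ι a) , ← zpow_natCast ((ι a) ^ j), ← zpow_mul,
      ← zpow_mul, ← zpow_mul]
    ring_nf
  have hg0 := hfour b g₀ hb (hout4 g₀ hg₀) _ hBn (mem_map_of_mem ι (mem_zpowers b))
  obtain ⟨w, hw, hwe⟩ := hg0
  exact hg₀ (hinj hwe ▸ (zpowers_le.2 (pow_mem (mem_zpowers a) _)) hw)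

end CfsgLib.EqOrder
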