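import Cfsg.Agent.EqualOrder.Quaternion
import Cfsg.Agent.FGSB.ConjP.Structure

/-!
# A quaternion group of order eight inside a solvable group transitive on subgroups of each order
-/

set_option autoImplicit false
set_option linter.unusedSectionVars false
set_option linter.style.haveILetI false

namespace CfsgLib.EqOrder

open Subgroup Module

/-- A two dimensional involutory map of determinant one is a sign. -/
theorem sign_of_det_one {F V : Type*} [Field F] [AddCommGroup V] [Module F V] [FiniteDimensional F V]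
    (hV : finrank F V = 2) (h2 : (2 : F) ≠ 0) (T : Module.End F V) (hT : T * T = 1) (hd : LinearMap.det T = 1) :
    T = 1 ∨ T = -1 := by
  let bs := Module.finBasisOfFinrankEq F V hV
  set A := LinearMap.toMatrix bs bs T with hA
  have hAA : A * A = 1 := by rw [hA, ← LinearMap.toMatrix_mul, hT, LinearMap.toMatrix_one]
  have hdA : A 0 0 * A 1 1 - A 0 1 * A 1 0 = 1 := by
    rw [← Matrix.det_fin_two, hA, LinearMap.det_toMatrix, hd]
  have e00 : A 0 0 * A 0 0 + A 0 1 * A 1 0 = 1 := by
    simpa [Matrix.mul_apply, Fin.sum_univ_two] using congrFun (congrFun hAA 0) 0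
  have e11 : A 1 0 * A 0 1 + A 1 1 * A 1 1 = 1 := by
    simpa [Matrix.mul_apply, Fin.sum_univ_two] using congrFun (congrFun hAA 1) 1
  have e01 : A 0 0 * A 0 1 + A 0 1 * A 1 1 = 0 := by
    simpa [Matrix.mul_apply, Fin.sum_univ_two] using congrFun (congrFun hAA 0) 1
  have e10 : A 1 0 * A 0 0 + A 1 1 * A 1 0 = 0 := by
    simpa [Matrix.mul_apply, Fin.sum_univ_two] using congrFun (congrFun hAA 1) 0
  have ht : (A 0 0 + A 1 1) * A 0 0 = 2 := by linear_combination e00 + hdA
  have hne : A 0 0 + A 1 1 ≠ 0 := fun h => h2 (by rw [← ht, h, zero_mul])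
  have h01 : A 0 1 = 0 := by
    have : A 0 1 * (A 0 0 + A 1 1) = 0 := by linear_combination e01
    exact (mul_eq_zero.1 this).resolve_right hne
  have h10 : A 1 0 = 0 := by
    have : A 1 0 * (A 0 0 + A 1 1) = 0 := by linear_combination e10
    exact (mul_eq_zero.1 this).resolve_right hne
  rw [h01, zero_mul, add_zero] at e00
  rw [h01, zero_mul, sub_zero] at hdA
  have h11 : A 1 1 = A 0 0 := by
    calc A 1 1 = A 0 0 * A 0 0 * A 1 1 := by rw [e00, one_mul]
      _ = A 0 0 := by rw [mul_assoc, hdA, mul_one]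
  rcases mul_self_eq_one_iff.1 e00 with h | h
  · left
    apply (LinearMap.toMatrix bs bs).injective
    rw [← hA, LinearMap.toMatrix_one]
    ext i j
    fin_cases i <;> fin_cases j <;> simp [h, h01, h10, h11]
  · right
    apply (LinearMap.toMatrix bs bs).injective
    rw [← hA, map_neg, LinearMap.toMatrix_one]
    ext i j
    fin_cases i <;> fin_cases j <;> simp [h, h01, h10, h11]

variable {G : Type*} [Group G] [Finite G]

/-- The dichotomy for a quaternion group acting on a transitive elementary abelian normal subgroup. -/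
theorem eight_on_elementary {p : ℕ} [hp : Fact p.Prime] (hs : Group.IsSolvable G) (M : Subgroup G) [M.Normal]
    (hc : ∀ a ∈ M, ∀ b ∈ M, a * b = b * a) (he : ∀ a ∈ M, a ^ p = 1) {n : ℕ} (hn : 2 ≤ n)
    (hMc : Nat.card M = p ^ n) (H : Subgroup G) (hpH : ¬ p ∣ Nat.card H)
    (htr : ∀ W W' : Subgroup G, W ≤ M → W' ≤ M → Nat.card W = Nat.card W' →
      ∃ h ∈ H, W' = W.map (MulAut.conj h).toMonoidHom)
    {P : Subgroup G} {z : G} (hPH : P ≤ H) (d : QuatData P z)
    (hconj : ∀ x ∈ P, ∀ y ∈ P, orderOf x = 4 → orderOf y = 4 → ∃ h ∈ H, ∃ k : ℤ, h * x * h⁻¹ = y ^ k) :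
    (∀ a ∈ P, ∀ m ∈ M, a * m = m * a) ∨
      (∀ W : Subgroup G, W ≤ M → (∀ a ∈ P, ∀ w ∈ W, a * w * a⁻¹ ∈ W) → W = ⊥ ∨ W = M) := by
  classical
  haveI := hs
  have hp2 : p ≠ 2 := by
    rintro rfl
    exact hpH ((show 2 ∣ Nat.card P by rw [d.card]; norm_num).trans (card_dvd_of_le hPH))
  have hodd : Odd p := hp.out.odd_of_ne_two hp2
  letI : CommGroup M := { (inferInstance : Group M) with mul_comm := fun a b => Subtype.ext (hc a a.2 b b.2) }
  have hexp : ∀ v : Additive M, p • v = 0 := fun v => congrArg Additive.ofMul (Subtype.ext (he _ v.toMul.2) : v.toMul ^ p = 1)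
  letI : Module (ZMod p) (Additive M) := AddCommGroup.zmodModule (n := p) (G := Additive M) hexp
  haveI : Finite (Additive M) := inferInstanceAs (Finite M)
  haveI : Module.Finite (ZMod p) (Additive M) := Module.Finite.of_finite
  have hfin : finrank (ZMod p) (Additive M) = n := by
    have h : Nat.card (Additive M) = p ^ n := hMc
    rw [Module.natCard_eq_pow_finrank (K := ZMod p), Nat.card_zmod] at h
    exact Nat.pow_right_injective hp.out.two_le h
  let cj : H →* MulAut M := (MulAut.conjNormal : G →* MulAut M).comp H.subtype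
  let toEnd : MulAut M → Module.End (ZMod p) (Additive M) :=
    fun e => AddMonoidHom.toZModLinearMap p (MulEquiv.toAdditive e).toAddMonoidHom
  have htoEnd : ∀ (e : MulAut M) (v : Additive M), toEnd e v = Additive.ofMul (e v.toMul) := fun e v => rfl
  let ρ : cj.range →* Module.End (ZMod p) (Additive M) :=
    { toFun := fun g => toEnd g
      map_one' := LinearMap.ext fun v => by rw [htoEnd, OneMemClass.coe_one]; rfl
      map_mul' := fun g h => LinearMap.ext fun v => by
        rw [Module.End.mul_apply, htoEnd, htoEnd, htoEnd, Subgroup.coe_mul]; rfl }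
  have hρapp : ∀ (g : cj.range) (v : Additive M), ρ g v = Additive.ofMul ((g : MulAut M) v.toMul) := fun g v => rfl
  have hρ : Function.Injective ρ := fun g h e => Subtype.ext (MulEquiv.ext fun a => by
    have := LinearMap.congr_fun e (Additive.ofMul a)
    rw [hρapp, hρapp] at this
    exact Additive.ofMul.injective this)
  let R : H →* Module.End (ZMod p) (Additive M) := ρ.comp cj.rangeRestrict
  have hR : ∀ (h : H) (m : M), R h (Additive.ofMul m) = Additive.ofMul (MulAut.conjNormal (h : G) m) :=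
    fun h m => rfl
  have hR1 : ∀ h : H, R h = 1 ↔ ∀ m ∈ M, (h : G) * m = m * h := by
    intro h
    constructor
    · intro e m hm
      have := congrArg (fun v : Additive M => ((v.toMul : M) : G)) (LinearMap.congr_fun e (Additive.ofMul ⟨m, hm⟩))
      simp only [hR, Module.End.one_apply, toMul_ofMul, MulAut.conjNormal_apply] at this
      exact mul_inv_eq_iff_eq_mul.1 this
    · intro e
      refine LinearMap.ext fun v => ?_
      obtain ⟨m, rfl⟩ : ∃ m, Additive.ofMul m = v := ⟨v.toMul, rfl⟩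
      rw [hR, Module.End.one_apply]
      refine congrArg _ (Subtype.ext ?_)
      rw [MulAut.conjNormal_apply, e m m.2, mul_inv_cancel_right]
  have hRm : ∀ h : H, R h = -1 → ∀ m ∈ M, (h : G) * m * (h : G)⁻¹ = m⁻¹ := by
    intro h e m hm
    have := congrArg (fun v : Additive M => ((v.toMul : M) : G)) (LinearMap.congr_fun e (Additive.ofMul ⟨m, hm⟩))
    simpa [hR, MulAut.conjNormal_apply] using this
  have hnm : (1 : Module.End (ZMod p) (Additive M)) ≠ -1 := by
    intro e
    obtain ⟨m, hm⟩ : ∃ m : M, m ≠ 1 := by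
      haveI : Nontrivial M := Finite.one_lt_card_iff_nontrivial.1 (by
        rw [hMc]; exact Nat.one_lt_pow (by omega) hp.out.one_lt)
      exact exists_ne 1
    have h1 := congrArg Additive.toMul (LinearMap.congr_fun e (Additive.ofMul m))
    simp only [Module.End.one_apply, LinearMap.neg_apply, toMul_neg, toMul_ofMul] at h1
    have h2 : m ^ 2 = 1 := by rw [sq]; exact eq_inv_iff_mul_eq_one.1 h1
    have h3 : m ^ p = 1 := Subtype.ext (by simpa using he _ m.2)
    apply hm
    rw [← pow_one m, ← (hodd.coprime_two_left).gcd_eq_one, pow_gcd_eq_one]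
    exact ⟨h2, h3⟩
  -- the final step
  have hsq : ∀ a ∈ P, orderOf a = 4 → ∀ k : ℤ, orderOf (a ^ k) = 4 → Odd k := by
    intro a _ ha k hk
    rcases Int.even_or_odd k with ⟨l, rfl⟩ | h
    · exfalso
      have h1 : (a ^ (l + l)) ^ 2 = 1 := by
        rw [← zpow_natCast, ← zpow_mul, ← orderOf_dvd_iff_zpow_eq_one, ha]
        exact ⟨l, by push_cast; ring⟩
      have := Nat.le_of_dvd two_pos (hk ▸ orderOf_dvd_of_pow_eq_one h1)
      omega
    · exact h
  have hRconj : ∀ x (hx : x ∈ P) y (hy : y ∈ P), orderOf x = 4 → orderOf y = 4 →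
      R ⟨y, hPH hy⟩ * R ⟨y, hPH hy⟩ = 1 →
      ∃ u : H, R u * R ⟨x, hPH hx⟩ * R u⁻¹ = R ⟨y, hPH hy⟩ := by
    intro x hx y hy hxo hyo hy2
    obtain ⟨h, hh, k, hk⟩ := hconj x hx y hy hxo hyo
    refine ⟨⟨h, hh⟩, ?_⟩
    obtain ⟨l, rfl⟩ := hsq y hy hyo k (by
      rw [← hk, show h * x * h⁻¹ = (MulAut.conj h) x from rfl, MulEquiv.orderOf_eq, hxo])
    have e : (⟨h, hh⟩ : H) * ⟨x, hPH hx⟩ * (⟨h, hh⟩ : H)⁻¹ =
        ((⟨y, hPH hy⟩ : H) ^ 2) ^ l * ⟨y, hPH hy⟩ := Subtype.ext (by
      simp only [Subgroup.coe_mul, Subgroup.coe_inv, SubgroupClass.coe_zpow, SubmonoidClass.coe_pow]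
      rw [hk, zpow_add_one, zpow_mul]; norm_cast)
    rw [← map_mul, ← map_mul, e, map_mul]
    have h2 : ∀ j : ℤ, R (((⟨y, hPH hy⟩ : H) ^ 2) ^ j) = 1 := by
      intro j
      have hmem : (⟨y, hPH hy⟩ : H) ^ 2 ∈ R.ker := by
        rw [MonoidHom.mem_ker, map_pow, sq, hy2]
      exact MonoidHom.mem_ker.1 (zpow_mem hmem j)
    rw [h2, one_mul]
  have hgen : (∀ a (ha : a ∈ P), orderOf a = 4 → R ⟨a, hPH ha⟩ = 1) →
      ∀ a ∈ P, ∀ m ∈ M, a * m = m * a := by
    intro h a ha
    refine (hR1 ⟨a, hPH ha⟩).1 ?_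
    obtain ⟨b, hb, hbo⟩ := d.exists_four
    rcases eq_or_ne a 1 with rfl | h1
    · exact map_one R
    rcases eq_or_ne a z with rfl | hz
    · have e : (⟨a, hPH ha⟩ : H) = ⟨b, hPH hb⟩ ^ 2 := Subtype.ext (by simp [d.sq_z b hb hbo])
      rw [e, map_pow, h b hb hbo, one_pow]
    · exact h a ha (d.four a ha h1 hz)
  have hfinal : (∀ a (ha : a ∈ P), orderOf a = 4 → R ⟨a, hPH ha⟩ = 1 ∨ R ⟨a, hPH ha⟩ = -1) →
      ∀ a ∈ P, ∀ m ∈ M, a * m = m * a := by
    intro h
    apply hgen
    have hall : ∀ x (hx : x ∈ P) y (hy : y ∈ P), orderOf x = 4 → orderOf y = 4 →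
        R ⟨x, hPH hx⟩ = R ⟨y, hPH hy⟩ := by
      intro x hx y hy hxo hyo
      obtain ⟨u, hu⟩ := hRconj x hx y hy hxo hyo (by rcases h y hy hyo with e | e <;> simp [e])
      rw [← hu]
      rcases h x hx hxo with e | e <;> rw [e] <;> simp [← map_mul]
    intro a ha hao
    rcases h a ha hao with e | e
    · exact e
    exfalso
    obtain ⟨b, hb, hab⟩ := d.exists_outside hao
    have hbo : orderOf b = 4 := d.four b hb (fun h1 => hab (h1 ▸ one_mem _))
      (fun h1 => hab (h1 ▸ d.sq_z a ha hao ▸ pow_mem (mem_zpowers a) 2))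
    have habo : orderOf (a * b) = 4 := d.four _ (mul_mem ha hb)
      (fun h1 => hab (by rw [eq_inv_of_mul_eq_one_right h1]; exact inv_mem (mem_zpowers a)))
      (fun h1 => hab (by
        rw [eq_inv_mul_of_mul_eq h1, ← d.sq_z a ha hao]
        exact mul_mem (inv_mem (mem_zpowers a)) (pow_mem (mem_zpowers a) 2)))
    have h1 := hall (a * b) (mul_mem ha hb) a ha habo hao
    rw [show (⟨a * b, hPH (mul_mem ha hb)⟩ : H) = ⟨a, hPH ha⟩ * ⟨b, hPH hb⟩ from rfl, map_mul,
      hall b hb a ha hbo hao, e, neg_mul_neg, one_mul] at h1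
    exact hnm h1
  by_cases hn3 : 3 ≤ n
  · -- semilinear case
    left
    apply hfinal
    have hpX : ¬ p ∣ Nat.card cj.range := fun h => hpH (h.trans (by
      rw [← index_ker]; exact index_dvd_card _))
    haveI : Group.IsSolvable cj.range := Group.isSolvable_of_surjective (f := cj.rangeRestrict) cj.rangeRestrict_surjective
    let tog : Submodule (ZMod p) (Additive M) → Subgroup G := fun W =>
      ((AddSubgroup.toSubgroup (W.toAddSubgroup : AddSubgroup (Additive M)) : Subgroup M)).map M.subtype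
    have hmem : ∀ W (q : M), (q : G) ∈ tog W ↔ Additive.ofMul q ∈ W := fun W q => by
      constructor
      · rintro ⟨q', hq', e⟩
        rw [show q' = q from Subtype.ext e] at hq'
        exact hq'
      · exact fun h => ⟨q, h, rfl⟩
    have htogcard : ∀ W, Nat.card (tog W) = Nat.card W := fun W =>
      (card_map_of_injective M.subtype_injective).trans
        (Nat.card_congr (Equiv.subtypeEquiv Additive.ofMul fun _ => Iff.rfl))
    have htr' : ∀ W W' : Submodule (ZMod p) (Additive M), Nat.card W = Nat.card W' →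
        ∃ g : cj.range, W.map (ρ g) = W' := by
      intro W W' h
      obtain ⟨x, hxH, hx⟩ := htr (tog W) (tog W') (map_subtype_le _) (map_subtype_le _) (by rw [htogcard, htogcard, h])
      refine ⟨cj.rangeRestrict ⟨x, hxH⟩, ?_⟩
      ext v
      obtain ⟨q, rfl⟩ : ∃ q, Additive.ofMul q = v := ⟨v.toMul, rfl⟩
      rw [← hmem W', hx, Submodule.mem_map]
      constructor
      · rintro ⟨w, hw, hwq⟩
        obtain ⟨u, rfl⟩ : ∃ u, Additive.ofMul u = w := ⟨w.toMul, rfl⟩
        refine ⟨u, (hmem W u).2 hw, ?_⟩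
        have e : MulAut.conjNormal x u = q := Additive.ofMul.injective hwq
        rw [← e, MulAut.conjNormal_apply]
        rfl
      · rintro ⟨y, ⟨u, hu, rfl⟩, hy⟩
        refine ⟨Additive.ofMul u, hu, ?_⟩
        rw [hρapp]
        refine congrArg _ (Subtype.ext ?_)
        rw [← hy]
        exact MulAut.conjNormal_apply _ _
    obtain ⟨hnodd, e, hsl⟩ := CfsgLib.ConjP.semilinear hpX ρ hρ hfin hn3 htr'
    -- every element of `P` acts by a multiplication
    have hmult : ∀ a (ha : a ∈ P), ∃ c : GaloisField p n, ∀ k, R ⟨a, hPH ha⟩ (e k) = e (c * k) := by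
      intro a ha
      obtain ⟨c, σ, hc0, hcσ⟩ := hsl (cj.rangeRestrict ⟨a, hPH ha⟩)
      have hit : ∀ (j : ℕ), ∃ c' : GaloisField p n, ∀ k, (R ⟨a, hPH ha⟩ ^ j) (e k) = e (c' * (σ ^ j) k) := by
        intro j
        induction j with
        | zero => exact ⟨1, fun k => by simp⟩
        | succ j ih =>
          obtain ⟨c', hc'⟩ := ih
          refine ⟨c * σ c', fun k => ?_⟩
          rw [pow_succ', Module.End.mul_apply, hc']
          show ρ (cj.rangeRestrict ⟨a, hPH ha⟩) _ = _
          rw [hcσ, map_mul σ, mul_assoc, pow_succ', RingAut.mul_apply]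
      have h4 : R ⟨a, hPH ha⟩ ^ 4 = 1 := by
        rw [← map_pow]
        have : (⟨a, hPH ha⟩ : H) ^ 4 = 1 := by
          obtain ⟨b, hb, hbo⟩ := d.exists_four
          refine Subtype.ext ?_
          rw [SubmonoidClass.coe_pow, OneMemClass.coe_one]
          rcases eq_or_ne a 1 with rfl | h1
          · simp
          rcases eq_or_ne a z with rfl | hz
          · rw [show 4 = 2 * 2 by norm_num, pow_mul, ← d.order, pow_orderOf_eq_one, one_pow]
          · rw [← d.four a ha h1 hz, pow_orderOf_eq_one]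
        rw [this, map_one]
      have hσ4 : σ ^ 4 = 1 := by
        refine RingEquiv.ext fun k => ?_
        obtain ⟨c', hc'⟩ := hit 4
        have h1 := hc' k
        have h0 := hc' 1
        rw [h4] at h1 h0
        rw [Module.End.one_apply, map_one (σ ^ 4), mul_one] at h0
        rw [Module.End.one_apply, ← e.injective h0, one_mul] at h1
        exact (e.injective h1).symm
      haveI : Finite (GaloisField p n) := Finite.of_equiv _ e.toEquiv.symm
      have hσn : σ ^ n = 1 := by
        let σ' : GaloisField p n ≃ₐ[ZMod p] GaloisField p n := AlgEquiv.ofRingEquiv (f := σ)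
          (fun x => RingHom.congr_fun (Subsingleton.elim ((σ.toRingHom).comp (algebraMap (ZMod p) (GaloisField p n)))
            (algebraMap (ZMod p) (GaloisField p n))) x)
        have h1 : σ' ^ n = 1 := by
          have hcard : Nat.card (GaloisField p n ≃ₐ[ZMod p] GaloisField p n) = n := by
            rw [IsGalois.card_aut_eq_finrank, GaloisField.finrank p (by omega)]
          have h0 : σ' ^ Nat.card (GaloisField p n ≃ₐ[ZMod p] GaloisField p n) = 1 := pow_card_eq_one'
          rwa [hcard] at h0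
        have h2 : ∀ (j : ℕ) k, (σ' ^ j) k = (σ ^ j) k := by
          intro j
          induction j with
          | zero => intro k; rfl
          | succ j ih => intro k; rw [pow_succ', pow_succ', AlgEquiv.mul_apply, ih]; rfl
        refine RingEquiv.ext fun k => ?_
        rw [← h2, h1]; rfl
      have hσ1 : σ = 1 := by
        have hg : Nat.gcd 4 n = 1 := (hnodd.coprime_two_left).pow_left 2
        rw [← pow_one σ, ← hg, pow_gcd_eq_one]
        exact ⟨hσ4, hσn⟩
      refine ⟨c, fun k => ?_⟩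
      show ρ (cj.rangeRestrict ⟨a, hPH ha⟩) (e k) = _
      rw [hcσ, hσ1]; rfl
    intro a ha hao
    obtain ⟨b, hb, hab⟩ := d.exists_outside hao
    obtain ⟨ca, hca⟩ := hmult a ha
    obtain ⟨cb, hcb⟩ := hmult b hb
    have hcomm : R ⟨a, hPH ha⟩ * R ⟨b, hPH hb⟩ = R ⟨b, hPH hb⟩ * R ⟨a, hPH ha⟩ := by
      refine LinearMap.ext fun v => ?_
      obtain ⟨k, rfl⟩ := e.surjective v
      rw [Module.End.mul_apply, Module.End.mul_apply, hca, hcb, hcb, hca, mul_left_comm]
    have h2 : R ⟨a, hPH ha⟩ * R ⟨a, hPH ha⟩ = 1 := by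
      have hinv : (⟨b, hPH hb⟩ : H) * ⟨a, hPH ha⟩ * (⟨b, hPH hb⟩ : H)⁻¹ = (⟨a, hPH ha⟩ : H)⁻¹ :=
        Subtype.ext (d.conj_inv a ha hao b hb hab)
      have h1 := congrArg R hinv
      rw [map_mul, map_mul, ← hcomm, mul_assoc, ← map_mul, mul_inv_cancel, map_one, mul_one] at h1
      calc R ⟨a, hPH ha⟩ * R ⟨a, hPH ha⟩ = R ⟨a, hPH ha⟩ * R (⟨a, hPH ha⟩ : H)⁻¹ := by rw [← h1]
        _ = 1 := by rw [← map_mul, mul_inv_cancel, map_one]
    have hc2 : ca * ca = 1 := by
      have h3 := LinearMap.congr_fun h2 (e 1)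
      rw [Module.End.mul_apply, hca, hca, Module.End.one_apply, mul_one] at h3
      exact e.injective h3
    rcases mul_self_eq_one_iff.1 hc2 with h | h
    · left
      refine LinearMap.ext fun v => ?_
      obtain ⟨k, rfl⟩ := e.surjective v
      rw [hca, h, one_mul, Module.End.one_apply]
    · right
      refine LinearMap.ext fun v => ?_
      obtain ⟨k, rfl⟩ := e.surjective v
      rw [hca, h, neg_one_mul, map_neg, LinearMap.neg_apply, Module.End.one_apply]
  -- two dimensions
  have hn2 : n = 2 := by omega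
  subst hn2
  by_cases hz : ∀ m ∈ M, z * m = m * z
  · left
    apply hfinal
    have hinv2 : ∀ a (ha : a ∈ P), orderOf a = 4 → R ⟨a, hPH ha⟩ * R ⟨a, hPH ha⟩ = 1 := by
      intro a ha hao
      rw [← map_mul]
      refine (hR1 _).2 ?_
      rw [Subgroup.coe_mul, ← sq, d.sq_z a ha hao]
      exact hz
    have hdet : ∀ x (hx : x ∈ P) y (hy : y ∈ P), orderOf x = 4 → orderOf y = 4 →
        LinearMap.det (R ⟨x, hPH hx⟩) = LinearMap.det (R ⟨y, hPH hy⟩) := by
      intro x hx y hy hxo hyo
      obtain ⟨u, hu⟩ := hRconj x hx y hy hxo hyo (hinv2 y hy hyo)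
      rw [← hu, map_mul, map_mul, mul_comm (LinearMap.det (R u)), mul_assoc, ← map_mul LinearMap.det,
        ← map_mul R, mul_inv_cancel, map_one, map_one, mul_one]
    intro a ha hao
    obtain ⟨b, hb, hab⟩ := d.exists_outside hao
    have hbo : orderOf b = 4 := d.four b hb (fun h1 => hab (h1 ▸ one_mem _))
      (fun h1 => hab (h1 ▸ d.sq_z a ha hao ▸ pow_mem (mem_zpowers a) 2))
    have habo : orderOf (a * b) = 4 := d.four _ (mul_mem ha hb)
      (fun h1 => hab (by rw [eq_inv_of_mul_eq_one_right h1]; exact inv_mem (mem_zpowers a)))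
      (fun h1 => hab (by
        rw [eq_inv_mul_of_mul_eq h1, ← d.sq_z a ha hao]
        exact mul_mem (inv_mem (mem_zpowers a)) (pow_mem (mem_zpowers a) 2)))
    have h1 := hdet (a * b) (mul_mem ha hb) a ha habo hao
    rw [show (⟨a * b, hPH (mul_mem ha hb)⟩ : H) = ⟨a, hPH ha⟩ * ⟨b, hPH hb⟩ from rfl, map_mul, map_mul,
      hdet b hb a ha hbo hao] at h1
    have hne : LinearMap.det (R ⟨a, hPH ha⟩) ≠ 0 := fun h0 => by
      have := congrArg LinearMap.det (hinv2 a ha hao)
      rw [map_mul, h0, mul_zero, map_one] at this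
      exact zero_ne_one this
    refine sign_of_det_one hfin ?_ _ (hinv2 a ha hao) (mul_left_cancel₀ hne (by rw [h1, mul_one]))
    intro h0
    have : (p : ℕ) ∣ 2 := (ZMod.natCast_eq_zero_iff 2 p).1 (by exact_mod_cast h0)
    exact hp2 ((Nat.prime_dvd_prime_iff_eq hp.out Nat.prime_two).1 this)
  · right
    intro W hWM hW
    by_contra hcon
    push Not at hcon
    obtain ⟨hW1, hW2⟩ := hcon
    apply hz
    have hWc : Nat.card W = p := by
      obtain ⟨i, hi2, hi⟩ := (Nat.dvd_prime_pow hp.out).1 (hMc ▸ card_dvd_of_le hWM)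
      interval_cases i
      · exact absurd (eq_bot_of_card_eq W (by simpa using hi)) hW1
      · simpa using hi
      · exact absurd (CfsgLib.Solvable.eq_of_le_of_card_le hWM (by rw [hMc, hi])) hW2
    obtain ⟨a, ha, hao⟩ := d.exists_four
    obtain ⟨b, hb, hab⟩ := d.exists_outside hao
    have hza : b * a * b⁻¹ * a⁻¹ = z := by
      rw [d.conj_inv a ha hao b hb hab, ← mul_inv_rev, ← sq, d.sq_z a ha hao]
      exact inv_eq_of_mul_eq_one_right (by rw [← sq, ← d.order, pow_orderOf_eq_one])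
    obtain ⟨w, hw, hw1⟩ : ∃ w ∈ W, w ≠ (1 : G) := by
      haveI := (nontrivial_iff_ne_bot W).2 hW1
      obtain ⟨⟨w, hw⟩, hne⟩ := exists_ne (1 : W)
      exact ⟨w, hw, fun e => hne (Subtype.ext e)⟩
    obtain ⟨hWz, -⟩ := eq_zpowers_of_card_prime hp.out hWc hw hw1
    have hpw : ∀ x ∈ W, ∀ g : G, ∀ i : ℤ, g * w * g⁻¹ = w ^ i → g * x * g⁻¹ = x ^ i := by
      intro x hx g i hg
      rw [hWz] at hx
      obtain ⟨j, rfl⟩ := hx
      show g * w ^ j * g⁻¹ = (w ^ j) ^ i
      rw [← conj_zpow, hg, ← zpow_mul, ← zpow_mul, mul_comm]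
    obtain ⟨i, hi⟩ := hWz ▸ hW a ha w hw
    obtain ⟨j, hj⟩ := hWz ▸ hW b hb w hw
    -- `z` centralizes `W`
    have hzW : ∀ x ∈ W, z * x * z⁻¹ = x := by
      intro x hx
      have hab' : ∀ x ∈ W, b * (a * x * a⁻¹) * b⁻¹ = a * (b * x * b⁻¹) * a⁻¹ := fun x hx => by
        rw [hpw x hx a i hi.symm, hpw x hx b j hj.symm, hpw _ (zpow_mem hx i) b j hj.symm,
          hpw _ (zpow_mem hx j) a i hi.symm, ← zpow_mul, ← zpow_mul, mul_comm]
      set y := b⁻¹ * (a⁻¹ * x * a) * b with hy
      have hyW : y ∈ W := by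
        have h1 := hW a⁻¹ (inv_mem ha) x hx
        rw [inv_inv] at h1
        have h2 := hW b⁻¹ (inv_mem hb) _ h1
        rwa [inv_inv] at h2
      have h3 := hab' y hyW
      rw [← hza]
      calc b * a * b⁻¹ * a⁻¹ * x * (b * a * b⁻¹ * a⁻¹)⁻¹ = b * (a * y * a⁻¹) * b⁻¹ := by rw [hy]; group
        _ = a * (b * y * b⁻¹) * a⁻¹ := h3
        _ = x := by rw [hy]; group
    intro m hm
    by_cases hmW : m ∈ W
    · exact mul_inv_eq_iff_eq_mul.1 (hzW m hmW)
    suffices key : ∀ m ∈ M, m ∉ W → z * (a * b * m * (a * b)⁻¹) = (a * b * m * (a * b)⁻¹) * z by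
      have h0 := key ((a * b)⁻¹ * m * (a * b)) (by
        simpa using Normal.conj_mem (H := M) inferInstance m hm (a * b)⁻¹) (fun h => hmW (by
          have := hW a ha _ (hW b hb _ h)
          simpa [mul_assoc] using this))
      simpa [mul_assoc] using h0
    clear hmW hm m
    intro m hm hmW
    -- `M = ⟨m⟩ W`
    have hmo : orderOf m = p := orderOf_eq_prime (he m hm) (fun e => hmW (e ▸ one_mem W))
    have hnW : ∀ L : Subgroup G, L ≤ M → L ≤ normalizer (W : Set G) := fun L hL x hx => by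
      rw [mem_normalizer_iff]
      intro y
      constructor
      · intro hy
        rwa [hc x (hL hx) y (hWM hy), mul_inv_cancel_right]
      · intro hy
        have h1 := hc x (hL hx) _ (hWM hy)
        have : y = x * y * x⁻¹ := by
          calc y = x⁻¹ * (x * y * x⁻¹) * x := by group
            _ = x⁻¹ * (x * (x * y * x⁻¹)) := by rw [mul_assoc, ← h1]
            _ = _ := inv_mul_cancel_left _ _
        rw [this]; exact hy
    have hdis : zpowers m ⊓ W = ⊥ := by
      rw [eq_bot_iff]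
      intro y hy
      by_contra hy1
      rw [mem_bot] at hy1
      have := (eq_zpowers_of_card_prime hp.out (by rw [Nat.card_zpowers, hmo]) hy.1 hy1).1
      exact hmW ((this ▸ zpowers_le.2 hy.2 : zpowers m ≤ W) (mem_zpowers m))
    have hsup : zpowers m ⊔ W = M := CfsgLib.Solvable.eq_of_le_of_card_le (sup_le (zpowers_le.2 hm) hWM) (by
      rw [CfsgLib.Solvable.card_sup_of_disjoint (hnW _ (zpowers_le.2 hm)) hdis, Nat.card_zpowers, hmo, hWc,
        hMc, sq])
    have hdec : ∀ x ∈ M, ∃ (i : ℤ) (v : G), v ∈ W ∧ x = m ^ i * v := by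
      intro x hx
      rw [← hsup, CfsgLib.Solvable.mem_sup_of_le_normalizer (hnW _ (zpowers_le.2 hm))] at hx
      obtain ⟨_, ⟨i, rfl⟩, v, hv, rfl⟩ := hx
      exact ⟨i, v, hv, rfl⟩
    obtain ⟨s, u, hu, hsu⟩ := hdec _ (Normal.conj_mem (H := M) inferInstance m hm a)
    obtain ⟨t, v, hv, htv⟩ := hdec _ (Normal.conj_mem (H := M) inferInstance m hm b)
    have h1 : b * a * m * (b * a)⁻¹ = m ^ (t * s) * (v ^ s * (b * u * b⁻¹)) := by
      calc b * a * m * (b * a)⁻¹ = (b * m * b⁻¹) ^ s * (b * u * b⁻¹) := by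
            rw [conj_zpow, show b * a * m * (b * a)⁻¹ = b * (a * m * a⁻¹) * b⁻¹ by group, hsu]; group
        _ = _ := by
            have hmv : Commute (m ^ t) v := Commute.zpow_left (hc m hm v (hWM hv)) t
            rw [htv, hmv.mul_zpow, ← zpow_mul]; group
    have h2 : a * b * m * (a * b)⁻¹ = m ^ (t * s) * (u ^ t * (a * v * a⁻¹)) := by
      calc a * b * m * (a * b)⁻¹ = (a * m * a⁻¹) ^ t * (a * v * a⁻¹) := by
            rw [conj_zpow, show a * b * m * (a * b)⁻¹ = a * (b * m * b⁻¹) * a⁻¹ by group, htv]; group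
        _ = _ := by
            have hmu : Commute (m ^ s) u := Commute.zpow_left (hc m hm u (hWM hu)) s
            rw [hsu, hmu.mul_zpow, ← zpow_mul, mul_comm s t]; group
    set Q := u ^ t * (a * v * a⁻¹) with hQ
    set Q' := v ^ s * (b * u * b⁻¹) with hQ'
    set x := a * b * m * (a * b)⁻¹ with hx
    have hxM : x ∈ M := Normal.conj_mem (H := M) inferInstance m hm (a * b)
    have hQW : Q ∈ W := mul_mem (zpow_mem hu t) (hW a ha v hv)
    have hQW' : Q' ∈ W := mul_mem (zpow_mem hv s) (hW b hb u hu)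
    have hzx : z * x * z⁻¹ = x * (Q⁻¹ * Q') := by
      rw [show z * x * z⁻¹ = b * a * m * (b * a)⁻¹ by rw [← hza, hx]; group, h1, h2]
      group
    set q := Q⁻¹ * Q' with hq
    have hqW : q ∈ W := mul_mem (inv_mem hQW) hQW'
    have hq2 : q ^ 2 = 1 := by
      have h4 : z * (z * x * z⁻¹) * z⁻¹ = x * q * q := by
        rw [hzx, show z * (x * q) * z⁻¹ = z * x * z⁻¹ * (z * q * z⁻¹) by group, hzx, hzW q hqW]
      have hz2 : z * z = 1 := by rw [← sq, ← d.order, pow_orderOf_eq_one]
      rw [show z * (z * x * z⁻¹) * z⁻¹ = (z * z) * x * (z * z)⁻¹ by group, hz2, one_mul, inv_one,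
        mul_one, mul_assoc, left_eq_mul] at h4
      rw [sq]; exact h4
    have hq1 : q = 1 := by
      rw [← pow_one q, ← (hodd.coprime_two_left).gcd_eq_one, pow_gcd_eq_one]
      exact ⟨hq2, he q (hWM hqW)⟩
    rw [hq1, mul_one] at hzx
    exact mul_inv_eq_iff_eq_mul.1 hzx

end CfsgLib.EqOrder
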