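import Cfsg.Agent.EqualOrder.Thin
import Cfsg.Agent.EqualOrder.Linear
import Cfsg.Agent.Frobenius.Fpf

/-!
# Solvable groups with conjugate abelian subgroups of equal order have all equal order subgroups conjugate
-/

set_option autoImplicit false
set_option linter.unusedSectionVars false
set_option linter.style.haveILetI false

namespace CfsgLib.EqOrder

open Subgroup

universe u

variable {G : Type u} [Group G] [Finite G]

theorem RankOneAt.mem_zpowers (h : RankOneAt 2 G) {P : Subgroup G} (hP : IsPGroup 2 P) {x y : G}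
    (hx : x ∈ P) (hy : y ∈ P) (hxo : orderOf x = 2) (hyo : orderOf y = 2) : y ∈ zpowers x :=
  h P hP x hx y hy hxo hyo

/-- Without the rank one property there are two independent commuting elements of order `p`. -/
theorem exists_commuting_pair {p : ℕ} [hp : Fact p.Prime] (h : ¬ RankOneAt p G) :
    ∃ z w : G, orderOf z = p ∧ orderOf w = p ∧ Commute z w ∧ w ∉ zpowers z := by
  unfold RankOneAt at h
  push Not at h
  obtain ⟨P, hP, x, hx, y, hy, hxo, hyo, hxy⟩ := h
  obtain ⟨z, hz, hzo, hzc⟩ := exists_central_order p hP hx hxo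
  by_cases hxz : x ∈ zpowers z
  · exact ⟨z, y, hzo, hyo, hzc y hy, fun hyz => hxy (mem_zpowers_of_card_eq hxz (hxo.trans hzo.symm) ▸ hyz)⟩
  · exact ⟨z, x, hzo, hxo, hzc x hx, hxz⟩

/-- The standing situation: every nontrivial `p`-core is an elementary abelian Sylow subgroup. -/
structure Config (G : Type u) [Group G] : Prop where
  solv : Group.IsSolvable G
  ab : AbConj G
  core : ∀ p : ℕ, p.Prime → Cfsg.pCore p G ≠ ⊥ → ¬ RankOneAt p G

theorem Config.core_le (c : Config G) {p : ℕ} [hp : Fact p.Prime] (h : Cfsg.pCore p G ≠ ⊥) {P : Subgroup G}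
    (hP : IsPGroup p P) : P ≤ Cfsg.pCore p G := by
  haveI := (CfsgLib.Solvable.pCore_spec (G := G) p).1
  exact c.ab.le_of_not_rankOne (c.core p hp.out h) (CfsgLib.Solvable.isPGroup_pCore p) h hP

theorem Config.core_elementary (c : Config G) {p : ℕ} [hp : Fact p.Prime] (h : Cfsg.pCore p G ≠ ⊥) :
    (∀ a ∈ Cfsg.pCore p G, ∀ b ∈ Cfsg.pCore p G, a * b = b * a) ∧
      (∀ a ∈ Cfsg.pCore p G, a ^ p = 1) ∧
      ∃ n, 2 ≤ n ∧ Nat.card (Cfsg.pCore p G) = p ^ n := by
  haveI := c.solv
  haveI := (CfsgLib.Solvable.pCore_spec (G := G) p).1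
  obtain ⟨M, hMn, hM1, hMle, hMc, -, q, hq, hexp, hMq⟩ :=
    CfsgLib.Solvable.exists_normal_elementary_le h inferInstance
  haveI := hMn
  haveI := Fact.mk hq
  have hM' : IsPGroup p M := (CfsgLib.Solvable.isPGroup_pCore p).to_le hMle
  have hqp : q = p := by
    obtain ⟨k, hk0, hk⟩ := hMq.nontrivial_iff_card.1 ((nontrivial_iff_ne_bot M).2 hM1)
    obtain ⟨j, hj⟩ := IsPGroup.iff_card.1 hM'
    exact (Nat.prime_dvd_prime_iff_eq hq hp.out).1 (hq.dvd_of_dvd_pow (n := j) (hj ▸ hk ▸ dvd_pow_self q hk0.ne'))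
  subst hqp
  have heq : M = Cfsg.pCore q G :=
    le_antisymm hMle (c.ab.le_of_not_rankOne (c.core q hq h) hMq hM1 (CfsgLib.Solvable.isPGroup_pCore q))
  refine ⟨fun a ha b hb => comm_apply hMc (heq ▸ ha) (heq ▸ hb), fun a ha => hexp a (heq ▸ ha), ?_⟩
  obtain ⟨n, hn⟩ := IsPGroup.iff_card.1 (CfsgLib.Solvable.isPGroup_pCore (G := G) q)
  refine ⟨n, ?_, hn⟩
  by_contra hlt
  apply c.core q hq h
  intro P hP x hx y hy hxo hyo
  have hcyc : IsCyclic (Cfsg.pCore q G) := by
    interval_cases n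
    · exact absurd (eq_bot_of_card_eq _ (by simpa using hn)) h
    · exact isCyclic_of_prime_card (p := q) (by simpa using hn)
  exact rankOneAt_of_cyclic (c.core_le h hP hx) (c.core_le h hP hy) hxo hyo

theorem Config.core_ne_bot_of_mem (c : Config G) {p : ℕ} [hp : Fact p.Prime] {x : G}
    (hx : x ∈ Cfsg.fittingSubgroup G) (hxo : orderOf x = p) : Cfsg.pCore p G ≠ ⊥ ∧ x ∈ Cfsg.pCore p G := by
  haveI := CfsgLib.Solvable.isNilpotent_fittingSubgroup (G := G)
  set F := Cfsg.fittingSubgroup G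
  obtain ⟨P, hP⟩ := (IsPGroup.of_card (p := p) (n := 1)
    (by rw [Nat.card_zpowers, ← Subgroup.orderOf_coe, Subtype.coe_mk, hxo, pow_one]) :
      IsPGroup p (zpowers (⟨x, hx⟩ : F))).exists_le_sylow
  haveI hPn : (P : Subgroup F).Normal := inferInstance
  haveI := Sylow.characteristic_of_normal P hPn
  have h1 : (P : Subgroup F).map F.subtype ≤ Cfsg.pCore p G :=
    CfsgLib.Solvable.le_pCore p inferInstance (P.2.map _)
  have h2 : x ∈ Cfsg.pCore p G := h1 ⟨⟨x, hx⟩, hP (Subgroup.mem_zpowers _), rfl⟩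
  exact ⟨fun h => by
    rw [h, mem_bot] at h2
    rw [h2, orderOf_one] at hxo
    exact hp.out.ne_one hxo.symm, h2⟩

theorem Config.fitting_comm (c : Config G) :
    ∀ a ∈ Cfsg.fittingSubgroup G, ∀ b ∈ Cfsg.fittingSubgroup G, a * b = b * a := by
  have hle : Cfsg.fittingSubgroup G ≤ centralizer (Cfsg.fittingSubgroup G : Set G) := by
    rw [CfsgLib.Solvable.fittingSubgroup_eq_iSup_pCore]
    refine iSup_le fun q => ?_
    intro a ha
    rw [mem_centralizer_iff]
    intro b hb
    haveI := Fact.mk q.2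
    have hb' : b ∈ centralizer ({a} : Set G) := by
      refine (iSup_le (a := centralizer ({a} : Set G)) fun r => ?_) hb
      haveI := Fact.mk r.2
      intro b hb
      rw [mem_centralizer_singleton_iff]
      by_cases hqr : (q : ℕ) = (r : ℕ)
      · have hqr' : q = r := Subtype.ext hqr
        subst hqr'
        rcases eq_or_ne (Cfsg.pCore (q : ℕ) G) ⊥ with h | h
        · rw [h, mem_bot] at ha
          rw [ha, one_mul, mul_one]
        · exact (c.core_elementary h).1 b hb a ha
      · exact (Subgroup.commute_of_normal_of_disjoint _ _ (CfsgLib.Solvable.pCore_spec (G := G) (r : ℕ)).1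
          (CfsgLib.Solvable.pCore_spec (G := G) (q : ℕ)).1 (by
            rw [disjoint_iff]
            refine inf_eq_bot_of_coprime ?_
            obtain ⟨i, hi⟩ := IsPGroup.iff_card.1 (CfsgLib.Solvable.isPGroup_pCore (G := G) (r : ℕ))
            obtain ⟨j, hj⟩ := IsPGroup.iff_card.1 (CfsgLib.Solvable.isPGroup_pCore (G := G) (q : ℕ))
            rw [hi, hj]
            exact ((Nat.coprime_primes r.2 q.2).2 (Ne.symm hqr)).pow i j) b a hb ha).eq
    exact mem_centralizer_singleton_iff.1 hb'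
  exact fun a ha b hb => mem_centralizer_iff.1 (hle hb) a ha

theorem Config.coprime_index (c : Config G) :
    (Nat.card (Cfsg.fittingSubgroup G)).Coprime (Cfsg.fittingSubgroup G).index := by
  refine Nat.coprime_of_dvd fun q hq h1 h2 => ?_
  haveI := Fact.mk hq
  obtain ⟨x, hx⟩ := exists_prime_orderOf_dvd_card' (G := Cfsg.fittingSubgroup G) q h1
  obtain ⟨h3, -⟩ := c.core_ne_bot_of_mem x.2 (by rw [Subgroup.orderOf_coe, hx])
  haveI := (CfsgLib.Solvable.pCore_spec (G := G) q).1
  have h4 := c.ab.coprime_of_not_rankOne (c.core q hq h3) (CfsgLib.Solvable.isPGroup_pCore q) h3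
  obtain ⟨i, hi⟩ := IsPGroup.iff_card.1 (CfsgLib.Solvable.isPGroup_pCore (G := G) q)
  have hi0 : i ≠ 0 := by
    rintro rfl
    exact h3 (eq_bot_of_card_eq _ (by simpa using hi))
  rw [hi] at h4
  exact hq.coprime_iff_not_dvd.1 ((Nat.coprime_pow_left_iff (Nat.pos_of_ne_zero hi0) _ _).1 h4)
    (h2.trans (index_dvd_of_le (CfsgLib.Solvable.pCore_le_fittingSubgroup q)))

variable {H : Subgroup G}

/-- Projection of a conjugating element into a complement. -/
theorem exists_split (hF : IsComplement' (Cfsg.fittingSubgroup G) H) (g : G) :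
    ∃ f ∈ Cfsg.fittingSubgroup G, ∃ h ∈ H, g = f * h := by
  obtain ⟨⟨f, h⟩, e⟩ := hF.2 g
  exact ⟨f, f.2, h, h.2, e.symm⟩

theorem proj_mem (hF : IsComplement' (Cfsg.fittingSubgroup G) H) {f x : G}
    (hf : f ∈ Cfsg.fittingSubgroup G) (hx : x ∈ H) (h : f * x * f⁻¹ ∈ H) : f * x * f⁻¹ = x := by
  have h1 : f * x * f⁻¹ * x⁻¹ ∈ Cfsg.fittingSubgroup G ⊓ H :=
    mem_inf.2 ⟨by
      rw [show f * x * f⁻¹ * x⁻¹ = f * (x * f⁻¹ * x⁻¹) by group]
      exact mul_mem hf (Normal.conj_mem inferInstance _ (inv_mem hf) x), mul_mem h (inv_mem hx)⟩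
  rw [disjoint_iff.1 hF.disjoint, mem_bot] at h1
  exact mul_inv_eq_one.1 h1

/-- In the complement, all elements of order four generate conjugate cyclic groups. -/
theorem Config.conj_in (c : Config G) (hF : IsComplement' (Cfsg.fittingSubgroup G) H) {x y : G}
    (hx : x ∈ H) (hy : y ∈ H) (ho : orderOf x = orderOf y) :
    ∃ h ∈ H, ∃ k : ℤ, h * x * h⁻¹ = y ^ k := by
  obtain ⟨g, k, hk⟩ := c.ab.exists_conj ho
  obtain ⟨f, hf, h, hh, rfl⟩ := exists_split hF g
  refine ⟨h, hh, k, ?_⟩
  have h1 : f⁻¹ * y ^ k * f⁻¹⁻¹ ∈ H := by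
    rw [← hk]
    have : f⁻¹ * (f * h * x * (f * h)⁻¹) * f⁻¹⁻¹ = h * x * h⁻¹ := by group
    rw [this]
    exact mul_mem (mul_mem hh hx) (inv_mem hh)
  have h2 := proj_mem hF (inv_mem hf) (zpow_mem hy k) h1
  rw [← h2, ← hk]
  group

/-- The complement of the Fitting subgroup has thin Sylow subgroups. -/
theorem Config.thin (c : Config G) (hF : IsComplement' (Cfsg.fittingSubgroup G) H) : Thin H := by
  haveI := c.solv
  set F := Cfsg.fittingSubgroup G with hFdef
  have hHsolv : Group.IsSolvable H := inferInstance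
  have hBH : AbConj H := (c.ab.quotient c.solv F).of_equiv hF.symm.QuotientMulEquiv
  have hcop : (Nat.card F).Coprime (Nat.card H) := hF.symm.index_eq_card ▸ c.coprime_index
  have hcl : centralizer (F : Set G) ≤ F := CfsgLib.Fitting.centralizer_fittingSubgroup_le_of_solvable
  have hcore : ∀ q : ℕ, q.Prime → ¬ RankOneAt q H → Cfsg.pCore q H = ⊥ := by
    intro q hq hnr
    haveI := Fact.mk hq
    obtain ⟨z, w, hzo, hwo, hzw, hwz⟩ := exists_commuting_pair hnr
    by_contra hQ1
    haveI hQn := (CfsgLib.Solvable.pCore_spec (G := H) q).1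
    obtain ⟨M₀, hM₀n, hM₀1, hM₀le, hM₀c, -, -, -, -, -⟩ :=
      CfsgLib.Solvable.exists_normal_elementary_le hQ1 inferInstance
    haveI := hM₀n
    have hQp := CfsgLib.Solvable.isPGroup_pCore (G := H) q
    have hall : ∀ N : Subgroup H, N.Normal → N ≠ ⊥ → N ≤ Cfsg.pCore q H → N = Cfsg.pCore q H :=
      fun N hN hN1 hle => by
        haveI := hN
        exact le_antisymm hle (hBH.le_of_not_rankOne hnr (hQp.to_le hle) hN1 hQp)
    have hQc : ∀ a ∈ Cfsg.pCore q H, ∀ b ∈ Cfsg.pCore q H, a * b = b * a := fun a ha b hb =>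
      comm_apply hM₀c (hall M₀ hM₀n hM₀1 hM₀le ▸ ha) (hall M₀ hM₀n hM₀1 hM₀le ▸ hb)
    have hzQ : z ∈ Cfsg.pCore q H := hBH.mem_of_not_rankOne hnr hQp hQ1 (k := 1) (by rw [hzo, pow_one])
    have hwQ : w ∈ Cfsg.pCore q H := hBH.mem_of_not_rankOne hnr hQp hQ1 (k := 1) (by rw [hwo, pow_one])
    set Q := Cfsg.pCore q H with hQdef
    -- some component of `F` is moved by `Q`
    obtain ⟨r, hr⟩ : ∃ r : Nat.Primes, ¬ ∀ a ∈ Q, ∀ m ∈ Cfsg.pCore (r : ℕ) G, (a : G) * m = m * a := by
      by_contra hno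
      push Not at hno
      have : (z : G) ∈ centralizer (F : Set G) := by
        rw [mem_centralizer_iff]
        intro m hm
        have hle : F ≤ centralizer ({(z : G)} : Set G) := by
          rw [hFdef, CfsgLib.Solvable.fittingSubgroup_eq_iSup_pCore]
          refine iSup_le fun r m hm => mem_centralizer_singleton_iff.2 (hno r z hzQ m hm).symm
        exact mem_centralizer_singleton_iff.1 (hle hm)
      have h1 : (z : G) ∈ F ⊓ H := mem_inf.2 ⟨hcl this, z.2⟩
      rw [disjoint_iff.1 hF.disjoint, mem_bot] at h1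
      rw [← Subgroup.orderOf_coe, h1, orderOf_one] at hzo
      exact hq.ne_one hzo.symm
    haveI := Fact.mk r.2
    have hM1 : Cfsg.pCore (r : ℕ) G ≠ ⊥ := fun h => hr fun a _ m hm => by
      rw [h, mem_bot] at hm
      rw [hm, one_mul, mul_one]
    obtain ⟨hMc, -, -⟩ := c.core_elementary hM1
    haveI hMn := (CfsgLib.Solvable.pCore_spec (G := G) (r : ℕ)).1
    set M := Cfsg.pCore (r : ℕ) G with hMdef
    let φ : Q →* MulAut M := ((MulAut.conjNormal : G →* MulAut M).comp H.subtype).comp Q.subtype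
    have hφ : ∀ (a : Q) (m : M), φ a m = m ↔ ((a : H) : G) * m = m * (a : H) := fun a m => by
      rw [Subtype.ext_iff]
      show ((a : H) : G) * m * ((a : H) : G)⁻¹ = m ↔ _
      exact mul_inv_eq_iff_eq_mul
    -- the kernel is trivial
    have hker : ∀ a ∈ Q, (∀ m ∈ M, (a : G) * m = m * a) → a = 1 := by
      intro a ha hac
      by_contra ha1
      let K : Subgroup H := Q ⊓ (centralizer (M : Set G)).subgroupOf H
      have hKn : K.Normal := by
        haveI : ((centralizer (M : Set G)).subgroupOf H).Normal := inferInstance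
        infer_instance
      have hK1 : K ≠ ⊥ := fun h => ha1 (mem_bot.1 (h ▸ mem_inf.2 ⟨ha, mem_subgroupOf.2
        (mem_centralizer_iff.2 fun m hm => (hac m hm).symm)⟩))
      refine hr fun b hb m hm => ?_
      rw [← hall K hKn hK1 inf_le_left] at hb
      exact (mem_centralizer_iff.1 (mem_subgroupOf.1 hb.2) m hm).symm
    let St : G → Subgroup H := fun v => Q ⊓ (centralizer ({v} : Set G)).subgroupOf H
    have hSt : ∀ v (a : H), a ∈ St v ↔ a ∈ Q ∧ (a : G) * v = v * a := fun v a => by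
      simp only [St, mem_inf, mem_subgroupOf, mem_centralizer_singleton_iff]
    -- all stabilisers have the same order
    have hcard : ∀ v ∈ M, ∀ u ∈ M, v ≠ 1 → u ≠ 1 → Nat.card (St v) = Nat.card (St u) := by
      intro v hv u hu hv1 hu1
      obtain ⟨-, hexp, -⟩ := c.core_elementary hM1
      have hvo : orderOf v = (r : ℕ) := orderOf_eq_prime (hexp v hv) hv1
      have huo : orderOf u = (r : ℕ) := orderOf_eq_prime (hexp u hu) hu1
      obtain ⟨g, k, hk⟩ := c.ab.exists_conj (hvo.trans huo.symm)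
      obtain ⟨f, hf, h, hh, rfl⟩ := exists_split hF g
      have hfix : h * v * h⁻¹ = u ^ k := by
        have hfu : f * u ^ k = u ^ k * f := c.fitting_comm f hf _
          (CfsgLib.Solvable.pCore_le_fittingSubgroup (r : ℕ) (zpow_mem hu k))
        calc h * v * h⁻¹ = f⁻¹ * (f * h * v * (f * h)⁻¹) * f := by group
          _ = u ^ k := by rw [hk, mul_assoc, ← hfu, inv_mul_cancel_left]
      have hkey : (St v).map (MulAut.conj (⟨h, hh⟩ : H)).toMonoidHom = St (u ^ k) := by
        ext a
        rw [mem_map_conj, hSt, hSt]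
        have hmemQ : (⟨h, hh⟩ : H)⁻¹ * a * ⟨h, hh⟩ ∈ Q ↔ a ∈ Q := by
          constructor
          · intro hq'
            simpa [mul_assoc] using hQn.conj_mem _ hq' ⟨h, hh⟩
          · intro hq'
            simpa [mul_assoc] using hQn.conj_mem _ hq' (⟨h, hh⟩ : H)⁻¹
        rw [hmemQ, ← hfix]
        refine and_congr_right fun _ => ?_
        simp only [Subgroup.coe_mul, Subgroup.coe_inv]
        constructor <;> intro e
        · calc (a : G) * (h * v * h⁻¹) = h * ((h⁻¹ * a * h) * v) * h⁻¹ := by group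
            _ = h * (v * (h⁻¹ * a * h)) * h⁻¹ := by rw [e]
            _ = h * v * h⁻¹ * a := by group
        · calc h⁻¹ * (a : G) * h * v = h⁻¹ * ((a : G) * (h * v * h⁻¹)) * h := by group
            _ = h⁻¹ * (h * v * h⁻¹ * a) * h := by rw [e]
            _ = v * (h⁻¹ * a * h) := by group
      rw [← card_map_conj (St v) (⟨h, hh⟩ : H), hkey]
      -- `u ^ k` and `u` have the same stabiliser
      have hk1 : u ^ k ≠ 1 := fun e => hv1 (conj_eq_one_iff.1 (hfix.trans e))
      have hz : zpowers (u ^ k) = zpowers u :=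
        mem_zpowers_of_card_eq (zpow_mem_zpowers u k) (by
          rw [huo]; exact orderOf_eq_prime (hexp _ (zpow_mem hu k)) hk1)
      have hu' : u ∈ zpowers (u ^ k) := hz ▸ mem_zpowers u
      congr 2
      ext a
      rw [hSt, hSt]
      refine and_congr_right fun _ => ?_
      constructor <;> intro e
      · obtain ⟨l, hl⟩ := hu'
        rw [← hl]
        exact (Commute.zpow_right e l).eq
      · exact (Commute.zpow_right e k).eq
    -- there is a nontrivial stabiliser
    obtain ⟨v, hv, hv1, a₀, ha₀, ha₀1, hav⟩ : ∃ v ∈ M, v ≠ 1 ∧ ∃ a₀ ∈ Q, a₀ ≠ 1 ∧ (a₀ : G) * v = v * a₀ := by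
      by_contra hno
      push Not at hno
      have hfpf : CfsgLib.Frobenius.IsFpf φ := by
        intro a ha m hm
        by_contra hm1
        exact hno m m.2 (fun e => hm1 (Subtype.ext e)) a a.2 (fun e => ha (Subtype.ext e)) ((hφ a m).1 hm)
      haveI : Nontrivial M := (nontrivial_iff_ne_bot M).2 hM1
      haveI : IsCyclic Q := hfpf.isCyclic_of_comm (fun a b => Subtype.ext (hQc a a.2 b b.2))
      exact hwz (rankOneAt_of_cyclic hzQ hwQ hzo hwo)
    have hB1 : ∀ u ∈ M, u ≠ 1 → St u = St v := by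
      intro u hu hu1
      by_contra hne
      have hle : ¬ St u ≤ St v := fun hle =>
        hne (CfsgLib.Solvable.eq_of_le_of_card_le hle (hcard v hv u hu hv1 hu1).le)
      have hvu : v * u ≠ 1 := fun e => hne (by
        rw [eq_inv_of_mul_eq_one_right e]
        ext a
        rw [hSt, hSt]
        refine and_congr_right fun _ => ?_
        constructor <;> intro e'
        · exact (Commute.inv_right_iff.1 e').eq
        · exact (Commute.inv_right e').eq)
      -- an element fixing `v * u` fixes `v` and `u`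
      have hboth : St (v * u) ≤ St v := by
        intro b hb
        rw [hSt] at hb
        obtain ⟨hbQ, hb⟩ := hb
        set x := v⁻¹ * ((b : G) * v * (b : G)⁻¹) with hx
        have hbvM : (b : G) * v * (b : G)⁻¹ ∈ M := hMn.conj_mem v hv _
        have hxM : x ∈ M := mul_mem (inv_mem hv) hbvM
        have hxu : x = u * ((b : G) * u * (b : G)⁻¹)⁻¹ := by
          have h1 : (b : G) * v * (b : G)⁻¹ * ((b : G) * u * (b : G)⁻¹) = v * u := by
            calc _ = (b : G) * (v * u) * (b : G)⁻¹ := by group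
              _ = v * u := by rw [hb, mul_inv_cancel_right]
          rw [hx, eq_mul_inv_iff_mul_eq, mul_assoc, h1, inv_mul_cancel_left]
        have hcomm : ∀ (y : G), ∀ a : H, a ∈ St y → (a : G) * ((b : G) * y * (b : G)⁻¹) = (b : G) * y * (b : G)⁻¹ * a := by
          intro y a ha
          rw [hSt] at ha
          have hab : (a : G) * b = b * a := congrArg Subtype.val (hQc a ha.1 b hbQ)
          exact ((Commute.mul_right hab ha.2).mul_right (Commute.inv_right hab)).eq
        have hsub : St v ≤ St x ∧ St u ≤ St x := by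
          constructor <;> intro a ha <;> rw [hSt]
          · have ha' := (hSt v a).1 ha
            exact ⟨ha'.1, (Commute.mul_right (Commute.inv_right ha'.2) (hcomm v a ha)).eq⟩
          · have ha' := (hSt u a).1 ha
            rw [hxu]
            exact ⟨ha'.1, (Commute.mul_right ha'.2 (Commute.inv_right (hcomm u a ha))).eq⟩
        have hx1 : x = 1 := by
          by_contra hx1
          refine hle ?_
          rw [CfsgLib.Solvable.eq_of_le_of_card_le hsub.1 (hcard x hxM v hv hx1 hv1).le]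
          exact hsub.2
        rw [hSt]
        refine ⟨hbQ, mul_inv_eq_iff_eq_mul.1 ?_⟩
        exact (inv_mul_eq_one.1 hx1).symm
      apply hle
      have heq := CfsgLib.Solvable.eq_of_le_of_card_le hboth
        (hcard (v * u) (mul_mem hv hu) v hv hvu hv1).ge
      intro a ha
      by_contra hav'
      apply hne
      refine (CfsgLib.Solvable.eq_of_le_of_card_le ?_ (hcard v hv u hu hv1 hu1).ge).symm
      intro b hb
      rw [← heq, hSt] at hb
      rw [hSt]
      refine ⟨hb.1, ?_⟩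
      have hbv : Commute (b : G) v := ((hSt v b).1 (heq ▸ (hSt (v * u) b).2 hb)).2
      have h2 : Commute (b : G) (v⁻¹ * (v * u)) := (Commute.inv_right hbv).mul_right hb.2
      rw [inv_mul_cancel_left] at h2
      exact h2.eq
    refine ha₀1 (hker a₀ ha₀ fun m hm => ?_)
    rcases eq_or_ne m 1 with rfl | hm1
    · rw [one_mul, mul_one]
    · exact ((hSt m a₀).1 (hB1 m hm hm1 ▸ (hSt v a₀).2 ⟨ha₀, hav⟩)).2
  have hrone : ∀ q : ℕ, q.Prime → RankOneAt q H := by
    intro q hq
    by_contra hnr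
    haveI := Fact.mk hq
    obtain ⟨z, w, hzo, hwo, hzw, hwz⟩ := exists_commuting_pair hnr
    have hQ : Cfsg.pCore q H = ⊥ := hcore q hq hnr
    -- now some core of `H` is moved by `z`
    haveI : Group.IsSolvable H := hHsolv
    obtain ⟨s, hs⟩ : ∃ s : Nat.Primes, z ∉ centralizer (Cfsg.pCore (s : ℕ) H : Set H) := by
      by_contra hno
      push Not at hno
      have h1 : z ∈ centralizer (Cfsg.fittingSubgroup H : Set H) := by
        rw [mem_centralizer_iff]
        intro m hm
        have hle : Cfsg.fittingSubgroup H ≤ centralizer ({z} : Set H) := by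
          rw [CfsgLib.Solvable.fittingSubgroup_eq_iSup_pCore]
          exact iSup_le fun r m hm => mem_centralizer_singleton_iff.2 (mem_centralizer_iff.1 (hno r) m hm)
        exact mem_centralizer_singleton_iff.1 (hle hm)
      have h2 := CfsgLib.Fitting.centralizer_fittingSubgroup_le_of_solvable h1
      haveI := CfsgLib.Solvable.isNilpotent_fittingSubgroup (G := H)
      obtain ⟨P, hP⟩ := (IsPGroup.of_card (p := q) (n := 1)
        (by rw [Nat.card_zpowers, ← Subgroup.orderOf_coe, Subtype.coe_mk, hzo, pow_one]) :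
          IsPGroup q (zpowers (⟨z, h2⟩ : Cfsg.fittingSubgroup H))).exists_le_sylow
      haveI hPn : (P : Subgroup (Cfsg.fittingSubgroup H)).Normal := inferInstance
      haveI := Sylow.characteristic_of_normal P hPn
      have h3 : z ∈ Cfsg.pCore q H :=
        CfsgLib.Solvable.le_pCore q (N := (P : Subgroup (Cfsg.fittingSubgroup H)).map (Cfsg.fittingSubgroup H).subtype)
          inferInstance (P.2.map _) ⟨⟨z, h2⟩, hP (Subgroup.mem_zpowers _), rfl⟩
      rw [hQ, mem_bot] at h3
      rw [h3, orderOf_one] at hzo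
      exact hq.ne_one hzo.symm
    haveI := Fact.mk s.2
    haveI hRn := (CfsgLib.Solvable.pCore_spec (G := H) (s : ℕ)).1
    set R := Cfsg.pCore (s : ℕ) H with hRdef
    have hRp := CfsgLib.Solvable.isPGroup_pCore (G := H) (s : ℕ)
    -- no element of order `q` centralizes `R`
    have hfree : ∀ x : H, x ^ q = 1 → x ∈ centralizer (R : Set H) → x = 1 := by
      intro x hx hxc
      by_contra hx1
      exact hs (hBH.mem_of_orderOf_eq (x := x) ((orderOf_eq_prime hx hx1).trans hzo.symm) hxc)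
    have hqs : (s : ℕ) ≠ q := by
      rintro rfl
      exact hs (by rw [hRdef, hQ]; exact mem_centralizer_iff.2 fun m hm => by rw [mem_bot.1 hm, one_mul, mul_one])
    have hR1 : RankOneAt (s : ℕ) H := by
      by_contra hns
      have hR0 : R ≠ ⊥ := fun h => hs (by
        rw [h]; exact mem_centralizer_iff.2 fun m hm => by rw [mem_bot.1 hm, one_mul, mul_one])
      exact hR0 (hcore (s : ℕ) s.2 hns)
    by_cases hcyc : IsCyclic R
    · haveI := hcyc
      obtain ⟨g, k, hk⟩ := hBH.exists_conj (hzo.trans hwo.symm)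
      set φ : H →* MulAut R := MulAut.conjNormal
      have hcommφ : φ (g * z * g⁻¹) = φ z := by
        rw [map_mul, map_mul, map_inv]
        have hcm : ∀ a b : MulAut R, a * b = b * a := fun a b =>
          ((IsCyclic.mulAutMulEquiv R).toMonoidHom.commGroupOfInjective (IsCyclic.mulAutMulEquiv R).injective).mul_comm a b
        rw [hcm (φ g), mul_inv_cancel_right]
      have hmem : z⁻¹ * w ^ k ∈ centralizer (R : Set H) := by
        rw [mem_centralizer_iff]
        intro m hm
        have h1 : φ (z⁻¹ * w ^ k) = 1 := by rw [← hk, map_mul, hcommφ, ← map_mul, inv_mul_cancel, map_one]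
        have h2 := congrArg (fun e : MulAut R => ((e ⟨m, hm⟩ : R) : H)) h1
        simp only [φ, MulAut.conjNormal_apply, MulAut.one_apply] at h2
        exact (mul_inv_eq_iff_eq_mul.1 h2).symm
      have h1 := hfree _ (by
        rw [((hzw.zpow_right k).inv_left).mul_pow, inv_pow, ← hzo, pow_orderOf_eq_one, inv_one, one_mul,
          ← zpow_natCast, ← zpow_mul, ← orderOf_dvd_iff_zpow_eq_one, hwo, hzo]
        exact dvd_mul_left _ _) hmem
      have hz' : z = w ^ k := inv_mul_eq_one.1 h1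
      exact hwz (mem_zpowers_of_card_eq (hz' ▸ zpow_mem_zpowers w k) (hzo.trans hwo.symm) ▸ mem_zpowers w)
    · have hs2 : (s : ℕ) = 2 := by
        by_contra h2
        exact hcyc (hR1.isCyclic_of_odd h2 hRp)
      have hR1' : RankOneAt 2 H := hs2 ▸ hR1
      have hRp' : IsPGroup 2 R := fun x => by
        obtain ⟨k, hk⟩ := hRp x
        exact ⟨k, by rw [← hs2]; exact hk⟩
      have h8 : Nat.card R = 8 := (hBH.card_two_subgroup hHsolv hR1' hRp').resolve_left hcyc
      obtain ⟨z₀, dR⟩ := exists_quatData hR1' hRp' hcyc h8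
      have hdisj : zpowers z ⊓ zpowers w = ⊥ := by
        rw [eq_bot_iff]
        intro a ha
        by_contra ha1
        rw [mem_bot] at ha1
        have h1 := (eq_zpowers_of_card_prime hq (by rw [Nat.card_zpowers, hwo]) ha.2 ha1).1
        exact hwz ((h1 ▸ zpowers_le.2 ha.1 : zpowers w ≤ zpowers z) (mem_zpowers w))
      have hnorm : zpowers z ≤ normalizer (zpowers w : Set H) := by
        refine zpowers_le.2 (centralizer_le_normalizer _ (mem_centralizer_iff.2 ?_))
        rintro _ ⟨i, rfl⟩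
        exact ((hzw.zpow_right i).eq).symm
      set E := zpowers z ⊔ zpowers w
      have hEc : Nat.card E = q ^ 2 := by
        rw [CfsgLib.Solvable.card_sup_of_disjoint hnorm hdisj, Nat.card_zpowers, Nat.card_zpowers, hzo, hwo, sq]
      have hq2 : q ≠ 2 := fun h => hqs (hs2.trans h.symm)
      have hEexp : ∀ x ∈ E, x ^ q = 1 := by
        intro x hx
        rw [CfsgLib.Solvable.mem_sup_of_le_normalizer hnorm] at hx
        obtain ⟨_, ⟨i, rfl⟩, _, ⟨j, rfl⟩, rfl⟩ := hx
        have hz1 : z ^ q = 1 := hzo ▸ pow_orderOf_eq_one z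
        have hw1 : w ^ q = 1 := hwo ▸ pow_orderOf_eq_one w
        rw [((hzw.zpow_zpow i j)).mul_pow, ← zpow_natCast, ← zpow_natCast (w ^ j), ← zpow_mul, ← zpow_mul,
          mul_comm i, mul_comm j, zpow_mul, zpow_mul, zpow_natCast, zpow_natCast, hz1, hw1, one_zpow, one_zpow, one_mul]
      have h3 := dR.card_dvd_three (E := E) (by rw [hEc]; exact (hq.odd_of_ne_two hq2).pow)
        (fun t _ r hr => hRn.conj_mem r hr t)
        (fun t ht htc => hfree t (hEexp t ht) (mem_centralizer_iff.2 fun r hr => (htc r hr).symm))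
      rw [hEc] at h3
      have := Nat.le_of_dvd (by norm_num) h3
      nlinarith [hq.two_le]
  haveI : Fact (Nat.Prime 2) := ⟨Nat.prime_two⟩
  exact ⟨hrone, fun P hP => hBH.card_two_subgroup hHsolv (hrone 2 Nat.prime_two) hP⟩

theorem map_conj_eq_of_forall {A : Subgroup G} {g : G} (h : ∀ a ∈ A, g * a * g⁻¹ ∈ A) :
    A.map (MulAut.conj g).toMonoidHom = A := by
  refine CfsgLib.Solvable.eq_of_le_of_card_le ?_ (card_map_conj A g).ge
  rintro _ ⟨a, ha, rfl⟩
  exact h a ha

theorem map_conj_mul (A : Subgroup G) (g k : G) :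
    A.map (MulAut.conj (g * k)).toMonoidHom =
      (A.map (MulAut.conj k).toMonoidHom).map (MulAut.conj g).toMonoidHom := by
  rw [Subgroup.map_map]
  exact congrArg (fun φ => A.map φ) (MonoidHom.ext fun t => by simp [mul_assoc])

/-- The quaternion Sylow subgroup of a stabiliser has conjugate cyclic subgroups of order four there. -/
theorem Config.fourConj_stab (c : Config G) (hF : IsComplement' (Cfsg.fittingSubgroup G) H) (hH : Thin H)
    {U : Subgroup G} (hUF : U ≤ Cfsg.fittingSubgroup G) :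
    FourConj ↥(H ⊓ normalizer (U : Set G)) := by
  haveI := c.solv
  haveI : Fact (Nat.Prime 2) := ⟨Nat.prime_two⟩
  set F := Cfsg.fittingSubgroup G with hFdef
  set S := H ⊓ normalizer (U : Set G) with hSdef
  have hST : Thin S := hH.subgroup (Subgroup.inclusion inf_le_left) (Subgroup.inclusion_injective _)
  intro x y hxo hyo
  obtain ⟨P, hxP⟩ := (IsPGroup.of_card (p := 2) (n := 2) (by rw [Nat.card_zpowers, hxo]; norm_num) :
    IsPGroup 2 (zpowers x)).exists_le_sylow
  obtain ⟨Q, hyQ⟩ := (IsPGroup.of_card (p := 2) (n := 2) (by rw [Nat.card_zpowers, hyo]; norm_num) :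
    IsPGroup 2 (zpowers y)).exists_le_sylow
  obtain ⟨s, hs⟩ := MulAction.exists_smul_eq S Q P
  set y' := s * y * s⁻¹ with hy'
  have hy'P : y' ∈ (P : Subgroup S) := by
    rw [← hs]
    exact ⟨y, hyQ (mem_zpowers y), rfl⟩
  have hy'o : orderOf y' = 4 := by
    rw [hy', show s * y * s⁻¹ = (MulAut.conj s) y from rfl, MulEquiv.orderOf_eq, hyo]
  suffices hgoal : ∃ g : S, zpowers y' = (zpowers x).map (MulAut.conj g).toMonoidHom by
    obtain ⟨g, hg⟩ := hgoal
    refine ⟨s⁻¹ * g, ?_⟩
    rw [map_conj_mul, ← hg, MonoidHom.map_zpowers, hy']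
    congr 1
    simp [mul_assoc]
  by_cases hcyc : IsCyclic (P : Subgroup S)
  · refine ⟨1, ?_⟩
    rw [map_conj_one]
    have h1 : zpowers (⟨y', hy'P⟩ : (P : Subgroup S)) = zpowers (⟨x, hxP (mem_zpowers x)⟩ : (P : Subgroup S)) :=
      CfsgLib.Coprime.subgroup_eq_of_natCard_eq (by
        rw [Nat.card_zpowers, Nat.card_zpowers]
        exact ((Subgroup.orderOf_coe _).symm.trans hy'o).trans ((Subgroup.orderOf_coe (⟨x, hxP (mem_zpowers x)⟩ : (P : Subgroup S))).symm.trans hxo).symm)
    have := congrArg (Subgroup.map (P : Subgroup S).subtype) h1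
    rwa [MonoidHom.map_zpowers, MonoidHom.map_zpowers] at this
  -- the quaternion case
  set P₁ : Subgroup G := (P : Subgroup S).map S.subtype with hP₁
  have hP₁S : P₁ ≤ S := map_subtype_le _
  have hP₁p : IsPGroup 2 P₁ := P.2.map _
  set P₀ : Subgroup H := P₁.subgroupOf H with hP₀
  have hP₁H : P₁ ≤ H := hP₁S.trans inf_le_left
  have hP₀c : Nat.card P₀ = 8 := by
    rw [hP₀, Nat.card_congr (subgroupOfEquivOfLe hP₁H).toEquiv, hP₁, card_map_of_injective S.subtype_injective]
    exact (hST.two P P.2).resolve_left hcyc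
  have hP₁cyc : ¬ IsCyclic P₁ := fun h =>
    hcyc ((equivMapOfInjective (P : Subgroup S) S.subtype S.subtype_injective).isCyclic.2 h)
  have hP₀cyc : ¬ IsCyclic P₀ := fun h => hP₁cyc ((subgroupOfEquivOfLe hP₁H).isCyclic.1 h)
  obtain ⟨z₀, d₀⟩ := exists_quatData (hH.rone 2 Nat.prime_two) hP₁p.comap_subtype hP₀cyc hP₀c
  -- transfer to `G`
  have d : QuatData P₁ (z₀ : G) :=
    { card := by rw [← hP₀c, hP₀, Nat.card_congr (subgroupOfEquivOfLe hP₁H).toEquiv]
      mem := d₀.mem
      order := by rw [Subgroup.orderOf_coe, d₀.order]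
      sq_one := fun a ha h2 => by
        rcases d₀.sq_one ⟨a, hP₁H ha⟩ ha (Subtype.ext (by simpa using h2)) with e | e
        · exact Or.inl (congrArg Subtype.val e)
        · exact Or.inr (congrArg Subtype.val e)
      sq_z := fun a ha ho => congrArg Subtype.val
        (d₀.sq_z ⟨a, hP₁H ha⟩ ha (by rw [← Subgroup.orderOf_coe]; exact ho))
      four := fun a ha h1 hz => by
        have := d₀.four ⟨a, hP₁H ha⟩ ha (fun e => h1 (congrArg Subtype.val e)) (fun e => hz (congrArg Subtype.val e))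
        rwa [← Subgroup.orderOf_coe] at this
      conj_inv := fun a ha ho b hb hab => congrArg Subtype.val
        (d₀.conj_inv ⟨a, hP₁H ha⟩ ha (by rw [← Subgroup.orderOf_coe]; exact ho) ⟨b, hP₁H hb⟩ hb
          (fun h => hab (by obtain ⟨k, hk⟩ := h; exact ⟨k, by simpa using congrArg Subtype.val hk⟩)))
      cases_mem := fun a ha ho b hb hab u hu => by
        rcases d₀.cases_mem ⟨a, hP₁H ha⟩ ha (by rw [← Subgroup.orderOf_coe]; exact ho) ⟨b, hP₁H hb⟩ hb
          (fun h => hab (by obtain ⟨k, hk⟩ := h; exact ⟨k, by simpa using congrArg Subtype.val hk⟩))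
          ⟨u, hP₁H hu⟩ hu with h | h
        · left; obtain ⟨k, hk⟩ := h; exact ⟨k, by simpa using congrArg Subtype.val hk⟩
        · right; obtain ⟨k, hk⟩ := h; exact ⟨k, by simpa using congrArg Subtype.val hk⟩ }
  set X : G := (x : G) with hX
  set Y : G := (y' : G) with hY
  have hXP : X ∈ P₁ := ⟨x, hxP (mem_zpowers x), rfl⟩
  have hYP : Y ∈ P₁ := ⟨y', hy'P, rfl⟩
  have hXo : orderOf X = 4 := by rw [hX, Subgroup.orderOf_coe, hxo]
  have hYo : orderOf Y = 4 := by rw [hY, Subgroup.orderOf_coe, hy'o]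
  set U₀ : Subgroup G := U ⊓ centralizer (P₁ : Set G) with hU₀
  have hcF := c.fitting_comm
  have hHF : Nat.card H = F.index := hF.symm.index_eq_card.symm
  have hcopFH : (Nat.card F).Coprime (Nat.card H) := hHF ▸ c.coprime_index
  have hE : ∀ W : G, W ∈ P₁ → orderOf W = 4 →
      IsMulCommutative ↥(U₀ ⊔ zpowers W) ∧ Nat.card ↥(U₀ ⊔ zpowers W) = Nat.card U₀ * 4 ∧
      (∀ e ∈ U₀ ⊔ zpowers W, ∃ u ∈ U₀, ∃ i : ℤ, e = u * W ^ i) := by
    intro W hW hWo
    have hcm : ∀ u ∈ U₀, Commute u W := fun u hu => (mem_centralizer_iff.1 hu.2 W hW).symm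
    have hn : U₀ ≤ normalizer (zpowers W : Set G) := fun u hu => centralizer_le_normalizer _
      (mem_centralizer_iff.2 (by rintro _ ⟨i, rfl⟩; exact ((hcm u hu).zpow_right i).eq.symm))
    have hd : U₀ ⊓ zpowers W = ⊥ := by
      rw [eq_bot_iff, ← disjoint_iff.1 hF.disjoint]
      exact inf_le_inf (inf_le_left.trans hUF) (zpowers_le.2 (hP₁H hW))
    have hmem : ∀ e ∈ U₀ ⊔ zpowers W, ∃ u ∈ U₀, ∃ i : ℤ, e = u * W ^ i := by
      intro e he
      rw [CfsgLib.Solvable.mem_sup_of_le_normalizer hn] at he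
      obtain ⟨u, hu, _, ⟨i, rfl⟩, rfl⟩ := he
      exact ⟨u, hu, i, rfl⟩
    refine ⟨comm_of_forall fun a ha b hb => ?_, ?_, hmem⟩
    · obtain ⟨u, hu, i, rfl⟩ := hmem a ha
      obtain ⟨v, hv, j, rfl⟩ := hmem b hb
      have h1 : Commute u v := hcF u (hUF hu.1) v (hUF hv.1)
      exact (Commute.mul_left (Commute.mul_right h1 ((hcm u hu).zpow_right j))
        (Commute.mul_right ((hcm v hv).symm.zpow_left i) (Commute.zpow_zpow (Commute.refl W) i j))).eq
    · rw [CfsgLib.Solvable.card_sup_of_disjoint hn hd, Nat.card_zpowers, hWo]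
  obtain ⟨hXa, hXc, -⟩ := hE X hXP hXo
  obtain ⟨hYa, hYc, hYmem⟩ := hE Y hYP hYo
  obtain ⟨g, hg⟩ := c.ab _ _ hXa hYa (by rw [hXc, hYc])
  have himg : ∀ e ∈ U₀ ⊔ zpowers X, g * e * g⁻¹ ∈ U₀ ⊔ zpowers Y := fun e he => by
    rw [hg, mem_map_conj]
    simpa [mul_assoc] using he
  have hU₀g : ∀ u ∈ U₀, g * u * g⁻¹ ∈ U₀ := by
    intro u hu
    obtain ⟨v, hv, i, hvi⟩ := hYmem _ (himg u (mem_sup_left hu))
    have h1 : Y ^ i ∈ F ⊓ H := mem_inf.2 ⟨by
      rw [show Y ^ i = v⁻¹ * (g * u * g⁻¹) by rw [hvi, inv_mul_cancel_left]]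
      exact mul_mem (inv_mem (hUF hv.1)) (Normal.conj_mem inferInstance _ (hUF hu.1) g), zpow_mem (hP₁H hYP) i⟩
    rw [disjoint_iff.1 hF.disjoint, mem_bot] at h1
    rw [hvi, h1, mul_one]; exact hv
  -- the image of `X` is a power of `Y`
  obtain ⟨v, hv, k, hvk⟩ := hYmem _ (himg X (mem_sup_right (mem_zpowers X)))
  have hv1 : v = 1 := by
    have hcvY : Commute v (Y ^ k) := Commute.zpow_right (mem_centralizer_iff.1 hv.2 Y hYP).symm k
    have h4 : (v * Y ^ k) ^ 4 = 1 := by
      rw [← hvk, conj_pow, ← hXo, pow_orderOf_eq_one, mul_one, mul_inv_cancel]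
    rw [hcvY.mul_pow, ← zpow_natCast (Y ^ k), ← zpow_mul, mul_comm, zpow_mul, zpow_natCast,
      show Y ^ 4 = 1 by rw [← hYo, pow_orderOf_eq_one], one_zpow, mul_one] at h4
    rw [← orderOf_eq_one_iff]
    refine Nat.eq_one_of_dvd_coprimes hcopFH (Subgroup.orderOf_dvd_natCard F (hUF hv.1)) ?_
    refine (orderOf_dvd_of_pow_eq_one h4).trans ?_
    rw [← hXo]
    exact Subgroup.orderOf_dvd_natCard H (hP₁H hXP)
  rw [hv1, one_mul] at hvk
  -- `g` normalizes `U`
  have hPN : ∀ a ∈ P₁, ∀ u ∈ U, a * u * a⁻¹ ∈ U := fun a ha u hu =>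
    (mem_normalizer_iff.1 (hP₁S ha).2 u).1 hu
  have hUg : U.map (MulAut.conj g).toMonoidHom = U := by
    refine map_conj_eq_of_forall fun u hu => ?_
    let K : Subgroup U := (U.comap (MulAut.conj g).toMonoidHom).subgroupOf U
    suffices hK : K = ⊤ by
      have := hK.symm.le (mem_top (⟨u, hu⟩ : U))
      simpa [K, mem_subgroupOf] using this
    haveI : ∀ r : Nat.Primes, Fact (r : ℕ).Prime := fun r => ⟨r.2⟩
    rw [eq_top_iff, ← CfsgLib.Solvable.iSup_sylow_eq_top (G := U) fun r => (default : Sylow (r : ℕ) U)]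
    refine iSup_le fun r t ht => ?_
    show g * (t : G) * g⁻¹ ∈ U
    rcases eq_or_ne t 1 with rfl | ht1
    · simp
    have hTp : IsPGroup (r : ℕ) (((default : Sylow (r : ℕ) U) : Subgroup U).map U.subtype) :=
      ((default : Sylow (r : ℕ) U)).2.map _
    obtain ⟨j, hj⟩ := IsPGroup.iff_orderOf.1 (default : Sylow (r : ℕ) U).2 ⟨t, ht⟩
    rw [← Subgroup.orderOf_coe, Subtype.coe_mk] at hj
    have hj0 : j ≠ 0 := by
      rintro rfl
      exact ht1 (orderOf_eq_one_iff.1 (by simpa using hj))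
    have hro : orderOf (((t : G)) ^ (r : ℕ) ^ (j - 1)) = (r : ℕ) := by
      simpa using exists_pow_order (p := (r : ℕ)) (x := (t : G)) (by rw [Subgroup.orderOf_coe, hj])
        (show 1 ≤ j by omega)
    obtain ⟨hM1, -⟩ := c.core_ne_bot_of_mem (pow_mem (hUF t.2) _) hro
    obtain ⟨hMc, hMe, n, hn, hMn⟩ := c.core_elementary hM1
    set M := Cfsg.pCore (r : ℕ) G with hMdef
    haveI hMnorm := (CfsgLib.Solvable.pCore_spec (G := G) (r : ℕ)).1
    have htM : (t : G) ∈ M := c.core_le hM1 hTp ⟨t, ht, rfl⟩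
    have hMF : M ≤ F := CfsgLib.Solvable.pCore_le_fittingSubgroup (r : ℕ)
    have hrH : ¬ (r : ℕ) ∣ Nat.card H := fun h =>
      r.2.not_dvd_one (hcopFH ▸ Nat.dvd_gcd
        ((hMn ▸ dvd_pow_self _ (by omega : n ≠ 0)).trans (card_dvd_of_le hMF)) h)
    have htr : ∀ W W' : Subgroup G, W ≤ M → W' ≤ M → Nat.card W = Nat.card W' →
        ∃ h ∈ H, W' = W.map (MulAut.conj h).toMonoidHom := by
      intro W W' hW hW' hcard
      obtain ⟨q, hq⟩ := c.ab W W' (comm_of_forall fun a ha b hb => hMc a (hW ha) b (hW hb))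
        (comm_of_forall fun a ha b hb => hMc a (hW' ha) b (hW' hb)) hcard
      obtain ⟨f, hf, h, hh, rfl⟩ := exists_split hF q
      refine ⟨h, hh, ?_⟩
      rw [hq, map_conj_mul]
      refine map_conj_eq_of_forall fun a ha => ?_
      have haM : a ∈ M := by
        obtain ⟨b, hb, rfl⟩ := ha
        exact hMnorm.conj_mem b (hW hb) h
      rwa [hcF f hf a (hMF haM), mul_inv_cancel_right]
    rcases eight_on_elementary c.solv M hMc hMe hn hMn H hrH htr hP₁H d
        (fun a ha b hb hao hbo => c.conj_in hF (hP₁H ha) (hP₁H hb) (hao.trans hbo.symm)) with h | h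
    · exact (hU₀g (t : G) ⟨t.2, mem_centralizer_iff.2 fun a ha => h a ha t htM⟩).1
    · rcases h (U ⊓ M) inf_le_right (fun a ha w hw =>
        mem_inf.2 ⟨hPN a ha w hw.1, hMnorm.conj_mem w hw.2 a⟩) with e | e
      · have : (t : G) ∈ U ⊓ M := mem_inf.2 ⟨t.2, htM⟩
        rw [e, mem_bot] at this
        exact absurd (Subtype.ext this) ht1
      · have : g * (t : G) * g⁻¹ ∈ U ⊓ M := e.symm ▸ hMnorm.conj_mem _ htM g
        exact this.1
  obtain ⟨f, hf, h, hh, rfl⟩ := exists_split hF g
  have hhX : h * X * h⁻¹ = Y ^ k := by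
    have h1 : f⁻¹ * Y ^ k * f⁻¹⁻¹ ∈ H := by
      rw [show f⁻¹ * Y ^ k * f⁻¹⁻¹ = h * X * h⁻¹ by rw [← hvk]; group]
      exact mul_mem (mul_mem hh (hP₁H hXP)) (inv_mem hh)
    have h2 := proj_mem hF (inv_mem hf) (zpow_mem (hP₁H hYP) k) h1
    rw [← h2, ← hvk]; group
  have hhU : h ∈ normalizer (U : Set G) := by
    have hU' : U.map (MulAut.conj h).toMonoidHom = U := by
      conv_rhs => rw [← hUg]
      rw [map_conj_mul]
      refine (map_conj_eq_of_forall fun a ha => ?_).symm
      have haF : a ∈ F := by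
        obtain ⟨b, hb, rfl⟩ := ha
        exact Normal.conj_mem inferInstance b (hUF hb) h
      rwa [hcF f hf a haF, mul_inv_cancel_right]
    rw [mem_normalizer_iff]
    intro u
    constructor
    · exact fun hu => hU'.le ⟨u, hu, rfl⟩
    · intro hu
      obtain ⟨b, hb, e⟩ := hU'.ge hu
      exact (MulAut.conj h).injective e ▸ hb
  refine ⟨⟨h, mem_inf.2 ⟨hh, hhU⟩⟩, ?_⟩
  rw [MonoidHom.map_zpowers]
  symm
  refine mem_zpowers_of_card_eq ⟨k, Subtype.ext ?_⟩ ?_
  · simpa [hY, hX] using hhX.symm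
  · rw [hy'o, MulEquiv.coe_toMonoidHom, MulEquiv.orderOf_eq, hxo]

/-- The case in which every nontrivial core is an elementary abelian Sylow subgroup. -/
theorem Config.allConj (c : Config G) : AllConj G := by
  haveI := c.solv
  set F := Cfsg.fittingSubgroup G with hFdef
  have hcF := c.fitting_comm
  obtain ⟨H, hF⟩ := Subgroup.exists_right_complement'_of_coprime c.coprime_index
  have hH := c.thin hF
  have hcop := c.coprime_index
  have hHF : Nat.card H = F.index := hF.symm.index_eq_card.symm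
  have hsup : H ⊔ F = ⊤ := by rw [sup_comm]; exact hF.sup_eq_top
  have hstd : ∀ A : Subgroup G, ∃ f ∈ F, ∃ C : Subgroup G, C ≤ H ∧
      A.map (MulAut.conj f).toMonoidHom = (A ⊓ F) ⊔ C ∧
      (∀ c' ∈ C, c' ∈ normalizer ((A ⊓ F : Subgroup G) : Set G)) ∧
      Nat.card A = Nat.card ↥(A ⊓ F) * Nat.card C := by
    intro A
    haveI : ((A ⊓ F).subgroupOf A).Normal := by rw [inf_subgroupOf_left]; infer_instance
    have h1 : Nat.card ((A ⊓ F).subgroupOf A) = Nat.card ↥(A ⊓ F) :=
      Nat.card_congr (subgroupOfEquivOfLe inf_le_left).toEquiv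
    have h2 : (A ⊓ F).relIndex A ∣ F.index := by
      rw [inf_relIndex_left]; exact relIndex_dvd_index_of_normal F A
    have h0 : (Nat.card ↥(A ⊓ F)).Coprime ((A ⊓ F).relIndex A) :=
      (hcop.coprime_dvd_left (card_dvd_of_le inf_le_right)).coprime_dvd_right h2
    obtain ⟨L, hL⟩ := Subgroup.exists_right_complement'_of_coprime (N := (A ⊓ F).subgroupOf A)
      (by rw [h1]; exact h0)
    set L' := L.map A.subtype
    have h3 : Nat.card L' = (A ⊓ F).relIndex A := by
      rw [card_map_of_injective A.subtype_injective, ← hL.symm.index_eq_card]; rfl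
    have hj : (A ⊓ F) ⊔ L' = A := by
      have := congrArg (Subgroup.map A.subtype) hL.sup_eq_top
      rwa [Subgroup.map_sup, map_subgroupOf_eq_of_le inf_le_left, ← MonoidHom.range_eq_map, range_subtype] at this
    obtain ⟨f, hf, hfL⟩ := CfsgLib.SZ.conj_le (A := H) (K := F) (U := L')
      (le_normalizer_of_normal (H := F)) (by rw [hHF]; exact hcop.symm) (Or.inl inferInstance)
      (by rw [hsup]; exact le_top) (by rw [h3]; exact hcop.symm.coprime_dvd_left h2)
    have hfix : (A ⊓ F).map (MulAut.conj f).toMonoidHom = A ⊓ F := map_conj_eq_of_forall fun a ha => by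
      rwa [hcF f hf a ha.2, mul_inv_cancel_right]
    refine ⟨f, hf, L'.map (MulAut.conj f).toMonoidHom, hfL, ?_, ?_, ?_⟩
    · conv_lhs => rw [← hj, map_conj_sup, hfix]
    · intro c' hc'
      have hnorm : ∀ a ∈ A, ∀ b ∈ A ⊓ F, a * b * a⁻¹ ∈ A ⊓ F := fun a ha b hb =>
        mem_inf.2 ⟨mul_mem (mul_mem ha hb.1) (inv_mem ha), Normal.conj_mem inferInstance b hb.2 a⟩
      obtain ⟨l, hl, rfl⟩ := hc'
      have hlA : l ∈ A := map_subtype_le L hl
      have hfn : f ∈ normalizer ((A ⊓ F : Subgroup G) : Set G) := centralizer_le_normalizer _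
        (mem_centralizer_iff.2 fun b hb => hcF b hb.2 f hf)
      have hln : l ∈ normalizer ((A ⊓ F : Subgroup G) : Set G) := by
        rw [mem_normalizer_iff]
        refine fun b => ⟨fun hb => hnorm l hlA b hb, fun hb => ?_⟩
        have := hnorm l⁻¹ (inv_mem hlA) _ hb
        simpa [mul_assoc] using this
      exact mul_mem (mul_mem hfn hln) (inv_mem hfn)
    · rw [card_map_conj, h3, ← relIndex_bot_left, ← relIndex_bot_left,
        relIndex_mul_relIndex ⊥ _ A bot_le inf_le_left]
  have hUcard : ∀ A B : Subgroup G, Nat.card A = Nat.card B →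
      Nat.card ↥(A ⊓ F) = Nat.card ↥(B ⊓ F) := by
    intro A B hc
    have hdvd : ∀ A B : Subgroup G, Nat.card A = Nat.card B → Nat.card ↥(A ⊓ F) ∣ Nat.card ↥(B ⊓ F) := by
      intro A B hc
      obtain ⟨f, hf, C, hCH, -, -, hcard⟩ := hstd B
      refine Nat.Coprime.dvd_of_dvd_mul_right ?_ (hcard ▸ hc ▸ card_dvd_of_le inf_le_left)
      exact (hcop.coprime_dvd_left (card_dvd_of_le inf_le_right)).coprime_dvd_right (hHF ▸ card_dvd_of_le hCH)
    exact Nat.dvd_antisymm (hdvd A B hc) (hdvd B A hc.symm)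
  intro A B hc
  obtain ⟨g, hg⟩ := c.ab (A ⊓ F) (B ⊓ F)
    (comm_of_forall fun a ha b hb => hcF a ha.2 b hb.2)
    (comm_of_forall fun a ha b hb => hcF a ha.2 b hb.2) (hUcard A B hc)
  set A' := A.map (MulAut.conj g).toMonoidHom with hA'
  have hA'F : A' ⊓ F = B ⊓ F := by
    rw [hg, Subgroup.map_inf _ _ _ (MulAut.conj g).injective, map_conj_normal F g]
  obtain ⟨f₁, -, C, hCH, hCe, hCn, hCc⟩ := hstd A'
  obtain ⟨f₂, -, C', hCH', hCe', hCn', hCc'⟩ := hstd B
  rw [hA'F] at hCe hCn hCc
  have hcards : Nat.card C = Nat.card C' := by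
    have h1 : Nat.card A' = Nat.card B := by rw [hA', card_map_conj, hc]
    rw [hCc, hCc'] at h1
    exact Nat.eq_of_mul_eq_mul_left Nat.card_pos h1
  set S := H ⊓ normalizer ((B ⊓ F : Subgroup G) : Set G) with hS
  have hST : Thin S := hH.subgroup (Subgroup.inclusion inf_le_left) (Subgroup.inclusion_injective _)
  have hCS : C ≤ S := le_inf hCH hCn
  have hCS' : C' ≤ S := le_inf hCH' hCn'
  obtain ⟨s, hs⟩ := hST.allConj inferInstance (c.fourConj_stab hF hH inf_le_right)
    (C.subgroupOf S) (C'.subgroupOf S)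
    (by rw [Nat.card_congr (subgroupOfEquivOfLe hCS).toEquiv, Nat.card_congr (subgroupOfEquivOfLe hCS').toEquiv, hcards])
  have hsC : C' = C.map (MulAut.conj (s : G)).toMonoidHom := by
    have h1 := congrArg (Subgroup.map S.subtype) hs
    rw [map_subgroupOf_eq_of_le hCS', Subgroup.map_map,
      show S.subtype.comp (MulAut.conj s).toMonoidHom = (MulAut.conj (s : G)).toMonoidHom.comp S.subtype from
        MonoidHom.ext fun t => by simp,
      ← Subgroup.map_map, map_subgroupOf_eq_of_le hCS] at h1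
    exact h1
  have hsU : (B ⊓ F).map (MulAut.conj (s : G)).toMonoidHom = B ⊓ F :=
    map_conj_eq_of_forall fun u hu => (mem_normalizer_iff.1 s.2.2 u).1 hu
  refine ⟨f₂⁻¹ * (s : G) * f₁ * g, ?_⟩
  rw [map_conj_mul, ← hA', map_conj_mul, hCe, map_conj_mul, map_conj_sup, hsU, ← hsC, ← hCe',
    ← map_conj_mul, inv_mul_cancel, map_conj_one]

/-- **Main theorem.** -/
theorem AbConj.allConj (hs : Group.IsSolvable G) (hB : AbConj G) : AllConj G := by
  suffices h : ∀ (n : ℕ) (G : Type u) [Group G] [Finite G], Nat.card G = n → Group.IsSolvable G →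
      AbConj G → AllConj G from h _ G rfl hs hB
  intro n
  induction n using Nat.strong_induction_on with
  | _ n ih =>
    intro G _ _ hn hs hB
    haveI := hs
    by_cases h : ∃ p : ℕ, p.Prime ∧ Cfsg.pCore p G ≠ ⊥ ∧ RankOneAt p G
    · obtain ⟨p, hp, h1, hr⟩ := h
      haveI := Fact.mk hp
      haveI := (CfsgLib.Solvable.pCore_spec (G := G) p).1
      obtain ⟨M, hMn, hM1, hMle, -, -, q, hq, hexp, hMq⟩ :=
        CfsgLib.Solvable.exists_normal_elementary_le h1 inferInstance
      haveI := hMn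
      have hMp : IsPGroup p M := (CfsgLib.Solvable.isPGroup_pCore p).to_le hMle
      have hqp : q = p := by
        haveI := Fact.mk hq
        obtain ⟨k, hk0, hk⟩ := hMq.nontrivial_iff_card.1 ((nontrivial_iff_ne_bot M).2 hM1)
        obtain ⟨j, hj⟩ := IsPGroup.iff_card.1 hMp
        exact (Nat.prime_dvd_prime_iff_eq hq hp).1 (hq.dvd_of_dvd_pow (n := j) (hj ▸ hk ▸ dvd_pow_self q hk0.ne'))
      subst hqp
      have hMc := card_minimal_of_rankOne hr hMp hM1 hexp
      exact allConj_of_quotient hs M hMc hr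
        (ih _ (hn ▸ CfsgLib.Solvable.card_quotient_lt hM1) (G ⧸ M) rfl inferInstance (hB.quotient hs M))
    · push Not at h
      exact (Config.mk hs hB fun p hp h1 => h p hp h1).allConj

end CfsgLib.EqOrder
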