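import Cfsg.Agent.EqualOrder.Basic

/-!
# Quaternion subgroups of order eight and their odd order automizers
-/

set_option autoImplicit false
set_option linter.unusedSectionVars false
set_option linter.style.haveILetI false

namespace CfsgLib.EqOrder

open Subgroup

variable {G : Type*} [Group G] [Finite G]

/-- The data of a noncyclic group of order eight with one involution. -/
structure QuatData (R : Subgroup G) (z : G) : Prop where
  card : Nat.card R = 8
  mem : z ∈ R
  order : orderOf z = 2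
  sq_one : ∀ a ∈ R, a ^ 2 = 1 → a = 1 ∨ a = z
  sq_z : ∀ a ∈ R, orderOf a = 4 → a ^ 2 = z
  four : ∀ a ∈ R, a ≠ 1 → a ≠ z → orderOf a = 4
  conj_inv : ∀ a ∈ R, orderOf a = 4 → ∀ b ∈ R, b ∉ zpowers a → b * a * b⁻¹ = a⁻¹
  cases_mem : ∀ a ∈ R, orderOf a = 4 → ∀ b ∈ R, b ∉ zpowers a → ∀ c ∈ R,
    c ∈ zpowers a ∨ c * b⁻¹ ∈ zpowers a

theorem exists_quatData (h : RankOneAt 2 G) {R : Subgroup G} (hR : IsPGroup 2 R) (hc : ¬ IsCyclic R)
    (h8 : Nat.card R = 8) : ∃ z, QuatData R z := by
  haveI : Fact (Nat.Prime 2) := ⟨Nat.prime_two⟩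
  obtain ⟨-, a₀, n, hn, ha₀, hidx, hout⟩ := (h.structure hR).resolve_left hc
  have hn2 : n = 2 := by
    have h1 := Subgroup.card_mul_index (zpowers a₀)
    rw [hidx, Nat.card_zpowers, ha₀, h8] at h1
    have h2 : 2 ^ n = 2 ^ 2 := by omega
    exact Nat.pow_right_injective le_rfl h2
  subst hn2
  have hz0 : orderOf (a₀ ^ 2) = 2 := by
    rw [orderOf_pow_of_dvd two_ne_zero (by rw [ha₀]; norm_num), ha₀]; norm_num
  refine ⟨((a₀ ^ 2 : R) : G), ?_⟩
  have hsq1 : ∀ a ∈ R, a ^ 2 = 1 → a = 1 ∨ a = ((a₀ ^ 2 : R) : G) := by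
    intro a ha ha2
    rcases eq_or_ne a 1 with h1 | h1
    · exact Or.inl h1
    right
    have hao : orderOf a = 2 := orderOf_eq_prime ha2 h1
    obtain ⟨k, hk⟩ := mem_powers_iff_mem_zpowers.2
      (h R hR _ (a₀ ^ 2).2 a ha (by rw [Subgroup.orderOf_coe, hz0]) hao)
    change ((a₀ ^ 2 : R) : G) ^ k = a at hk
    rw [← pow_mod_orderOf, Subgroup.orderOf_coe, hz0] at hk
    rcases Nat.mod_two_eq_zero_or_one k with e | e <;> rw [e] at hk
    · exact absurd (by simpa using hk.symm) h1
    · simpa using hk.symm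
  have hfour : ∀ a ∈ R, a ≠ 1 → a ≠ ((a₀ ^ 2 : R) : G) → orderOf a = 4 := by
    intro a ha h1 hz
    have h4 : a ^ 2 ^ 2 = 1 := by
      have : (⟨a, ha⟩ : R) ^ 2 ^ 2 = 1 := by
        by_cases hm : (⟨a, ha⟩ : R) ∈ zpowers a₀
        · rw [← ha₀, ← orderOf_dvd_iff_pow_eq_one]
          exact orderOf_dvd_of_mem_zpowers hm
        · rw [show (2 : ℕ) ^ 2 = 2 * 2 by norm_num, pow_mul, (hout _ hm).2, ← pow_mul,
            ← orderOf_dvd_iff_pow_eq_one, ha₀]
          norm_num
      simpa using congrArg Subtype.val this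
    have : orderOf a = 2 ^ (1 + 1) := orderOf_eq_prime_pow (fun h2 => by
      rw [pow_one] at h2
      rcases hsq1 a ha h2 with e | e
      · exact h1 e
      · exact hz e) h4
    simpa using this
  have hsqz : ∀ a ∈ R, orderOf a = 4 → a ^ 2 = ((a₀ ^ 2 : R) : G) := by
    intro a ha hao
    refine (hsq1 _ (pow_mem ha 2) ?_).resolve_left ?_
    · rw [← pow_mul, ← orderOf_dvd_iff_pow_eq_one, hao]
    · rw [← orderOf_dvd_iff_pow_eq_one, hao]; norm_num
  have hcases : ∀ a ∈ R, orderOf a = 4 → ∀ b ∈ R, b ∉ zpowers a → ∀ c ∈ R,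
      c ∈ zpowers a ∨ c * b⁻¹ ∈ zpowers a := by
    intro a ha hao b hb hab c hc'
    have hidx' : (zpowers (⟨a, ha⟩ : R)).index = 2 := by
      have h1 := Subgroup.card_mul_index (zpowers (⟨a, ha⟩ : R))
      rw [h8, Nat.card_zpowers, ← Subgroup.orderOf_coe, Subtype.coe_mk, hao] at h1
      omega
    have hmem : ∀ x : R, x ∈ zpowers (⟨a, ha⟩ : R) → (x : G) ∈ zpowers a := by
      rintro x ⟨k, rfl⟩
      exact ⟨k, by simp⟩
    rcases sub_index_two_mem hidx' (g := (⟨b, hb⟩ : R)) (fun hh => hab (hmem _ hh)) ⟨c, hc'⟩ with e | e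
    · exact Or.inl (hmem _ e)
    · exact Or.inr (by simpa using hmem _ e)
  refine ⟨h8, (a₀ ^ 2).2, by rw [Subgroup.orderOf_coe, hz0], hsq1, hsqz, hfour, ?_, hcases⟩
  intro a ha hao b hb hab
  have hbo : orderOf b = 4 := hfour b hb (fun e => hab (e ▸ one_mem _))
    (fun e => hab (e ▸ hsqz a ha hao ▸ pow_mem (mem_zpowers a) 2))
  have hbao : orderOf (b * a) = 4 := by
    refine hfour _ (mul_mem hb ha) (fun e => hab ?_) (fun e => hab ?_)
    · rw [mul_eq_one_iff_eq_inv.1 e]; exact inv_mem (mem_zpowers a)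
    · rw [eq_mul_inv_of_mul_eq e, ← hsqz a ha hao]
      exact mul_mem (pow_mem (mem_zpowers a) 2) (inv_mem (mem_zpowers a))
  have h1 : (b * a) ^ 2 = b ^ 2 := by rw [hsqz _ (mul_mem hb ha) hbao, hsqz b hb hbo]
  have h2 : a * b * a = b := by
    have h3 : b * (a * b * a) = b * b := by
      calc b * (a * b * a) = (b * a) ^ 2 := by rw [sq]; group
        _ = b * b := by rw [h1, sq]
    exact mul_left_cancel h3
  calc b * a * b⁻¹ = a⁻¹ * (a * b * a) * b⁻¹ := by group
    _ = a⁻¹ := by rw [h2, mul_inv_cancel_right]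

variable {R : Subgroup G} {z : G}

theorem QuatData.exists_outside (d : QuatData R z) {a : G} (ha : orderOf a = 4) :
    ∃ b ∈ R, b ∉ zpowers a := by
  by_contra h
  push Not at h
  have := Subgroup.card_le_of_le (H := R) (K := zpowers a) h
  rw [d.card, Nat.card_zpowers, ha] at this
  omega

theorem QuatData.exists_four (d : QuatData R z) : ∃ a ∈ R, orderOf a = 4 := by
  by_contra h
  push Not at h
  have h1 : R ≤ zpowers z := fun a ha => by
    rcases eq_or_ne a 1 with rfl | h1
    · exact one_mem _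
    rcases eq_or_ne a z with rfl | hz
    · exact mem_zpowers a
    · exact absurd (d.four a ha h1 hz) (h a ha)
  have := Subgroup.card_le_of_le h1
  rw [d.card, Nat.card_zpowers, d.order] at this
  omega

/-- An element of odd order normalizing a cyclic group of order four centralizes it. -/
theorem commute_of_normalizes_four {t a : G} (ht : Odd (orderOf t)) (ha : orderOf a = 4)
    (h : t * a * t⁻¹ ∈ zpowers a) : t * a = a * t := by
  obtain ⟨k, hk⟩ := h
  change a ^ k = t * a * t⁻¹ at hk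
  have hodd : Odd k := by
    rcases Int.even_or_odd k with ⟨l, hl⟩ | h1
    · exfalso
      have h1 : orderOf (t * a * t⁻¹) = 4 := by
        rw [show t * a * t⁻¹ = (MulAut.conj t) a from rfl, MulEquiv.orderOf_eq, ha]
      have h2 : (t * a * t⁻¹) ^ 2 = 1 := by
        rw [← hk, hl, ← two_mul, ← zpow_natCast, ← zpow_mul, ← orderOf_dvd_iff_zpow_eq_one, ha]
        exact ⟨l, by push_cast; ring⟩
      have := Nat.le_of_dvd two_pos (h1 ▸ orderOf_dvd_of_pow_eq_one h2)
      omega
    · exact h1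
  obtain ⟨l, rfl⟩ := hodd
  have h2 : t ^ 2 * a * (t ^ 2)⁻¹ = a := by
    calc t ^ 2 * a * (t ^ 2)⁻¹ = t * (t * a * t⁻¹) * t⁻¹ := by rw [sq]; group
      _ = (t * a * t⁻¹) ^ (2 * l + 1) := by
        conv_lhs => rw [← hk]
        rw [← conj_zpow]
      _ = a := by
        rw [← hk, ← zpow_mul, show ((2 * l + 1) * (2 * l + 1) : ℤ) = 4 * (l * l + l) + 1 by ring,
          zpow_add_one, zpow_mul, show (a : G) ^ (4 : ℤ) = 1 by
            rw [show (4 : ℤ) = ((4 : ℕ) : ℤ) from rfl, zpow_natCast, ← ha, pow_orderOf_eq_one],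
          one_zpow, one_mul]
  obtain ⟨j, hj⟩ := ht
  have hc : Commute (t ^ 2) a := mul_inv_eq_iff_eq_mul.1 h2
  have h3 : t = (t ^ 2) ^ (j + 1) := by
    rw [← pow_mul, show 2 * (j + 1) = orderOf t + 1 by omega, pow_succ, pow_orderOf_eq_one, one_mul]
  rw [h3]
  exact (hc.pow_left _).eq

/-- An element of odd order which normalizes the quaternion group and centralizes one of its
elements of order four centralizes it. -/
theorem QuatData.centralizes_of_fix (d : QuatData R z) {t a : G} (ht : Odd (orderOf t))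
    (hn : ∀ r ∈ R, t * r * t⁻¹ ∈ R) (ha : a ∈ R) (hao : orderOf a = 4) (h : t * a = a * t) :
    ∀ r ∈ R, t * r = r * t := by
  obtain ⟨b, hb, hab⟩ := d.exists_outside hao
  have hfixa : ∀ c ∈ zpowers a, Commute t c := by
    rintro c ⟨k, rfl⟩
    exact Commute.zpow_right h k
  have hout : t * b * t⁻¹ ∉ zpowers a := fun h1 => hab (by
    have h2 := hfixa _ h1
    have : b = t * b * t⁻¹ := by
      calc b = t⁻¹ * (t * b * t⁻¹) * t := by group
        _ = t⁻¹ * (t * (t * b * t⁻¹)) := by rw [mul_assoc, ← h2.eq]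
        _ = t * b * t⁻¹ := inv_mul_cancel_left _ _
    rw [this]; exact h1)
  obtain ⟨c, hc, hbc⟩ : ∃ c ∈ zpowers a, t * b * t⁻¹ = c * b := by
    rcases d.cases_mem a ha hao b hb hab _ (hn b hb) with e | e
    · exact absurd e hout
    · exact ⟨_, e, (inv_mul_cancel_right _ b).symm⟩
  have hpow : ∀ n : ℕ, t ^ n * b * (t ^ n)⁻¹ = c ^ n * b := by
    intro n
    induction n with
    | zero => simp
    | succ n ih =>
      calc t ^ (n + 1) * b * (t ^ (n + 1))⁻¹ = t * (t ^ n * b * (t ^ n)⁻¹) * t⁻¹ := by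
            rw [pow_succ']; group
        _ = c ^ n * (t * b * t⁻¹) := by rw [ih, ← mul_assoc, ((hfixa c hc).pow_right n).eq]; group
        _ = c ^ (n + 1) * b := by rw [hbc, ← mul_assoc, ← pow_succ]
  have h1 := hpow (orderOf t)
  rw [pow_orderOf_eq_one, one_mul, inv_one, mul_one, eq_comm, mul_eq_right] at h1
  have hc4 : c ^ 4 = 1 := by
    rw [← orderOf_dvd_iff_pow_eq_one, ← hao]; exact orderOf_dvd_of_mem_zpowers hc
  have hcop : Nat.Coprime (orderOf t) 4 := (ht.coprime_two_right).pow_right 2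
  have hc1 : c = 1 := by
    rw [← pow_one c, ← hcop.gcd_eq_one, pow_gcd_eq_one]
    exact ⟨h1, hc4⟩
  rw [hc1, one_mul] at hbc
  have hcb : Commute t b := mul_inv_eq_iff_eq_mul.1 hbc
  intro r hr
  rcases d.cases_mem a ha hao b hb hab r hr with e | e
  · exact (hfixa r e).eq
  · have : Commute t (r * b⁻¹ * b) := (hfixa _ e).mul_right hcb
    rw [inv_mul_cancel_right] at this
    exact this.eq

/-- An odd order subgroup normalizing the quaternion group and acting faithfully on it has order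
dividing three. -/
theorem QuatData.card_dvd_three (d : QuatData R z) {E : Subgroup G} (hE : Odd (Nat.card E))
    (hn : ∀ t ∈ E, ∀ r ∈ R, t * r * t⁻¹ ∈ R) (hf : ∀ t ∈ E, (∀ r ∈ R, t * r = r * t) → t = 1) :
    Nat.card E ∣ 3 := by
  classical
  let X := {r : R // orderOf (r : G) = 4}
  have hX : Nat.card X = 6 := by
    have h1 : Nat.card {r : R // ¬ orderOf (r : G) = 4} = 2 := by
      rw [Nat.card_congr (Equiv.subtypeSubtypeEquivSubtypeExists (· ∈ R) _)]
      have : {a : G | ∃ h : a ∈ R, ¬ orderOf ((⟨a, h⟩ : R) : G) = 4} = ({1, z} : Set G) := by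
        ext a
        simp only [Set.mem_setOf_eq, Set.mem_insert_iff, Set.mem_singleton_iff, exists_prop]
        constructor
        · rintro ⟨ha, h4⟩
          by_contra hne
          push Not at hne
          exact h4 (d.four a ha hne.1 hne.2)
        · rintro (rfl | rfl)
          · exact ⟨one_mem R, by rw [orderOf_one]; norm_num⟩
          · exact ⟨d.mem, by rw [d.order]; norm_num⟩
      rw [show Nat.card {a : G // ∃ h : a ∈ R, ¬ orderOf ((⟨a, h⟩ : R) : G) = 4} =
        Set.ncard {a : G | ∃ h : a ∈ R, ¬ orderOf ((⟨a, h⟩ : R) : G) = 4} from Nat.card_coe_set_eq _,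
        this, Set.ncard_pair]
      intro e
      have := d.order
      rw [← e, orderOf_one] at this
      norm_num at this
    have h2 := Nat.card_congr (Equiv.sumCompl (fun r : R => orderOf (r : G) = 4))
    rw [Nat.card_sum, h1, d.card] at h2
    show Nat.card {r : R // orderOf (r : G) = 4} = 6
    omega
  letI : MulAction E X :=
    { smul := fun t r => ⟨⟨t * r * (t : G)⁻¹, hn t t.2 r r.1.2⟩, by
        show orderOf ((MulAut.conj (t : G)) ((r.1 : G))) = 4
        rw [MulEquiv.orderOf_eq]; exact r.2⟩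
      one_smul := fun r => Subtype.ext (Subtype.ext (by
        show ((1 : E) : G) * (r.1 : G) * ((1 : E) : G)⁻¹ = r.1
        simp))
      mul_smul := fun s t r => Subtype.ext (Subtype.ext (by
        show ((s * t : E) : G) * (r.1 : G) * ((s * t : E) : G)⁻¹ = s * (t * r.1 * (t : G)⁻¹) * (s : G)⁻¹
        simp [mul_assoc])) }
  haveI := Fintype.ofFinite E
  haveI := Fintype.ofFinite X
  haveI := Fintype.ofFinite (Quotient (MulAction.orbitRel E X))
  have hb := MulAction.sum_card_fixedBy_eq_card_orbits_mul_card_group E X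
  rw [Finset.sum_eq_single (1 : E)] at hb
  · rw [show Fintype.card (MulAction.fixedBy X (1 : E)) = Fintype.card X from
      Fintype.card_congr ((Equiv.setCongr (by ext; simp [MulAction.mem_fixedBy])).trans (Equiv.Set.univ X)),
      ← Nat.card_eq_fintype_card, hX] at hb
    have h6 : Nat.card E ∣ 2 * 3 := by
      rw [← Nat.card_eq_fintype_card (α := E)] at hb
      exact ⟨_, hb.trans (mul_comm _ _)⟩
    exact (hE.coprime_two_right).dvd_of_dvd_mul_left h6
  · intro t _ ht
    rw [Fintype.card_eq_zero_iff, Set.isEmpty_coe_sort, Set.eq_empty_iff_forall_notMem]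
    intro r hr
    have h1 : (t : G) * (r.1 : G) * (t : G)⁻¹ = r.1 := congrArg (fun x : X => (x.1 : G)) hr
    refine ht (Subtype.ext (hf t t.2 (d.centralizes_of_fix ?_ (hn t t.2) r.1.2 r.2 (mul_inv_eq_iff_eq_mul.1 h1))))
    exact hE.of_dvd_nat (Subgroup.orderOf_dvd_natCard E t.2)
  · simp

end CfsgLib.EqOrder
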