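import Cfsg.Agent.EqualOrder.Basic

/-!
# The conjugacy property of abelian subgroups passes to quotients of solvable groups
-/

set_option autoImplicit false
set_option linter.unusedSectionVars false
set_option linter.style.haveILetI false

namespace CfsgLib.EqOrder

open Subgroup
open scoped Pointwise

universe u

variable {G : Type u} [Group G]

theorem AbConj.of_equiv {H : Type*} [Group H] (hB : AbConj G) (e : G ≃* H) : AbConj H := by
  intro A B hA hA' hc
  have hcard : ∀ C : Subgroup H, Nat.card (C.map e.symm.toMonoidHom) = Nat.card C := fun C =>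
    card_map_of_injective e.symm.injective
  have hcomm : ∀ C : Subgroup H, IsMulCommutative ↥C → IsMulCommutative ↥(C.map e.symm.toMonoidHom) :=
    fun C hC => comm_of_forall fun a ha b hb => by
      obtain ⟨x, hx, rfl⟩ := ha
      obtain ⟨y, hy, rfl⟩ := hb
      rw [← map_mul, ← map_mul, comm_apply hC hx hy]
  obtain ⟨g, hg⟩ := hB _ _ (hcomm A hA) (hcomm B hA') (by rw [hcard, hcard, hc])
  refine ⟨e g, ?_⟩
  ext x
  have := SetLike.ext_iff.1 hg (e.symm x)
  rw [mem_map_conj] at this
  rw [mem_map_conj]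
  constructor
  · intro hx
    obtain ⟨y, hy, hye⟩ := this.1 (mem_map_of_mem _ hx)
    have : y = (e g)⁻¹ * x * e g := by
      apply e.symm.injective
      simpa using hye
    exact this ▸ hy
  · intro hx
    obtain ⟨y, hy, hye⟩ := this.2 ⟨_, hx, by simp⟩
    exact e.symm.injective hye ▸ hy

variable [Finite G]

theorem exists_relative_complement {M K : Subgroup G} [M.Normal] (hMK : M ≤ K)
    (hcop : (Nat.card M).Coprime (M.relIndex K)) :
    ∃ L ≤ K, L ⊓ M = ⊥ ∧ L ⊔ M = K ∧ Nat.card L = M.relIndex K := by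
  haveI : (M.subgroupOf K).Normal := inferInstance
  have hc : Nat.card (M.subgroupOf K) = Nat.card M := Nat.card_congr (subgroupOfEquivOfLe hMK).toEquiv
  obtain ⟨L, hL⟩ := Subgroup.exists_right_complement'_of_coprime (N := M.subgroupOf K) (by rw [hc]; exact hcop)
  have hLc : Nat.card (L.map K.subtype) = M.relIndex K := by
    rw [card_map_of_injective K.subtype_injective, ← hL.symm.index_eq_card]; rfl
  have hd : L.map K.subtype ⊓ M = ⊥ := inf_eq_bot_of_coprime (by rw [hLc]; exact hcop.symm)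
  refine ⟨L.map K.subtype, map_subtype_le L, hd, ?_, hLc⟩
  refine CfsgLib.Solvable.eq_of_le_of_card_le (sup_le (map_subtype_le L) hMK) ?_
  rw [CfsgLib.Solvable.card_sup_of_disjoint (le_normalizer_of_normal (H := M)) hd, hLc]
  exact le_of_eq (by rw [← relIndex_bot_left, ← relIndex_bot_left, mul_comm]; exact (relIndex_mul_relIndex ⊥ M K bot_le hMK).symm)

theorem mem_sylow_of_normal_aux {p : ℕ} {K S : Subgroup G} (hS : IsPGroup p S) (hSK : S ≤ K)
    (hSn : K ≤ normalizer (S : Set G)) (hmax : ∀ Q ≤ K, IsPGroup p Q → S ≤ Q → Q = S) {x : G}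
    (hx : x ∈ K) (hxp : IsPGroup p (zpowers x)) : x ∈ S := by
  have h1 : IsPGroup p (↥(zpowers x ⊔ S)) :=
    hxp.to_sup_of_normal_right' hS (zpowers_le.2 (hSn hx))
  exact hmax _ (sup_le (zpowers_le.2 hx) hSK) h1 le_sup_right ▸ mem_sup_left (mem_zpowers x)

theorem map_conj_sup (A B : Subgroup G) (g : G) :
    (A ⊔ B).map (MulAut.conj g).toMonoidHom =
      A.map (MulAut.conj g).toMonoidHom ⊔ B.map (MulAut.conj g).toMonoidHom := Subgroup.map_sup _ _ _

/-- The minimal step. -/
theorem AbConj.quotient_minimal (hs : Group.IsSolvable G) (hB : AbConj G) (M : Subgroup G) [M.Normal]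
    (hM1 : M ≠ ⊥) (hmin : ∀ K : Subgroup G, K.Normal → K ≤ M → K = ⊥ ∨ K = M) : AbConj (G ⧸ M) := by
  haveI := hs
  obtain ⟨hMc, p, hp, hexp, hMp⟩ := CfsgLib.Solvable.minimal_normal_elementary hM1 hmin inferInstance
  haveI := Fact.mk hp
  intro A B hA hA' hc
  set f := QuotientGroup.mk' M with hf
  have hfs : Function.Surjective f := QuotientGroup.mk'_surjective M
  have hker : f.ker = M := QuotientGroup.ker_mk' M
  suffices h : ∃ g : G, B.comap f = (A.comap f).map (MulAut.conj g).toMonoidHom by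
    obtain ⟨g, hg⟩ := h
    refine ⟨f g, ?_⟩
    rw [← map_comap_eq_self_of_surjective hfs B, hg, Subgroup.map_map,
      show f.comp (MulAut.conj g).toMonoidHom = (MulAut.conj (f g)).toMonoidHom.comp f from
        MonoidHom.ext fun t => by simp,
      ← Subgroup.map_map, map_comap_eq_self_of_surjective hfs A]
  -- facts about preimages
  have hle : ∀ C : Subgroup (G ⧸ M), M ≤ C.comap f := fun C => hker.symm.le.trans (f.ker_le_comap C)
  have hri : ∀ C : Subgroup (G ⧸ M), M.relIndex (C.comap f) = Nat.card C := fun C => by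
    rw [(congrArg (fun N => N.relIndex (C.comap f)) hker).symm, relIndex_ker,
      map_comap_eq_self_of_surjective hfs]
  have hcomm : ∀ C : Subgroup (G ⧸ M), IsMulCommutative ↥C → ∀ a ∈ C.comap f, ∀ b ∈ C.comap f,
      a⁻¹ * b⁻¹ * a * b ∈ M := fun C hC a ha b hb => by
    rw [← hker, MonoidHom.mem_ker, map_mul, map_mul, map_mul, map_inv, map_inv]
    have := comm_apply hC ha hb
    rw [mul_assoc _ (f a) (f b), this]
    group
  have hMmap : ∀ g : G, M.map (MulAut.conj g).toMonoidHom = M := fun g => Normal.map_conj_eq M g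
  by_cases hcop : (Nat.card M).Coprime (Nat.card A)
  · -- complements of `M`
    have key : ∀ C : Subgroup (G ⧸ M), IsMulCommutative ↥C → Nat.card C = Nat.card A →
        ∃ L : Subgroup G, L ⊔ M = C.comap f ∧ IsMulCommutative ↥L ∧ Nat.card L = Nat.card A := by
      intro C hC hCc
      obtain ⟨L, hLK, hd, hj, hLc⟩ := exists_relative_complement (hle C) (by rw [hri, hCc]; exact hcop)
      refine ⟨L, hj, comm_of_forall fun a ha b hb => ?_, by rw [hLc, hri, hCc]⟩
      have h1 : a⁻¹ * b⁻¹ * a * b ∈ L ⊓ M :=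
        mem_inf.2 ⟨mul_mem (mul_mem (mul_mem (inv_mem ha) (inv_mem hb)) ha) hb,
          hcomm C hC a (hLK ha) b (hLK hb)⟩
      rw [hd, mem_bot] at h1
      calc a * b = b * a * (a⁻¹ * b⁻¹ * a * b) := by group
        _ = b * a := by rw [h1, mul_one]
    obtain ⟨L, hL, hLc, hLn⟩ := key A hA rfl
    obtain ⟨L', hL', hLc', hLn'⟩ := key B hA' hc.symm
    obtain ⟨g, hg⟩ := hB L L' hLc hLc' (by rw [hLn, hLn'])
    exact ⟨g, by rw [← hL, map_conj_sup, hMmap, ← hg, hL']⟩
  -- now `M` has order `p`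
  have hr : RankOneAt p G := by
    by_contra h
    refine hcop ((hB.coprime_of_not_rankOne h hMp hM1).coprime_dvd_right ?_)
    rw [index_eq_card]
    exact card_subgroup_dvd_card A
  have hMcard : Nat.card M = p := card_minimal_of_rankOne hr hMp hM1 hexp
  have hpA : p ∣ Nat.card A := by
    rw [hMcard] at hcop
    exact hp.dvd_iff_not_coprime.2 hcop
  have hKcard : ∀ C : Subgroup (G ⧸ M), Nat.card (C.comap f) = p * Nat.card C := fun C => by
    rw [← hMcard, ← hri C, ← relIndex_bot_left, ← relIndex_bot_left]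
    exact (relIndex_mul_relIndex ⊥ M _ bot_le (hle C)).symm
  have hstruct : ∀ C : Subgroup (G ⧸ M), IsMulCommutative ↥C → Nat.card C = Nat.card A →
      ∃ S : Subgroup G, IsPGroup p S ∧ S ≤ C.comap f ∧ p ^ 2 ∣ Nat.card S ∧
        (S.relIndex (C.comap f)).Coprime p ∧ C.comap f ≤ normalizer (S : Set G) ∧
        (∀ x ∈ C.comap f, ∀ y ∈ C.comap f, (orderOf x).Coprime p → x * y = y * x) ∧
        (IsMulCommutative ↥S → IsMulCommutative ↥(C.comap f)) := by
    intro C hC hCc
    set K := C.comap f with hK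
    obtain ⟨T⟩ := (inferInstance : Nonempty (Sylow p K))
    set S := (T : Subgroup K).map K.subtype with hS
    have hSc : Nat.card S = Nat.card T := card_map_of_injective K.subtype_injective
    have hSK : S ≤ K := map_subtype_le _
    have hSp : IsPGroup p S := T.2.map _
    have hri' : S.relIndex K = (T : Subgroup K).index := by
      rw [relIndex, hS, subgroupOf, comap_map_eq_self_of_injective K.subtype_injective]
    have hcop' : (S.relIndex K).Coprime p := by
      rw [hri', Nat.coprime_comm, hp.coprime_iff_not_dvd]; exact T.not_dvd_index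
    have hp2 : p ^ 2 ∣ Nat.card S := by
      rw [hSc, T.card_eq_multiplicity]
      refine pow_dvd_pow p ?_
      rw [← hp.pow_dvd_iff_le_factorization Nat.card_pos.ne', hKcard, hCc, sq]
      exact Nat.mul_dvd_mul_left p hpA
    have hMS : M ≤ S := le_of_card_prime_of_dvd hr hMcard ((dvd_pow_self p two_ne_zero).trans hp2)
    have hSn : K ≤ normalizer (S : Set G) := by
      have hmem : ∀ k ∈ K, ∀ s ∈ S, k * s * k⁻¹ ∈ S := fun k hk s hs' => by
        have h1 := hMS (hcomm C hC k⁻¹ (inv_mem hk) s⁻¹ (inv_mem (hSK hs')))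
        rw [inv_inv, inv_inv] at h1
        have : k * s * k⁻¹ = (k * s * k⁻¹ * s⁻¹) * s := by group
        rw [this]; exact mul_mem h1 hs'
      intro k hk
      rw [mem_normalizer_iff]
      refine fun s => ⟨hmem k hk s, fun h => ?_⟩
      have := hmem k⁻¹ (inv_mem hk) _ h
      simpa [mul_assoc] using this
    have hcen : ∀ m ∈ M, ∀ x ∈ K, x * m = m * x := by
      intro m hm x hx
      by_cases hScyc : IsCyclic S
      · obtain ⟨s, hs'⟩ := hScyc.exists_generator
        have hgen : ∀ t ∈ S, ∃ j : ℤ, (s : G) ^ j = t := fun t ht => by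
          obtain ⟨j, hj⟩ := hs' ⟨t, ht⟩
          exact ⟨j, congrArg Subtype.val hj⟩
        have hscomm : ∀ t ∈ S, (s : G) * t = t * s := fun t ht => by
          obtain ⟨j, rfl⟩ := hgen t ht
          exact ((Commute.refl (s : G)).zpow_right j).eq
        have hd : (s : G)⁻¹ * (x * s * x⁻¹) ∈ M := by
          have := hcomm C hC (s : G) (hSK s.2) x⁻¹ (inv_mem hx)
          rw [inv_inv] at this
          simpa [mul_assoc] using this
        set d := (s : G)⁻¹ * (x * s * x⁻¹) with hdd
        have hxs : x * s * x⁻¹ = s * d := by rw [hdd]; group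
        have hsp : x * (s : G) ^ p * x⁻¹ = (s : G) ^ p := by
          rw [← conj_pow, hxs, Commute.mul_pow (hscomm d (hMS hd)), hexp d hd, mul_one]
        obtain ⟨j, rfl⟩ := hgen m (hMS hm)
        have hso : orderOf (s : G) = Nat.card S := by
          rw [Subgroup.orderOf_coe]; exact orderOf_eq_card_of_forall_mem_zpowers hs'
        have hm1 := hexp _ hm
        rw [← zpow_natCast, ← zpow_mul, ← orderOf_dvd_iff_zpow_eq_one, hso] at hm1
        have hpj : (p : ℤ) ∣ j := by
          have h2 : (p : ℤ) * p ∣ j * p := by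
            refine (dvd_trans ?_ hm1)
            rw [← sq]; exact_mod_cast hp2
          exact (mul_dvd_mul_iff_right (Nat.cast_ne_zero.2 hp.ne_zero)).1 h2
        obtain ⟨l, rfl⟩ := hpj
        rw [zpow_mul, zpow_natCast]
        have hcx : Commute x ((s : G) ^ p) := mul_inv_eq_iff_eq_mul.1 hsp
        exact (hcx.zpow_right l).eq
      · obtain rfl : p = 2 := by
          by_contra h2
          exact hScyc (hr.isCyclic_of_odd h2 hSp)
        rcases eq_or_ne m 1 with rfl | hm1
        · simp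
        obtain ⟨hMz, -⟩ := eq_zpowers_of_card_prime hp hMcard hm hm1
        have h1 : x * m * x⁻¹ ∈ M := Normal.conj_mem inferInstance m hm x
        rw [hMz, ← mem_powers_iff_mem_zpowers] at h1
        obtain ⟨j, hj⟩ := h1
        change m ^ j = x * m * x⁻¹ at hj
        rcases Nat.mod_two_eq_zero_or_one j with e | e
        · exfalso
          rw [← Nat.mod_add_div j 2, e, zero_add, pow_mul, hexp m hm, one_pow, eq_comm, conj_eq_one_iff] at hj
          exact hm1 hj
        · rw [← Nat.mod_add_div j 2, e, pow_add, pow_mul, hexp m hm, one_pow, mul_one, pow_one] at hj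
          exact mul_inv_eq_iff_eq_mul.1 hj.symm
    have hpc : ∀ x ∈ K, ∀ y ∈ K, ∀ n : ℕ, ∃ d, d ∈ M ∧ y * x * y⁻¹ = x * d ∧ y * x ^ n * y⁻¹ = x ^ n * d ^ n := by
      intro x hx y hy n
      have h1 := hcomm C hC x hx y⁻¹ (inv_mem hy)
      rw [inv_inv] at h1
      refine ⟨x⁻¹ * y * x * y⁻¹, h1, by group, ?_⟩
      rw [← conj_pow, show y * x * y⁻¹ = x * (x⁻¹ * y * x * y⁻¹) by group,
        Commute.mul_pow (hcen _ h1 x hx)]
    have hp' : ∀ x ∈ K, ∀ y ∈ K, (orderOf x).Coprime p → x * y = y * x := by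
      intro x hx y hy hxo
      obtain ⟨d, hd, hd1, hdn⟩ := hpc x hx y hy (orderOf x)
      rw [pow_orderOf_eq_one, mul_one, mul_inv_cancel, one_mul] at hdn
      have : d = 1 := by
        rw [← pow_one d, ← hxo.gcd_eq_one, pow_gcd_eq_one]
        exact ⟨hdn.symm, hexp d hd⟩
      rw [this, mul_one] at hd1
      exact (mul_inv_eq_iff_eq_mul.1 hd1).symm
    refine ⟨S, hSp, hSK, hp2, hcop', hSn, hp', fun hSc => comm_of_forall fun x hx y hy => ?_⟩
    -- `[x,y]` has order dividing both `p` and a `p'`-number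
    have hmax : ∀ Q ≤ K, IsPGroup p Q → S ≤ Q → Q = S := fun Q hQK hQ hSQ => by
      refine (CfsgLib.Solvable.eq_of_le_of_card_le hSQ (Nat.le_of_dvd Nat.card_pos ?_)).symm
      obtain ⟨i, hi⟩ := IsPGroup.iff_card.1 hQ
      have h1 : p ^ i ∣ Nat.card S * S.relIndex K := by
        rw [← hi, ← relIndex_bot_left S, relIndex_mul_relIndex ⊥ S K bot_le hSK, relIndex_bot_left]
        exact card_dvd_of_le hQK
      rw [hi]
      exact (hcop'.symm.pow_left i).dvd_of_dvd_mul_right h1
    set e := S.relIndex K with he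
    have hinS : ∀ z ∈ K, z ^ e ∈ S := fun z hz => by
      refine mem_sylow_of_normal_aux hSp hSK hSn hmax (pow_mem hz e) ?_
      obtain ⟨i, hi⟩ := IsPGroup.iff_card.1 hSp
      have h1 : orderOf (z ^ e) ∣ p ^ i := by
        apply orderOf_dvd_of_pow_eq_one
        rw [← pow_mul, ← hi, ← orderOf_dvd_iff_pow_eq_one, he, mul_comm, ← relIndex_bot_left S,
          relIndex_mul_relIndex ⊥ S K bot_le hSK, relIndex_bot_left]
        exact Subgroup.orderOf_dvd_natCard K hz
      obtain ⟨i', -, hi'⟩ := (Nat.dvd_prime_pow hp).1 h1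
      exact IsPGroup.of_card (n := i') (by rw [Nat.card_zpowers, hi'])
    obtain ⟨d, hd, hd1, hdn⟩ := hpc x hx y hy e
    have hxe : x ^ e ∈ S := hinS x hx
    -- `y` centralizes `x ^ e`
    have hye : y * x ^ e * y⁻¹ = x ^ e := by
      obtain ⟨d', hd', hd1', hdn'⟩ := hpc y hy (x ^ e) (pow_mem hx e) e
      have h0 : x ^ e * y ^ e * (x ^ e)⁻¹ = y ^ e :=
        mul_inv_eq_iff_eq_mul.2 (comm_apply hSc hxe (hinS y hy))
      rw [h0] at hdn'
      have h1 : d' ^ e = 1 := mul_eq_left.1 hdn'.symm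
      have h2 : d' = 1 := by
        rw [← pow_one d', ← hcop'.gcd_eq_one, pow_gcd_eq_one]
        exact ⟨h1, hexp d' hd'⟩
      rw [h2, mul_one] at hd1'
      rw [← (mul_inv_eq_iff_eq_mul.1 hd1'), mul_inv_cancel_right]
    rw [hye] at hdn
    have h1 : d ^ e = 1 := mul_eq_left.1 hdn.symm
    have h2 : d = 1 := by
      rw [← pow_one d, ← hcop'.gcd_eq_one, pow_gcd_eq_one]
      exact ⟨h1, hexp d hd⟩
    rw [h2, mul_one] at hd1
    exact (mul_inv_eq_iff_eq_mul.1 hd1).symm
  obtain ⟨S, hSp, hSK, hp2, hScop, hSn, hSc, hScomm⟩ := hstruct A hA rfl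
  obtain ⟨S', hSp', hSK', hp2', hScop', hSn', hSc', hScomm'⟩ := hstruct B hA' hc.symm
  have hSS : Nat.card S = Nat.card S' := by
    obtain ⟨i, hi⟩ := IsPGroup.iff_card.1 hSp
    obtain ⟨j, hj⟩ := IsPGroup.iff_card.1 hSp'
    have h1 : Nat.card S * S.relIndex (A.comap f) = Nat.card S' * S'.relIndex (B.comap f) := by
      rw [← relIndex_bot_left S, ← relIndex_bot_left S', relIndex_mul_relIndex ⊥ S _ bot_le hSK,
        relIndex_mul_relIndex ⊥ S' _ bot_le hSK', relIndex_bot_left, relIndex_bot_left, hKcard, hKcard, hc]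
    refine Nat.dvd_antisymm (Nat.Coprime.dvd_of_dvd_mul_right ?_ (Dvd.intro _ h1))
      (Nat.Coprime.dvd_of_dvd_mul_right ?_ (Dvd.intro _ h1.symm))
    · rw [hi]; exact hScop'.symm.pow_left i
    · rw [hj]; exact hScop.symm.pow_left j
  by_cases hab : IsMulCommutative ↥S ∧ IsMulCommutative ↥S'
  · exact hB _ _ (hScomm hab.1) (hScomm' hab.2) (by rw [hKcard, hKcard, hc])
  -- quaternion Sylow subgroups
  have hbig : ∀ T : Subgroup G, IsPGroup p T → ¬ IsMulCommutative ↥T → p = 2 ∧ Nat.card T = 8 := by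
    intro T hT hnc
    have hncyc : ¬ IsCyclic T := fun h => hnc (by
      haveI := h
      exact inferInstance)
    obtain rfl : p = 2 := by
      by_contra h2
      exact hncyc (hr.isCyclic_of_odd h2 hT)
    exact ⟨rfl, (hB.card_two_subgroup hs hr hT).resolve_left hncyc⟩
  obtain ⟨h2, h8⟩ : p = 2 ∧ Nat.card S = 8 := by
    by_cases h : IsMulCommutative ↥S
    · rw [hSS]; exact hbig S' hSp' fun h' => hab ⟨h, h'⟩
    · exact hbig S hSp h
  subst h2
  have hncyc : ∃ T : Subgroup G, IsPGroup 2 T ∧ ¬ IsCyclic T := by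
    by_cases h : IsMulCommutative ↥S
    · exact ⟨S', hSp', fun hc' => hab ⟨h, by haveI := hc'; infer_instance⟩⟩
    · exact ⟨S, hSp, fun hc' => h (by haveI := hc'; infer_instance)⟩
  have hsyl : ∀ T : Subgroup G, IsPGroup 2 T → Nat.card T = 8 →
      ∀ Q : Subgroup G, IsPGroup 2 Q → T ≤ Q → Q = T := by
    intro T hT hT8 Q hQ hTQ
    obtain ⟨U, hU, hUc⟩ := hncyc
    obtain ⟨P, hUP⟩ := hU.exists_le_sylow
    have hP8 : Nat.card P = 8 := (hB.card_two_subgroup hs hr P.2).resolve_left fun h =>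
      hUc (by haveI := h; exact Subgroup.isCyclic_of_le hUP)
    obtain ⟨P', hQP⟩ := hQ.exists_le_sylow
    refine (CfsgLib.Solvable.eq_of_le_of_card_le hTQ ?_).symm
    rw [hT8, ← hP8]
    calc Nat.card Q ≤ Nat.card (P' : Subgroup G) := Subgroup.card_le_of_le hQP
      _ = Nat.card (P : Subgroup G) := Nat.card_congr (P'.equiv P).toEquiv
  have hodd : ∀ (C : Subgroup (G ⧸ M)) (T : Subgroup G), IsPGroup 2 T → T ≤ C.comap f →
      (T.relIndex (C.comap f)).Coprime 2 → C.comap f ≤ normalizer (T : Set G) →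
      (∀ x ∈ C.comap f, ∀ y ∈ C.comap f, (orderOf x).Coprime 2 → x * y = y * x) →
      ∃ L : Subgroup G, IsMulCommutative ↥L ∧ Nat.card L = T.relIndex (C.comap f) ∧
        T ≤ centralizer (L : Set G) ∧ T ⊔ L = C.comap f := by
    intro C T hT hTK hTcop hTn hTc
    haveI : (T.subgroupOf (C.comap f)).Normal := (normal_subgroupOf_iff_le_normalizer hTK).2 hTn
    have hTc' : Nat.card (T.subgroupOf (C.comap f)) = Nat.card T :=
      Nat.card_congr (subgroupOfEquivOfLe hTK).toEquiv
    obtain ⟨i, hi⟩ := IsPGroup.iff_card.1 hT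
    have hcop2 : (Nat.card (T.subgroupOf (C.comap f))).Coprime (T.subgroupOf (C.comap f)).index := by
      rw [hTc', hi]; exact hTcop.symm.pow_left i
    obtain ⟨L, hL⟩ := Subgroup.exists_right_complement'_of_coprime hcop2
    set L' := L.map (C.comap f).subtype
    have hLc : Nat.card L' = T.relIndex (C.comap f) := by
      rw [card_map_of_injective (C.comap f).subtype_injective, ← hL.symm.index_eq_card]; rfl
    have hLK : L' ≤ C.comap f := map_subtype_le _
    have hLo : ∀ x ∈ L', (orderOf x).Coprime 2 := fun x hx =>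
      hTcop.coprime_dvd_left (hLc ▸ Subgroup.orderOf_dvd_natCard L' hx)
    refine ⟨L', comm_of_forall fun x hx y hy => hTc x (hLK hx) y (hLK hy) (hLo x hx), hLc,
      fun t ht => mem_centralizer_iff.2 fun x hx => hTc x (hLK hx) t (hTK ht) (hLo x hx), ?_⟩
    have := congrArg (Subgroup.map (C.comap f).subtype) hL.sup_eq_top
    rwa [Subgroup.map_sup, map_subgroupOf_eq_of_le hTK, ← MonoidHom.range_eq_map, range_subtype] at this
  obtain ⟨L, hLab, hLc, hLS, hLj⟩ := hodd A S hSp hSK hScop hSn hSc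
  obtain ⟨L', hLab', hLc', hLS', hLj'⟩ := hodd B S' hSp' hSK' hScop' hSn' hSc'
  have hLL : Nat.card L = Nat.card L' := by
    have h1 : Nat.card S * S.relIndex (A.comap f) = Nat.card S' * S'.relIndex (B.comap f) := by
      rw [← relIndex_bot_left S, ← relIndex_bot_left S', relIndex_mul_relIndex ⊥ S _ bot_le hSK,
        relIndex_mul_relIndex ⊥ S' _ bot_le hSK', relIndex_bot_left, relIndex_bot_left, hKcard, hKcard, hc]
    rw [hLc, hLc']
    rw [hSS] at h1
    exact Nat.eq_of_mul_eq_mul_left Nat.card_pos h1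
  obtain ⟨g, hg⟩ := hB L L' hLab hLab' hLL
  set Z := centralizer (L' : Set G)
  set S1 := S.map (MulAut.conj g).toMonoidHom with hS1
  have hS1Z : S1 ≤ Z := by
    rintro _ ⟨s, hs', rfl⟩
    rw [mem_centralizer_iff]
    intro y hy
    rw [hg] at hy
    obtain ⟨l, hl, rfl⟩ := hy
    rw [← map_mul, ← map_mul, mem_centralizer_iff.1 (hLS hs') l hl]
  have hS18 : Nat.card S1 = 8 := by rw [hS1, card_map_conj, h8]
  have hmk : ∀ T : Subgroup G, IsPGroup 2 T → Nat.card T = 8 → T ≤ Z → ∃ R : Sylow 2 Z, (R : Subgroup Z) = T.subgroupOf Z := by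
    intro T hT hT8 hTZ
    refine ⟨{ toSubgroup := T.subgroupOf Z, isPGroup' := hT.comap_subtype, is_maximal' := ?_ }, rfl⟩
    intro Q hQ hTQ
    have h1 : Q.map Z.subtype = T := hsyl T hT hT8 _ (hQ.map _) (by
      rw [← map_subgroupOf_eq_of_le hTZ]; exact Subgroup.map_mono hTQ)
    rw [← h1, subgroupOf, comap_map_eq_self_of_injective Z.subtype_injective]
  obtain ⟨R, hR⟩ := hmk S1 (hSp.map _) hS18 hS1Z
  obtain ⟨R', hR'⟩ := hmk S' hSp' (hSS ▸ h8) hLS'
  obtain ⟨c, hc'⟩ := MulAction.exists_smul_eq Z R R'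
  refine ⟨(c : G) * g, ?_⟩
  have hcS : S1.map (MulAut.conj (c : G)).toMonoidHom = S' := by
    have h1 := congrArg (fun T : Sylow 2 Z => (T : Subgroup Z).map Z.subtype) hc'
    simp only [Sylow.coe_subgroup_smul, hR, hR', map_subgroupOf_eq_of_le hLS'] at h1
    rw [← h1]
    ext x
    simp only [mem_map_conj]
    constructor
    · intro hx
      refine ⟨⟨x, ?_⟩, ?_, rfl⟩
      · have := mul_mem (mul_mem c.2 (hS1Z hx)) (inv_mem c.2)
        simpa [mul_assoc] using this
      · rw [SetLike.mem_coe, Subgroup.mem_pointwise_smul_iff_inv_smul_mem, mem_subgroupOf]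
        simpa using hx
    · rintro ⟨y, hy, rfl⟩
      rw [SetLike.mem_coe, Subgroup.mem_pointwise_smul_iff_inv_smul_mem, mem_subgroupOf] at hy
      simpa using hy
  have hcL : L'.map (MulAut.conj (c : G)).toMonoidHom = L' := by
    ext x
    rw [mem_map_conj]
    have hcl : ∀ y ∈ L', y * (c : G) = c * y := fun y hy => mem_centralizer_iff.1 c.2 y hy
    constructor
    · intro hx
      have h2 := hcl _ hx
      have : x = (c : G)⁻¹ * x * c := by
        calc x = (c : G) * ((c : G)⁻¹ * x * c) * (c : G)⁻¹ := by group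
          _ = ((c : G)⁻¹ * x * c) * c * (c : G)⁻¹ := by rw [h2]
          _ = (c : G)⁻¹ * x * c := by group
      rwa [this]
    · intro hx
      rw [show (c : G)⁻¹ * x * c = x by rw [mul_assoc, hcl x hx, inv_mul_cancel_left]]
      exact hx
  rw [← hLj, ← hLj', map_conj_sup, map_mul]
  rw [show ((MulAut.conj (c : G) * MulAut.conj g).toMonoidHom) =
    (MulAut.conj (c : G)).toMonoidHom.comp (MulAut.conj g).toMonoidHom from rfl, ← Subgroup.map_map,
    ← Subgroup.map_map, ← hS1, hcS, ← hg, hcL]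

/-- The property passes to all quotients of a solvable group. -/
theorem AbConj.quotient (hs : Group.IsSolvable G) (hB : AbConj G) (M : Subgroup G) [M.Normal] :
    AbConj (G ⧸ M) := by
  suffices h : ∀ (n : ℕ) (G : Type u) [Group G] [Finite G], Nat.card G = n → Group.IsSolvable G →
      AbConj G → ∀ (M : Subgroup G) [M.Normal], AbConj (G ⧸ M) from h _ G rfl hs hB M
  intro n
  induction n using Nat.strong_induction_on with
  | _ n ih =>
    intro G _ _ hn hs hB M hMn
    haveI := hs
    rcases eq_or_ne M ⊥ with rfl | hM1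
    · exact hB.of_equiv QuotientGroup.quotientBot.symm
    obtain ⟨N, hN, hN1, hNM, hmin⟩ := CfsgLib.Solvable.exists_minimal_normal_le hM1
    haveI := hN
    have h1 := hB.quotient_minimal hs N hN1 hmin
    have h2 := ih (Nat.card (G ⧸ N)) (hn ▸ CfsgLib.Solvable.card_quotient_lt hN1) (G ⧸ N) rfl
      inferInstance h1 (M.map (QuotientGroup.mk' N))
    exact h2.of_equiv (QuotientGroup.quotientQuotientEquivQuotient N M hNM)

end CfsgLib.EqOrder
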