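import Cfsg.Agent.EqualOrder.Quaternion
import Cfsg.Agent.EqualOrder.Quotient
import Cfsg.Agent.Coprime.ZGroup

/-!
# Solvable groups with cyclic or quaternion Sylow subgroups: subgroups of equal order
-/

set_option autoImplicit false
set_option linter.unusedSectionVars false
set_option linter.style.haveILetI false

namespace CfsgLib.EqOrder

open Subgroup
open scoped Pointwise

universe u

variable {G : Type u} [Group G]

theorem map_conj_one (A : Subgroup G) : A.map (MulAut.conj (1 : G)).toMonoidHom = A := by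
  ext x
  rw [mem_map_conj]; simp

theorem map_conj_normal (A : Subgroup G) [A.Normal] (g : G) :
    A.map (MulAut.conj g).toMonoidHom = A := Normal.map_conj_eq A g

/-- Any two subgroups of equal order are conjugate. -/
def AllConj (G : Type u) [Group G] : Prop :=
  ∀ A B : Subgroup G, Nat.card ↥A = Nat.card ↥B → ∃ g : G, B = A.map (MulAut.conj g).toMonoidHom

/-- All Sylow subgroups are cyclic or quaternion of order eight. -/
structure Thin (G : Type u) [Group G] : Prop where
  rone : ∀ p : ℕ, p.Prime → RankOneAt p G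
  two : ∀ P : Subgroup G, IsPGroup 2 P → IsCyclic P ∨ Nat.card P = 8

/-- The cyclic subgroups of order four are conjugate. -/
def FourConj (G : Type u) [Group G] : Prop :=
  ∀ x y : G, orderOf x = 4 → orderOf y = 4 → ∃ g : G, zpowers y = (zpowers x).map (MulAut.conj g).toMonoidHom

theorem Thin.subgroup {H : Type u} [Group H] (d : Thin G) (f : H →* G) (hf : Function.Injective f) :
    Thin H where
  rone p hp := (d.rone p hp).of_injective f hf
  two P hP := by
    rcases d.two (P.map f) (hP.map f) with h | h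
    · exact Or.inl ((P.equivMapOfInjective f hf).isCyclic.2 h)
    · exact Or.inr (by rw [← h, card_map_of_injective hf])

variable [Finite G]

/-- Equal order subgroups are conjugate as soon as they are so modulo a normal subgroup of prime
order with the rank one property. -/
theorem allConj_of_quotient (hs : Group.IsSolvable G) {p : ℕ} [hp : Fact p.Prime] (M : Subgroup G) [M.Normal]
    (hM : Nat.card M = p) (hr : RankOneAt p G) (hq : AllConj (G ⧸ M)) : AllConj G := by
  haveI := hs
  intro A B hc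
  set f := QuotientGroup.mk' M with hf
  have hker : f.ker = M := QuotientGroup.ker_mk' M
  have hcase : (p ∣ Nat.card A ∧ M ≤ A ∧ M ≤ B) ∨ (¬ p ∣ Nat.card A ∧ A ⊓ M = ⊥ ∧ B ⊓ M = ⊥) := by
    by_cases h : p ∣ Nat.card A
    · exact Or.inl ⟨h, le_of_card_prime_of_dvd hr hM h, le_of_card_prime_of_dvd hr hM (hc ▸ h)⟩
    · refine Or.inr ⟨h, inf_eq_bot_of_coprime ?_, inf_eq_bot_of_coprime ?_⟩
      · rw [hM, Nat.coprime_comm]; exact hp.out.coprime_iff_not_dvd.2 h
      · rw [hM, Nat.coprime_comm, ← hc]; exact hp.out.coprime_iff_not_dvd.2 h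
  have hn : ∀ C : Subgroup G, C ≤ normalizer (M : Set G) := fun C => le_normalizer_of_normal (H := M)
  have hcard : Nat.card ↥(A ⊔ M) = Nat.card ↥(B ⊔ M) := by
    rcases hcase with ⟨-, h1, h2⟩ | ⟨-, h1, h2⟩
    · rw [sup_of_le_left h1, sup_of_le_left h2, hc]
    · rw [CfsgLib.Solvable.card_sup_of_disjoint (hn A) h1, CfsgLib.Solvable.card_sup_of_disjoint (hn B) h2, hc]
  have himg : ∀ C : Subgroup G, Nat.card (C.map f) * Nat.card M = Nat.card ↥(C ⊔ M) := fun C => by
    have h1 : C.map f = (C ⊔ M).map f := by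
      rw [Subgroup.map_sup, show M.map f = ⊥ from (Subgroup.map_eq_bot_iff M).2 hker.ge, sup_bot_eq]
    rw [h1, ← relIndex_ker, (congrArg (fun N => N.relIndex (C ⊔ M)) hker), mul_comm, ← relIndex_bot_left,
      ← relIndex_bot_left, relIndex_mul_relIndex ⊥ M _ bot_le le_sup_right]
  obtain ⟨q, hq'⟩ := hq (A.map f) (B.map f)
    (Nat.eq_of_mul_eq_mul_right (Nat.card_pos (α := M)) (by rw [himg, himg, hcard]))
  obtain ⟨g, rfl⟩ := QuotientGroup.mk'_surjective M q
  set A' := A.map (MulAut.conj g).toMonoidHom with hA'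
  have hsup : A' ⊔ M = B ⊔ M := by
    have h1 : B.map f = A'.map f := by
      rw [hq', hA', Subgroup.map_map, Subgroup.map_map]
      exact congrArg (fun φ => A.map φ) (MonoidHom.ext fun t => by simp [f])
    have h2 := congrArg (Subgroup.comap f) h1
    rw [comap_map_eq, comap_map_eq, hker] at h2
    exact h2.symm
  have hc' : Nat.card A' = Nat.card A := card_map_conj A g
  rcases hcase with ⟨-, h1, h2⟩ | ⟨h, -, -⟩
  · have h3 : M ≤ A' := by
      conv_lhs => rw [← Normal.map_conj_eq M g]
      exact Subgroup.map_mono h1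
    rw [sup_of_le_left h3, sup_of_le_left h2] at hsup
    exact ⟨g, hsup.symm⟩
  · have hcop : (Nat.card A').Coprime (Nat.card M) := by
      rw [hc', hM, Nat.coprime_comm]; exact hp.out.coprime_iff_not_dvd.2 h
    obtain ⟨k, -, hk⟩ := CfsgLib.SZ.conj_rel (hn A') hcop (Or.inl inferInstance)
      (le_sup_left.trans hsup.ge : B ≤ A' ⊔ M) (hc'.symm ▸ hc.symm)
    refine ⟨k * g, ?_⟩
    rw [← hk]
    show A'.map (MulAut.conj k).toMonoidHom = A.map (MulAut.conj (k * g)).toMonoidHom
    rw [hA', Subgroup.map_map]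
    exact congrArg (fun φ => A.map φ) (MonoidHom.ext fun t => by simp [mul_assoc])

/-- `p`-subgroups of `G / M` are images of `p`-subgroups of `G`, injectively if `p ∤ |M|`. -/
theorem exists_lift {p q : ℕ} [hp : Fact p.Prime] [hq : Fact q.Prime] (M : Subgroup G) [M.Normal]
    (hM : Nat.card M = q) {P : Subgroup (G ⧸ M)} (hP : IsPGroup p P) :
    ∃ L : Subgroup G, IsPGroup p L ∧ L.map (QuotientGroup.mk' M) = P ∧ (p ≠ q → L ⊓ M = ⊥) := by
  set f := QuotientGroup.mk' M with hf
  have hker : f.ker = M := QuotientGroup.ker_mk' M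
  have hmap : (P.comap f).map f = P := map_comap_eq_self_of_surjective (QuotientGroup.mk'_surjective M) P
  have hri : M.relIndex (P.comap f) = Nat.card P := by
    rw [(congrArg (fun N => N.relIndex (P.comap f)) hker).symm, relIndex_ker, hmap]
  obtain ⟨i, hi⟩ := IsPGroup.iff_card.1 hP
  have hMle : M ≤ P.comap f := hker.symm.le.trans (f.ker_le_comap P)
  rcases eq_or_ne p q with rfl | hpq
  · refine ⟨P.comap f, ?_, hmap, fun h => absurd rfl h⟩
    refine IsPGroup.of_card (n := i + 1) ?_
    rw [pow_succ', ← hi, ← hM, ← hri, ← relIndex_bot_left, ← relIndex_bot_left]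
    exact (relIndex_mul_relIndex ⊥ M _ bot_le hMle).symm
  · obtain ⟨L, hLK, hd, hj, hLc⟩ := exists_relative_complement hMle
      (by rw [hri, hi, hM]; exact ((Nat.coprime_primes hq.out hp.out).2 hpq.symm).pow_right i)
    refine ⟨L, IsPGroup.of_card (n := i) (by rw [hLc, hri, hi]), ?_, fun _ => hd⟩
    rw [← hmap, ← hj, Subgroup.map_sup, show M.map f = ⊥ from (Subgroup.map_eq_bot_iff M).2 hker.ge, sup_bot_eq]

theorem map_injOn {M L : Subgroup G} [M.Normal] (hd : L ⊓ M = ⊥) :
    Function.Injective ((QuotientGroup.mk' M).comp L.subtype) := by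
  rw [injective_iff_map_eq_one]
  intro x hx
  have h1 : (x : G) ∈ L ⊓ M := mem_inf.2 ⟨x.2, (QuotientGroup.eq_one_iff _).1 hx⟩
  rw [hd, mem_bot] at h1
  exact Subtype.ext h1

theorem rankOneAt_of_cyclic {H : Type*} [Group H] [Finite H] {p : ℕ} [hp : Fact p.Prime]
    {P : Subgroup H} [IsCyclic P] {x y : H} (hx : x ∈ P) (hy : y ∈ P) (hxo : orderOf x = p)
    (hyo : orderOf y = p) : y ∈ zpowers x := by
  have h : zpowers (⟨x, hx⟩ : P) = zpowers (⟨y, hy⟩ : P) := CfsgLib.Coprime.subgroup_eq_of_natCard_eq (by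
    rw [Nat.card_zpowers, Nat.card_zpowers, ← Subgroup.orderOf_coe, ← Subgroup.orderOf_coe]
    exact hxo.trans hyo.symm)
  obtain ⟨k, hk⟩ := h.symm ▸ mem_zpowers (⟨y, hy⟩ : P)
  exact ⟨k, by simpa using congrArg Subtype.val hk⟩

/-- Thinness and conjugacy of the cyclic groups of order four pass to quotients by normal subgroups
of odd prime order. -/
theorem Thin.quotient (d : Thin G) (h4 : FourConj G) {q : ℕ} [hq : Fact q.Prime] (hq2 : q ≠ 2)
    (M : Subgroup G) [M.Normal] (hM : Nat.card M = q) : Thin (G ⧸ M) ∧ FourConj (G ⧸ M) := by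
  set f := QuotientGroup.mk' M with hf
  haveI : Fact (Nat.Prime 2) := ⟨Nat.prime_two⟩
  refine ⟨⟨fun p hp => ?_, fun P hP => ?_⟩, ?_⟩
  · haveI := Fact.mk hp
    intro P hP x hx y hy hxo hyo
    obtain ⟨L, hL, hLP, hd⟩ := exists_lift M hM hP
    subst hLP
    rcases eq_or_ne p q with rfl | hpq
    · haveI := (d.rone p hp).isCyclic_of_odd hq2 hL
      haveI : IsCyclic (L.map f) := isCyclic_of_surjective (f.subgroupMap L) (f.subgroupMap_surjective L)
      exact rankOneAt_of_cyclic hx hy hxo hyo
    · have hinj := map_injOn (hd hpq)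
      obtain ⟨a, ha, rfl⟩ := hx
      obtain ⟨b, hb, rfl⟩ := hy
      have ho : ∀ (c : G) (hc : c ∈ L), orderOf (f c) = orderOf c := fun c hc =>
        (orderOf_injective (f.comp L.subtype) hinj ⟨c, hc⟩).trans (Subgroup.orderOf_coe ⟨c, hc⟩).symm
      rw [ho a ha] at hxo
      rw [ho b hb] at hyo
      obtain ⟨k, rfl⟩ := d.rone p hp L hL a ha b hb hxo hyo
      exact ⟨k, by simp⟩
  · obtain ⟨L, hL, hLP, hd⟩ := exists_lift M hM hP
    subst hLP
    have hinj := map_injOn (hd hq2.symm)
    rcases d.two L hL with h | h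
    · exact Or.inl (isCyclic_of_surjective (f.subgroupMap L) (f.subgroupMap_surjective L))
    · refine Or.inr ?_
      rw [← h]
      exact (Nat.card_congr (Equiv.ofBijective (f.subgroupMap L)
        ⟨fun a b hab => hinj (congrArg Subtype.val hab), f.subgroupMap_surjective L⟩)).symm
  · intro x y hx hy
    have hlift : ∀ z : G ⧸ M, orderOf z = 4 → ∃ c : G, f c = z ∧ orderOf c = 4 := by
      intro z hz
      obtain ⟨L, hL, hLP, hd⟩ := exists_lift (p := 2) M hM (P := zpowers z)
        (IsPGroup.of_card (n := 2) (by rw [Nat.card_zpowers, hz]; norm_num))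
      obtain ⟨c, hc, hcz⟩ := hLP.symm ▸ mem_zpowers z
      refine ⟨c, hcz, ?_⟩
      rw [← hz, ← hcz]
      refine (Subgroup.orderOf_coe ⟨c, hc⟩).trans ?_
      exact (orderOf_injective (f.comp L.subtype) (map_injOn (hd hq2.symm)) ⟨c, hc⟩).symm
    obtain ⟨a, rfl, ha⟩ := hlift x hx
    obtain ⟨b, rfl, hb⟩ := hlift y hy
    obtain ⟨g, hg⟩ := h4 a b ha hb
    refine ⟨f g, ?_⟩
    rw [← MonoidHom.map_zpowers, hg, ← MonoidHom.map_zpowers, Subgroup.map_map, Subgroup.map_map]
    exact congrArg (fun φ => (zpowers a).map φ) (MonoidHom.ext fun t => by simp)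

/-- An automorphism of odd order of a cyclic `2`-group is trivial. -/
theorem commute_cyclic_two {R : Subgroup G} [R.Normal] [IsCyclic R] (hR : IsPGroup 2 R) {t : G}
    (ht : Odd (orderOf t)) : ∀ r ∈ R, t * r = r * t := by
  haveI : Fact (Nat.Prime 2) := ⟨Nat.prime_two⟩
  obtain ⟨i, hi⟩ := IsPGroup.iff_card.1 hR
  set φ : G →* MulAut R := MulAut.conjNormal
  have h1 : orderOf (φ t) ∣ 1 := by
    have ha : orderOf (φ t) ∣ 2 ^ (i - 1) := by
      have h := orderOf_dvd_natCard (φ t)
      rw [IsCyclic.card_mulAut, hi] at h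
      rcases Nat.eq_zero_or_pos i with rfl | hpos
      · simpa using h
      · rw [Nat.totient_prime_pow Nat.prime_two hpos] at h
        simpa using h
    rw [← ((ht.coprime_two_right).pow_right (i - 1)).gcd_eq_one]
    exact Nat.dvd_gcd (orderOf_map_dvd φ t) ha
  intro r hr
  have h2 : φ t = 1 := orderOf_eq_one_iff.1 (Nat.dvd_one.1 h1)
  have h3 := congrArg (fun e : MulAut R => ((e ⟨r, hr⟩ : R) : G)) h2
  simp only [φ, MulAut.conjNormal_apply, MulAut.one_apply] at h3
  exact mul_inv_eq_iff_eq_mul.1 h3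

/-- The case of a group without normal subgroups of odd order. -/
theorem Thin.allConj_base [Group.IsSolvable G] (d : Thin G) (h4 : FourConj G)
    (h : Cfsg.pPrimeCore 2 G = ⊥) : AllConj G := by
  haveI : Fact (Nat.Prime 2) := ⟨Nat.prime_two⟩
  haveI : Fact (Nat.Prime 3) := ⟨Nat.prime_three⟩
  set R := Cfsg.pCore 2 G with hRdef
  have hRp : IsPGroup 2 R := CfsgLib.Solvable.isPGroup_pCore 2
  haveI : R.Normal := (CfsgLib.Solvable.pCore_spec (G := G) 2).1
  have hCR : centralizer (R : Set G) ≤ R := CfsgLib.Fitting.centralizer_pCore_le h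
  -- odd elements centralizing `R` are trivial
  have htriv : ∀ t : G, Odd (orderOf t) → (∀ r ∈ R, t * r = r * t) → t = 1 := by
    intro t ht htc
    have htR : t ∈ R := hCR (mem_centralizer_iff.2 fun r hr => (htc r hr).symm)
    obtain ⟨i, hi⟩ := IsPGroup.iff_orderOf.1 hRp ⟨t, htR⟩
    rw [← Subgroup.orderOf_coe, Subtype.coe_mk] at hi
    rcases Nat.eq_zero_or_pos i with rfl | hpos
    · exact orderOf_eq_one_iff.1 (by simpa using hi)
    · exact absurd (hi ▸ even_two.pow_of_ne_zero hpos.ne') (Nat.not_even_iff_odd.2 ht)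
  have hone : ∀ x y : G, orderOf x = 2 → orderOf y = 2 → ∀ P : Subgroup G, IsPGroup 2 P → x ∈ P → y ∈ P → x = y := by
    intro x y hx hy P hP hxP hyP
    obtain ⟨k, hk⟩ := mem_powers_iff_mem_zpowers.2 (d.rone 2 Nat.prime_two P hP x hxP y hyP hx hy)
    change x ^ k = y at hk
    rw [← pow_mod_orderOf, hx] at hk
    rcases Nat.mod_two_eq_zero_or_one k with e | e <;> rw [e] at hk
    · rw [← hk, pow_zero, orderOf_one] at hy; norm_num at hy
    · simpa using hk
  -- cyclic subgroups of order four are conjugate, so are all subgroups of order four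
  have hfour : ∀ A B : Subgroup G, Nat.card A = 4 → Nat.card B = 4 →
      ∃ g : G, B = A.map (MulAut.conj g).toMonoidHom := by
    have hcyc : ∀ A : Subgroup G, Nat.card A = 4 → ∃ x : G, orderOf x = 4 ∧ A = zpowers x := by
      intro A hA
      obtain ⟨g, hg⟩ := ((d.two A (IsPGroup.of_card (n := 2) (by rw [hA]; norm_num))).resolve_right (by omega)).exists_generator
      refine ⟨g, ?_, ?_⟩
      · rw [Subgroup.orderOf_coe, orderOf_eq_card_of_forall_mem_zpowers hg, hA]
      · refine le_antisymm (fun a ha => ?_) (zpowers_le.2 g.2)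
        obtain ⟨k, hk⟩ := hg ⟨a, ha⟩
        exact ⟨k, by simpa using congrArg Subtype.val hk⟩
    intro A B hA hB
    obtain ⟨x, hx, rfl⟩ := hcyc A hA
    obtain ⟨y, hy, rfl⟩ := hcyc B hB
    exact h4 x y hx hy
  intro A B hc
  by_cases hcy : IsCyclic R
  · -- the group is a 2-group
    have hG : ∀ t : G, Odd (orderOf t) → t = 1 := fun t ht => htriv t ht (commute_cyclic_two hRp ht)
    have hGp : IsPGroup 2 G := by
      obtain ⟨P⟩ := (inferInstance : Nonempty (Sylow 2 G))
      obtain ⟨n, hn⟩ : ∃ n, Nat.card G = 2 ^ n := by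
        refine ⟨_, Nat.eq_prime_pow_of_unique_prime_dvd Nat.card_pos.ne' fun {q} hq hqd => ?_⟩
        by_contra hq2
        haveI := Fact.mk hq
        obtain ⟨t, ht⟩ := exists_prime_orderOf_dvd_card' (G := G) q hqd
        rw [hG t (ht ▸ hq.odd_of_ne_two hq2), orderOf_one] at ht
        exact hq.one_lt.ne ht
      exact IsPGroup.of_card hn
    rcases d.two ⊤ (hGp.to_subgroup ⊤) with hc' | h8
    · haveI := hc'
      haveI : IsCyclic G := isCyclic_of_surjective (Subgroup.topEquiv (G := G)).toMonoidHom (Subgroup.topEquiv (G := G)).surjective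
      refine ⟨1, ?_⟩
      rw [CfsgLib.Coprime.subgroup_eq_of_natCard_eq hc]
      exact (map_conj_one B).symm
    · rw [card_top] at h8
      have hdiv : Nat.card A ∣ 2 ^ 3 := by rw [show (2:ℕ) ^ 3 = 8 by norm_num, ← h8]; exact card_subgroup_dvd_card A
      obtain ⟨i, hi3, hi⟩ := (Nat.dvd_prime_pow Nat.prime_two).1 hdiv
      interval_cases i
      · refine ⟨1, ?_⟩
        rw [eq_bot_of_card_eq A (by simpa using hi), eq_bot_of_card_eq B (by rw [← hc]; simpa using hi)]
        simp
      · obtain ⟨x, hx⟩ := exists_prime_orderOf_dvd_card' (G := A) 2 (by rw [hi]; norm_num)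
        obtain ⟨y, hy⟩ := exists_prime_orderOf_dvd_card' (G := B) 2 (by rw [← hc, hi]; norm_num)
        have hxy := hone x y (by rw [Subgroup.orderOf_coe, hx]) (by rw [Subgroup.orderOf_coe, hy]) ⊤
          (hGp.to_subgroup ⊤) (mem_top _) (mem_top _)
        have hA : A = zpowers (x : G) := (CfsgLib.Solvable.eq_of_le_of_card_le (zpowers_le.2 x.2)
          (by rw [Nat.card_zpowers, Subgroup.orderOf_coe, hx, hi]; norm_num)).symm
        have hB : B = zpowers (y : G) := (CfsgLib.Solvable.eq_of_le_of_card_le (zpowers_le.2 y.2)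
          (by rw [Nat.card_zpowers, Subgroup.orderOf_coe, hy, ← hc, hi]; norm_num)).symm
        exact ⟨1, by rw [hA, hB, hxy]; simp⟩
      · exact hfour A B (by rw [hi]; norm_num) (by rw [← hc, hi]; norm_num)
      · refine ⟨1, ?_⟩
        rw [eq_top_of_card_eq A (by rw [hi, h8]; norm_num), eq_top_of_card_eq B (by rw [← hc, hi, h8]; norm_num)]
        simp
  -- `R` is quaternion and normal, the quotient has order one or three
  have hR8 : Nat.card R = 8 := (d.two R hRp).resolve_left hcy
  obtain ⟨z, dR⟩ := exists_quatData (d.rone 2 Nat.prime_two) hRp hcy hR8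
  obtain ⟨P, hRP⟩ := hRp.exists_le_sylow
  have hPR : (P : Subgroup G) = R := by
    refine (CfsgLib.Solvable.eq_of_le_of_card_le hRP ?_).symm
    rw [hR8, (d.two P P.2).resolve_left fun hh => hcy (by haveI := hh; exact Subgroup.isCyclic_of_le hRP)]
  have hRcop : (Nat.card R).Coprime R.index := hPR ▸ P.card_coprime_index
  obtain ⟨T, hT⟩ := Subgroup.exists_right_complement'_of_coprime hRcop
  have hTodd : Odd (Nat.card T) := by
    rw [← hT.symm.index_eq_card, ← Nat.coprime_two_left]
    exact hRcop.coprime_dvd_left (by rw [hR8]; norm_num)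
  have hT3 : Nat.card T ∣ 3 := dR.card_dvd_three hTodd (fun t _ r hr => Normal.conj_mem inferInstance r hr t)
    (fun t ht hh => htriv t (hTodd.of_dvd_nat (Subgroup.orderOf_dvd_natCard T ht)) hh)
  have hG24 : Nat.card G = 8 * Nat.card T := by rw [← hR8, hT.card_mul]
  -- subgroups of a given order
  have hodd : ∀ C : Subgroup G, (Nat.card C).Coprime 2 → Nat.card C ∣ 3 := fun C hC => by
    have h1 : Nat.card C ∣ 2 ^ 3 * 3 := (card_subgroup_dvd_card C).trans (by
      rw [hG24]; exact Nat.mul_dvd_mul_left 8 hT3)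
    exact (hC.pow_right 3).dvd_of_dvd_mul_left h1
  have hsplit : ∀ C : Subgroup G, ∃ L : Subgroup G, L ≤ C ∧ Nat.card L ∣ 3 ∧ (R ⊓ C) ⊔ L = C ∧
      Nat.card C = Nat.card ↥(R ⊓ C) * Nat.card L ∧ (R ⊓ C).relIndex C = Nat.card L := by
    intro C
    haveI : ((R ⊓ C).subgroupOf C).Normal := by rw [inf_subgroupOf_right]; infer_instance
    have h1 : Nat.card ((R ⊓ C).subgroupOf C) = Nat.card ↥(R ⊓ C) :=
      Nat.card_congr (subgroupOfEquivOfLe inf_le_right).toEquiv
    have h2 : (R ⊓ C).relIndex C ∣ R.index := by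
      rw [inf_relIndex_right]; exact relIndex_dvd_index_of_normal R C
    obtain ⟨L, hL⟩ := Subgroup.exists_right_complement'_of_coprime (N := (R ⊓ C).subgroupOf C) (by
      rw [h1]
      exact (hRcop.coprime_dvd_left (card_dvd_of_le inf_le_left)).coprime_dvd_right h2)
    have h3 : Nat.card (L.map C.subtype) = (R ⊓ C).relIndex C := by
      rw [card_map_of_injective C.subtype_injective, ← hL.symm.index_eq_card]; rfl
    refine ⟨L.map C.subtype, map_subtype_le L, hodd _ ?_, ?_, ?_, h3.symm⟩
    · rw [h3]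
      refine Nat.Coprime.symm ?_
      exact (hRcop.coprime_dvd_left (show 2 ∣ Nat.card R by rw [hR8]; norm_num)).coprime_dvd_right h2
    · have := congrArg (Subgroup.map C.subtype) hL.sup_eq_top
      rwa [Subgroup.map_sup, map_subgroupOf_eq_of_le inf_le_right, ← MonoidHom.range_eq_map, range_subtype] at this
    · rw [h3, ← relIndex_bot_left, ← relIndex_bot_left, relIndex_mul_relIndex ⊥ _ C bot_le inf_le_right]
  obtain ⟨LA, hLA, hLA3, hAj, hAc, -⟩ := hsplit A
  obtain ⟨LB, hLB, hLB3, hBj, hBc, -⟩ := hsplit B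
  have h2part : ∀ C : Subgroup G, ∃ i, i ≤ 3 ∧ Nat.card ↥(R ⊓ C) = 2 ^ i := fun C => by
    obtain ⟨i, hi, hi'⟩ := (Nat.dvd_prime_pow Nat.prime_two).1
      (show Nat.card ↥(R ⊓ C) ∣ 2 ^ 3 by rw [show (2:ℕ) ^ 3 = 8 by norm_num, ← hR8]; exact card_dvd_of_le inf_le_left)
    exact ⟨i, hi, hi'⟩
  obtain ⟨i, hi3, hiA⟩ := h2part A
  obtain ⟨j, hj3, hjB⟩ := h2part B
  obtain ⟨rfl, hLL⟩ : i = j ∧ Nat.card LA = Nat.card LB := by
    have hc2 : 2 ^ i * Nat.card LA = 2 ^ j * Nat.card LB := by rw [← hiA, ← hjB, ← hAc, ← hBc, hc]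
    have hA3 := (Nat.dvd_prime Nat.prime_three).1 hLA3
    have hB3 := (Nat.dvd_prime Nat.prime_three).1 hLB3
    interval_cases i <;> interval_cases j <;> norm_num at hc2 ⊢ <;> omega
  rcases (Nat.dvd_prime Nat.prime_three).1 hLA3 with hL1 | hL1
  · -- 2-subgroups
    have hA : A = R ⊓ A := by
      conv_lhs => rw [← hAj, eq_bot_of_card_eq LA hL1, sup_bot_eq]
    have hB : B = R ⊓ B := by
      conv_lhs => rw [← hBj, eq_bot_of_card_eq LB (hLL ▸ hL1), sup_bot_eq]
    rw [← hA] at hiA
    rw [← hB] at hjB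
    have hAR : A ≤ R := hA ▸ inf_le_left
    have hBR : B ≤ R := hB ▸ inf_le_left
    interval_cases i
    · exact ⟨1, by rw [eq_bot_of_card_eq A (by simpa using hiA), eq_bot_of_card_eq B (by simpa using hjB)]; simp⟩
    · obtain ⟨x, hx⟩ := exists_prime_orderOf_dvd_card' (G := A) 2 (by rw [hiA]; norm_num)
      obtain ⟨y, hy⟩ := exists_prime_orderOf_dvd_card' (G := B) 2 (by rw [hjB]; norm_num)
      have hxy := hone x y (by rw [Subgroup.orderOf_coe, hx]) (by rw [Subgroup.orderOf_coe, hy]) R hRp
        (hAR x.2) (hBR y.2)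
      have hA' : A = zpowers (x : G) := (CfsgLib.Solvable.eq_of_le_of_card_le (zpowers_le.2 x.2)
        (by rw [Nat.card_zpowers, Subgroup.orderOf_coe, hx, hiA]; norm_num)).symm
      have hB' : B = zpowers (y : G) := (CfsgLib.Solvable.eq_of_le_of_card_le (zpowers_le.2 y.2)
        (by rw [Nat.card_zpowers, Subgroup.orderOf_coe, hy, hjB]; norm_num)).symm
      exact ⟨1, by rw [hA', hB', hxy]; simp⟩
    · exact hfour A B (by rw [hiA]; norm_num) (by rw [hjB]; norm_num)
    · refine ⟨1, ?_⟩
      rw [CfsgLib.Solvable.eq_of_le_of_card_le hAR (by rw [hiA, hR8]; norm_num),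
        CfsgLib.Solvable.eq_of_le_of_card_le hBR (by rw [hjB, hR8]; norm_num)]
      exact (map_conj_one R).symm
  · -- subgroups of order divisible by three
    have hTcard : Nat.card T = 3 := by
      rcases (Nat.dvd_prime Nat.prime_three).1 hT3 with e | e
      · exfalso
        have h1 : Nat.card LA ∣ Nat.card G := card_subgroup_dvd_card LA
        rw [hG24, e, hL1] at h1
        norm_num at h1
      · exact e
    have hf : (Nat.card G).factorization 3 = 1 := by
      rw [hG24, hTcard, show 8 * 3 = 2 ^ 3 * 3 by norm_num,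
        Nat.factorization_mul (by norm_num) (by norm_num), Nat.Prime.factorization_pow Nat.prime_two,
        Nat.Prime.factorization Nat.prime_three]
      simp
    let SA : Sylow 3 G := Sylow.ofCard LA (by rw [hL1, hf, pow_one])
    let SB : Sylow 3 G := Sylow.ofCard LB (by rw [← hLL, hL1, hf, pow_one])
    obtain ⟨g, hg⟩ := MulAction.exists_smul_eq G SA SB
    have hgL : LA.map (MulAut.conj g).toMonoidHom = LB := by
      have := congrArg (fun S : Sylow 3 G => (S : Subgroup G)) hg
      simp [Sylow.coe_subgroup_smul, SA, SB] at this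
      exact this
    refine ⟨g, ?_⟩
    have hRA : (R ⊓ A).map (MulAut.conj g).toMonoidHom = R ⊓ B := by
      interval_cases i
      · rw [eq_bot_of_card_eq _ (by simpa using hiA : Nat.card ↥(R ⊓ A) = 1),
          eq_bot_of_card_eq _ (by simpa using hjB : Nat.card ↥(R ⊓ B) = 1), Subgroup.map_bot]
      · set A₁ := (R ⊓ A).map (MulAut.conj g).toMonoidHom
        have hA₁ : A₁ ≤ R := by
          conv_rhs => rw [← Normal.map_conj_eq R g]
          exact Subgroup.map_mono inf_le_left
        have hA₁c : Nat.card A₁ = 2 := by rw [card_map_conj, hiA]; norm_num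
        obtain ⟨x, hx⟩ := exists_prime_orderOf_dvd_card' (G := A₁) 2 (by rw [hA₁c])
        obtain ⟨y, hy⟩ := exists_prime_orderOf_dvd_card' (G := ↥(R ⊓ B)) 2 (by rw [hjB]; norm_num)
        have hxy := hone x y (by rw [Subgroup.orderOf_coe, hx]) (by rw [Subgroup.orderOf_coe, hy]) R hRp
          (hA₁ x.2) (inf_le_left (b := B) y.2)
        rw [← CfsgLib.Solvable.eq_of_le_of_card_le (zpowers_le.2 x.2)
            (by rw [Nat.card_zpowers, Subgroup.orderOf_coe, hx, hA₁c]),
          ← CfsgLib.Solvable.eq_of_le_of_card_le (zpowers_le.2 y.2)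
            (by rw [Nat.card_zpowers, Subgroup.orderOf_coe, hy, hjB]; norm_num), hxy]
      · exfalso
        -- an element of order three normalizing a cyclic group of order four
        obtain ⟨x, hx⟩ := exists_prime_orderOf_dvd_card' (G := LA) 3 (by rw [hL1])
        obtain ⟨a, ha⟩ := ((d.two (R ⊓ A) (hRp.to_le inf_le_left)).resolve_right
          (by rw [hiA]; norm_num)).exists_generator
        have hao : orderOf (a : G) = 4 := by
          rw [Subgroup.orderOf_coe, orderOf_eq_card_of_forall_mem_zpowers ha, hiA]; norm_num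
        have hxo : Odd (orderOf (x : G)) := by rw [Subgroup.orderOf_coe, hx]; decide
        have hin : (x : G) * a * (x : G)⁻¹ ∈ zpowers (a : G) := by
          obtain ⟨k, hk⟩ := ha ⟨(x : G) * a * (x : G)⁻¹, mem_inf.2
            ⟨Normal.conj_mem inferInstance _ a.2.1 _, mul_mem (mul_mem (hLA x.2) a.2.2) (inv_mem (hLA x.2))⟩⟩
          exact ⟨k, by simpa using congrArg Subtype.val hk⟩
        have := htriv (x : G) hxo (dR.centralizes_of_fix hxo (fun r hr => Normal.conj_mem inferInstance r hr _)
          a.2.1 hao (commute_of_normalizes_four hxo hao hin))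
        rw [← Subgroup.orderOf_coe, this, orderOf_one] at hx
        norm_num at hx
      · have e1 : R ⊓ A = R := CfsgLib.Solvable.eq_of_le_of_card_le inf_le_left (by rw [hiA, hR8]; norm_num)
        have e2 : R ⊓ B = R := CfsgLib.Solvable.eq_of_le_of_card_le inf_le_left (by rw [hjB, hR8]; norm_num)
        rw [e1, e2]; exact map_conj_normal R g
    conv_lhs => rw [← hBj]
    conv_rhs => rw [← hAj]
    rw [map_conj_sup, hRA, hgL]

/-- **Subgroups of equal order are conjugate** in a solvable thin group with conjugate cyclic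
subgroups of order four. -/
theorem Thin.allConj (hs : Group.IsSolvable G) (d : Thin G) (h4 : FourConj G) : AllConj G := by
  suffices h : ∀ (n : ℕ) (G : Type u) [Group G] [Finite G], Nat.card G = n → Group.IsSolvable G →
      Thin G → FourConj G → AllConj G from h _ G rfl hs d h4
  intro n
  induction n using Nat.strong_induction_on with
  | _ n ih =>
    intro G _ _ hn hs d h4
    haveI := hs
    by_cases h : Cfsg.pPrimeCore 2 G = ⊥
    · exact d.allConj_base h4 h
    · obtain ⟨M, hMn, hM1, hMle, -, -, q, hq, hexp, hMq⟩ :=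
        CfsgLib.Solvable.exists_normal_elementary_le h inferInstance
      haveI := hMn
      haveI := Fact.mk hq
      have hMc := card_minimal_of_rankOne (d.rone q hq) hMq hM1 hexp
      have hq2 : q ≠ 2 := by
        rintro rfl
        have := (CfsgLib.Solvable.coprime_card_pPrimeCore (G := G) 2).coprime_dvd_left (card_dvd_of_le hMle)
        rw [hMc] at this
        norm_num at this
      obtain ⟨d', h4'⟩ := d.quotient h4 hq2 M hMc
      exact allConj_of_quotient hs M hMc (d.rone q hq)
        (ih _ (hn ▸ CfsgLib.Solvable.card_quotient_lt hM1) (G ⧸ M) rfl inferInstance d' h4')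

end CfsgLib.EqOrder
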